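import Groth.Agent.RankLib.Bridge
import Mathlib.RingTheory.Smooth.Flat
import Mathlib.RingTheory.Etale.Basic

/-!
# A split subtorus of a geometric fibre spreads out over an affine Noetherian base
-/

set_option autoImplicit false
set_option backward.isDefEq.respectTransparency false
set_option backward.isDefEq.respectTransparency.types false

universe u

open CategoryTheory Limits AlgebraicGeometry MonoidalCategory CartesianMonoidalCategory MonObj GrpObj WithConv
open TensorProduct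

namespace Groth.Agent.RankLib

open GrpSchLib GrpSchLib.AffineHopf GModLib TorusBilin

section Units

variable {k : Type u} [Field k] {n r : ℕ} [NeZero n] (ζ : GoodRoot k n)

/-- Roots of unity attached to residue vectors. -/
noncomputable def unitVec : Multiplicative (Fin r → ZMod n) →* (Fin r → kˣ) where
  toFun t := fun i => Additive.toMul (ζ.hom (t.toAdd i))
  map_one' := funext fun i => by simp
  map_mul' a b := funext fun i => by simp

theorem ev_eq_charAlg (t : Fin r → ZMod n) : ζ.ev t = charAlg (unitVec ζ (Multiplicative.ofAdd t)) := by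
  refine MonoidAlgebra.algHom_ext (fun m => ?_) (by ext)
  rw [GoodRoot.ev_single, _root_.one_mul, charAlg_single]
  show ((Additive.toMul (ζ.hom (∑ i, (m.toAdd i : ZMod n) * t i)) : kˣ) : k) = _
  rw [map_sum, toMul_sum]
  congr 1
  refine Finset.prod_congr rfl fun i _ => ?_
  rw [← zsmul_eq_mul, map_zsmul]
  rfl

end Units

set_option maxHeartbeats 4000000 in
/-- A split subtorus of a geometric fibre of a smooth affine group over a Noetherian ring spreads out. -/
theorem exists_split_affine {R H : Type u} [CommRing R] [IsNoetherianRing R] [CommRing H] [HopfAlgebra R H]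
    [Algebra.Smooth R H] {k : Type u} [Field k] [IsAlgClosed k] [Algebra R k] {r : ℕ}
    {T : Over (Spec (CommRingCat.of k))} [GrpObj T]
    (i : T ⟶ Red.bc (Spec.map (CommRingCat.ofHom (algebraMap R k))) (sp R H)) [IsMonHom i] [Mono i]
    (hT : Red.IsTorus T) (q : T ⟶ Tor k r) [IsMonHom q] [IsIso q] :
    ∃ (A : Type u) (_ : CommRing A) (_ : Algebra R A) (_ : A →ₐ[R] k), Algebra.Smooth R A ∧
      ∃ φ : A ⊗[R] H →ₐc[A] Lau A r, Function.Surjective φ := by
  haveI : Algebra.FiniteType R H := inferInstance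
  let a := Spec.map (CommRingCat.ofHom (algebraMap R k))
  let G := sp R H
  haveI : Smooth G.hom := (HasRingHomProperty.Spec_iff (P := @Smooth)).mpr (RingHom.smooth_algebraMap.mpr ‹_›)
  haveI : IsAffineHom G.hom := inferInstanceAs (IsAffineHom (Spec.map _))
  haveI : Smooth (Red.bc a G).hom := inferInstanceAs (Smooth (pullback.snd G.hom a))
  haveI : IsAffineHom (Red.bc a G).hom := MorphismProperty.pullback_snd G.hom a ‹IsAffineHom G.hom›
  haveI : IsAffine (Red.bc a G).left := isAffine_of_isAffineHom (Red.bc a G).hom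
  haveI : IsMonHom (inv q) := inferInstanceAs (IsMonHom (asIso q).inv)
  let i₀ : Tor k r ⟶ Red.bc a G := inv q ≫ i
  haveI : IsClosedImmersion i₀.left := by
    haveI := torus_isClosedImmersion hT i
    haveI : IsIso (inv q).left := inferInstanceAs (IsIso ((Over.forget _).map (inv q)))
    show IsClosedImmersion ((inv q).left ≫ i.left)
    infer_instance
  obtain ⟨ψ, hψ, hψi⟩ := exists_psi i₀
  obtain ⟨n₀, hmain⟩ := exists_torus_nhd ψ hψ
  obtain ⟨l, hl, hlk⟩ := exists_prime_ne_zero k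
  let n := l ^ n₀
  haveI : NeZero n := ⟨pow_ne_zero _ hl.ne_zero⟩
  have hnk : (n : k) ≠ 0 := by simp [n, hlk]
  obtain ⟨R1, _, _, τR, ζR, hR1⟩ := exists_goodRoot (A := R) hnk
  haveI := hR1
  let ζk := ζR.map τR.toRingHom
  let i₀' : (VecGrp.pt k k ⟶ Tor k r) →* (VecGrp.pt k k ⟶ Red.bc a G) :=
    MonoidHom.mk' (fun p => p ≫ i₀) fun p p' => MonObj.mul_comp p p' i₀
  let tb : Fin r → (VecGrp.pt k k ⟶ T) := fun j =>
    pts k r (unitVec ζk (Multiplicative.ofAdd (Pi.single j 1))) ≫ inv q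
  have hzn : ∀ t : Multiplicative (Fin r → ZMod n), t ^ n = 1 := fun t => by
    apply Multiplicative.toAdd.injective
    ext j
    simp
  have htb : ∀ t ∈ List.ofFn tb, t ^ n = 1 := by
    intro t ht
    obtain ⟨j, rfl⟩ := List.mem_ofFn.mp ht
    show (pts k r _ ≫ inv q) ^ n = 1
    rw [← MonObj.pow_comp]
    refine (congrArg (· ≫ inv q) ?_).trans (MonObj.one_comp _)
    show pts k r _ ^ n = 1
    rw [← map_pow, ← map_pow, hzn, map_one, map_one]
  obtain ⟨Y, π, σ, hσ, C, _, c, i', hπ, hCs, -, -, hcm, -, -, hi', hg⟩ :=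
    exists_central_lifts G a i hT hnk (List.ofFn tb) htb
  haveI := hπ; haveI := hcm
  choose g hgn hgc hgσ using fun j => hg (tb j) (List.mem_ofFn.mpr ⟨j, rfl⟩)
  -- an affine chart
  let y₀ : Y := σ (IsLocalRing.closedPoint k)
  obtain ⟨W, hW, hyW, -⟩ := exists_isAffineOpen_mem_and_subset (show y₀ ∈ (⊤ : Y.Opens) from trivial)
  let A₀ := Γ(Y, W)
  obtain ⟨φ₀, hφ₀⟩ := Spec.map_surjective (hW.fromSpec ≫ π)
  letI : Algebra R A₀ := φ₀.hom.toAlgebra
  have hsrc : Spec.map (CommRingCat.ofHom (algebraMap R A₀)) = hW.fromSpec ≫ π := hφ₀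
  haveI : Algebra.Smooth R A₀ := RingHom.smooth_algebraMap.mp
    ((HasRingHomProperty.Spec_iff (P := @Smooth) (φ := CommRingCat.ofHom (algebraMap R A₀))).mp
      (by rw [hsrc]; infer_instance))
  obtain ⟨σW, hσW⟩ : ∃ σW, σW ≫ hW.fromSpec = σ := ⟨IsOpenImmersion.lift hW.fromSpec σ (by
    rw [hW.range_fromSpec]
    rintro _ ⟨p, rfl⟩
    rw [@Subsingleton.elim (PrimeSpectrum k) _ p (IsLocalRing.closedPoint k)]
    exact hyW), IsOpenImmersion.lift_fac _ _ _⟩
  obtain ⟨f₀, hf₀⟩ := Spec.map_surjective σW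
  have hτc : f₀.hom.comp (algebraMap R A₀) = algebraMap R k := by
    have e : Spec.map (CommRingCat.ofHom (algebraMap R A₀) ≫ f₀) = a := by
      rw [Spec.map_comp, hsrc, hf₀, reassoc_of% hσW, hσ]
    exact congrArg CommRingCat.Hom.hom (Spec.map_injective e)
  let τ₀ : A₀ →ₐ[R] k := { f₀.hom with commutes' := fun x => RingHom.congr_fun hτc x }
  let A₁ := A₀ ⊗[R] R1
  let τ₁ : A₁ →ₐ[R] k := Algebra.TensorProduct.productMap τ₀ τR
  haveI : Algebra.Smooth R A₁ := Algebra.Smooth.comp R A₀ A₁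
  let ζ : GoodRoot A₁ n := ζR.map (Algebra.TensorProduct.includeRight : R1 →ₐ[R] A₁).toRingHom
  have hζ : ∀ (t : Fin r → ZMod n) (x : Lau k r), (ζ.map τ₁.toRingHom).ev t x = ζk.ev t x := fun t x => by
    have hz : (ζ.map τ₁.toRingHom).chi t = ζk.chi t := MonoidHom.ext fun m => by
      rw [GoodRoot.map_chi, GoodRoot.map_chi, GoodRoot.map_chi]
      show Algebra.TensorProduct.productMap τ₀ τR ((1 : A₀) ⊗ₜ[R] ζR.chi t m) = τR (ζR.chi t m)
      simp
    simp only [GoodRoot.ev, hz]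
  let inc : A₀ →ₐ[R] A₁ := Algebra.TensorProduct.includeLeft
  let w : sp R A₁ ⟶ (Over.map π).obj (𝟙_ (Over Y)) :=
    Over.homMk (Spec.map (CommRingCat.ofHom inc.toRingHom) ≫ hW.fromSpec) (by
      show (Spec.map _ ≫ hW.fromSpec) ≫ 𝟙 Y ≫ π = Spec.map (CommRingCat.ofHom (algebraMap R A₁))
      rw [Category.id_comp, Category.assoc, ← hsrc, ← Spec.map_comp]
      congr 1)
  let Θ : (𝟙_ (Over Y) ⟶ C) →* (sp R A₁ ⟶ G) :=
    ((MonoidHom.mk' (fun p => w ≫ p) fun p p' => MonObj.comp_mul w p p') : ((Over.map π).obj (𝟙_ (Over Y)) ⟶ G) →* _).comp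
      ((thetaHom π (𝟙_ (Over Y))).comp (MonoidHom.mk' (fun p => p ≫ c) fun p p' => MonObj.mul_comp p p' c))
  obtain ⟨Φ, hΦ⟩ := exists_hom_of_central g hgn fun j x => by
    have e := hgc j _ x
    rw [toUnit_unique (toUnit _) (𝟙 _), Category.id_comp] at e
    exact e.symm
  let ρ : Multiplicative (Fin r → ZMod n) →* WithConv (H →ₐ[R] A₁) :=
    (Spec.mapMulEquiv (R := R)).symm.toMonoidHom.comp (Θ.comp Φ)
  have hρ : ∀ t, spMap (pt ρ t) = Θ (Φ (Multiplicative.ofAdd t)) := fun t =>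
    (spMap_eq_mapMulEquiv _).trans (MulEquiv.apply_symm_apply _ _)
  -- comparison with the torsion points of the torus
  let Λ : Multiplicative (Fin r → ZMod n) →* (sp R k ⟶ G) :=
    ((MonoidHom.mk' (fun p => spMap τ₁ ≫ p) fun p p' => MonObj.comp_mul (spMap τ₁) p p') : (sp R A₁ ⟶ G) →* _).comp
      (Θ.comp Φ)
  let Ψ : Multiplicative (Fin r → ZMod n) →* (sp R k ⟶ G) :=
    ((MonoidHom.mk' (fun p => idPt ≫ p) fun p p' => MonObj.comp_mul idPt p p') :
      ((Over.map a).obj (sp k k) ⟶ G) →* _).comp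
      ((thetaHom a _).comp (i₀'.comp ((pts k r).comp (unitVec ζk))))
  have hΛΨ : Λ = Ψ := hom_ext_single fun j => by
    refine Over.OverMorphism.ext ?_
    show (spMap τ₁).left ≫ (w ≫ thetaHom π _ (Φ (Multiplicative.ofAdd (Pi.single j 1)) ≫ c)).left =
      𝟙 _ ≫ (pts k r (unitVec ζk (Multiplicative.ofAdd (Pi.single j 1))) ≫ i₀).left ≫ pullback.fst G.hom a
    rw [hΦ, Category.id_comp]
    show Spec.map (CommRingCat.ofHom τ₁.toRingHom) ≫ (Spec.map (CommRingCat.ofHom inc.toRingHom) ≫ hW.fromSpec) ≫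
      (g j ≫ c).left ≫ pullback.fst G.hom π = _
    have h1 : Spec.map (CommRingCat.ofHom τ₁.toRingHom) ≫ Spec.map (CommRingCat.ofHom inc.toRingHom) ≫ hW.fromSpec = σ := by
      rw [← Spec.map_comp_assoc, ← hσW, ← hf₀]
      congr 2
      exact CommRingCat.hom_ext (RingHom.ext fun x => by
        show Algebra.TensorProduct.productMap τ₀ τR (x ⊗ₜ[R] (1 : R1)) = τ₀ x
        simp)
    rw [Category.assoc, reassoc_of% h1, Over.comp_left, Category.assoc, reassoc_of% (hgσ j).symm]
    have h2 : (tb j ≫ i').left ≫ pullback.fst C.hom σ ≫ c.left ≫ pullback.fst G.hom π =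
        (tb j ≫ i' ≫ fibreHom hσ c).left ≫ pullback.fst G.hom a := by
      simp only [Over.comp_left, Category.assoc, fibreHom_left_fst]
    rw [h2, hi', show tb j ≫ i = pts k r (unitVec ζk (Multiplicative.ofAdd (Pi.single j 1))) ≫ i₀ from
      Category.assoc _ _ _]
  have hk : ∀ t h, τ₁ (pt ρ t h) = (ζ.map τ₁.toRingHom).ev t (ψ h) := fun t h => by
    rw [hζ]
    refine AlgHom.congr_fun (spMap_injective (A := k) (B := H)
      (f := τ₁.comp (pt ρ t)) (g := ((ζk.ev t).restrictScalars R).comp ψ) ?_) h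
    rw [← spMap_comp, ← spMap_comp, hρ, hψi]
    refine (DFunLike.congr_fun hΛΨ (Multiplicative.ofAdd t)).trans (Over.OverMorphism.ext ?_)
    show 𝟙 _ ≫ (pts k r (unitVec ζk (Multiplicative.ofAdd t)) ≫ i₀).left ≫ pullback.fst G.hom a =
      Spec.map (CommRingCat.ofHom ((ζk.ev t).restrictScalars R).toRingHom) ≫ 𝟙 _ ≫ i₀.left ≫ pullback.fst G.hom a
    rw [Category.id_comp, Category.id_comp, Over.comp_left, Category.assoc, ev_eq_charAlg]
    rfl
  obtain ⟨f, hf, φ, hφ⟩ := hmain n (Nat.lt_pow_self hl.one_lt).le A₁ ζ ρ τ₁ hk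
  refine ⟨Localization.Away f, inferInstance, inferInstance,
    IsLocalization.liftAlgHom (M := Submonoid.powers f) (f := τ₁) fun y => ?_, Algebra.Smooth.comp R A₁ _, φ, hφ⟩
  obtain ⟨m, hm⟩ := y.2
  rw [← hm]
  simpa using (isUnit_iff_ne_zero.mpr hf).pow m

end Groth.Agent.RankLib
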