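import Groth.Agent.MultTypeLib.HopfModel
import Mathlib.RingTheory.Smooth.NoetherianDescent

/-!
# Smooth Hopf algebras come from smooth Hopf algebras over Noetherian rings

The descent of a finitely presented Hopf algebra, keeping track of smoothness.
-/

universe u

open TensorProduct Coalgebra Bialgebra

noncomputable section

namespace Groth.Agent.RankLib

open DirColim (IsColim Trans)
open MultTypeLib

variable {G : Type u} [CommRing G] {X : Type u} [CommRing X] [Algebra G X]
variable (Δ : X →ₐ[G] X ⊗[G] X) (ε : X →ₐ[G] G) (S : X →ₐ[G] X)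

set_option maxHeartbeats 3000000 in
/-- A pre-Hopf algebra which becomes a Hopf algebra over an extension is one over a finitely generated stage. -/
theorem exists_hopf_stage {R : Type u} [CommRing R] [Algebra G R] [IsNoetherianRing G] [Algebra.FiniteType G X] [Algebra.Smooth G X]
    {A : Type u} [CommRing A] [HopfAlgebra R A] (e : R ⊗[G] X ≃ₐ[R] A)
    (hΔ : ∀ x, comul (R := R) (e (1 ⊗ₜ x)) = Algebra.TensorProduct.map (e : R ⊗[G] X →ₐ[R] A) (e : R ⊗[G] X →ₐ[R] A)
      (sq R (Algebra.TensorProduct.includeRight : X →ₐ[G] R ⊗[G] X) (Δ x)))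
    (hε : ∀ x, counit (R := R) (e (1 ⊗ₜ x)) = algebraMap G R (ε x))
    (hS : ∀ x, HopfAlgebraStruct.antipode R (e (1 ⊗ₜ x)) = e (1 ⊗ₜ S x)) :
    ∃ (G' : Type u) (_ : CommRing G') (_ : Algebra G G') (_ : Algebra G' R) (_ : IsScalarTower G G' R),
      IsNoetherianRing G' ∧ Function.Injective (algebraMap G' R) ∧
      ∃ (X' : Type u) (_ : CommRing X') (_ : HopfAlgebra G' X'), Algebra.Smooth G' X' ∧ Algebra.FiniteType G' X' ∧
        Nonempty (R ⊗[G'] X' ≃ₐc[R] A) := by
  classical
  obtain ⟨sX, hsX⟩ := Algebra.FiniteType.out (R := G) (A := X)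
  let eh : R ⊗[G] X →ₐ[R] A := e
  have hΔe : ∀ z, comul (R := R) (e z) = Algebra.TensorProduct.map eh eh (comulBC R Δ z) := by
    have : (Bialgebra.comulAlgHom R A).comp eh = (Algebra.TensorProduct.map eh eh).comp (comulBC R Δ) :=
      ext_gens (s := Set.univ) (by simp) fun x _ => by simp [eh, comulBC_one_tmul, hΔ]
    exact fun z => AlgHom.congr_fun this z
  have hεe : ∀ z, counit (R := R) (e z) = counitBC R ε z := by
    have : (Bialgebra.counitAlgHom R A).comp eh = counitBC R ε :=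
      ext_gens (s := Set.univ) (by simp) fun x _ => by simp [eh, counitBC_one_tmul, hε]
    exact fun z => AlgHom.congr_fun this z
  have hSe : ∀ z, HopfAlgebraStruct.antipode R (e z) = e (antipodeBC R S z) := by
    have : (HopfAlgebra.antipodeAlgHom R A).comp eh = eh.comp (antipodeBC R S) :=
      ext_gens (s := Set.univ) (by simp) fun x _ => by simp [eh, antipodeBC_one_tmul, hS]
    exact fun z => AlgHom.congr_fun this z
  -- the defects die in `R`
  have hco : ∀ x, (1 : R) ⊗ₜ[G] coassocDef Δ x = 0 := by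
    intro x
    apply (cubeEquiv (X := X) R).injective
    rw [map_zero, ← coassocDef_bc]
    apply (TensorProduct.congr e.toLinearEquiv (TensorProduct.congr e.toLinearEquiv e.toLinearEquiv)).injective
    rw [map_zero, coassocDef, map_sub, sub_eq_zero]
    generalize (1 : R) ⊗ₜ[G] x = z
    have h1 : ∀ w : (R ⊗[G] X) ⊗[R] (R ⊗[G] X),
        TensorProduct.congr e.toLinearEquiv (TensorProduct.congr e.toLinearEquiv e.toLinearEquiv)
          (Algebra.TensorProduct.assoc R R R _ _ _ (Algebra.TensorProduct.map (comulBC R Δ) (AlgHom.id R _) w)) =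
        TensorProduct.assoc R A A A (LinearMap.rTensor A comul (Algebra.TensorProduct.map eh eh w)) := by
      intro w
      induction w using TensorProduct.induction_on with
      | zero => simp
      | add u v hu hv => simp only [map_add, hu, hv]
      | tmul a b =>
        simp only [Algebra.TensorProduct.map_tmul, AlgHom.id_apply, LinearMap.rTensor_tmul]
        rw [show comul (R := R) (eh a) = _ from hΔe a]
        generalize comulBC R Δ a = v
        induction v using TensorProduct.induction_on with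
        | zero => simp
        | add u v hu hv => simp only [TensorProduct.add_tmul, map_add, hu, hv]
        | tmul c d => simp [eh]
    have h2 : ∀ w : (R ⊗[G] X) ⊗[R] (R ⊗[G] X),
        TensorProduct.congr e.toLinearEquiv (TensorProduct.congr e.toLinearEquiv e.toLinearEquiv)
          (Algebra.TensorProduct.map (AlgHom.id R _) (comulBC R Δ) w) =
        LinearMap.lTensor A comul (Algebra.TensorProduct.map eh eh w) := by
      intro w
      induction w using TensorProduct.induction_on with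
      | zero => simp
      | add u v hu hv => simp only [map_add, hu, hv]
      | tmul a b =>
        simp only [Algebra.TensorProduct.map_tmul, AlgHom.id_apply, LinearMap.lTensor_tmul, TensorProduct.congr_tmul]
        rw [show comul (R := R) (eh b) = _ from hΔe b]
        rfl
    rw [h1, h2, ← hΔe]
    exact Coalgebra.coassoc_apply (e z)
  have hcR : ∀ x, (1 : R) ⊗ₜ[G] counitDefR Δ ε x = 0 := by
    intro x
    rw [← counitDefR_bc, counitDefR, sub_eq_zero]
    generalize (1 : R) ⊗ₜ[G] x = z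
    apply e.injective
    have h1 : ∀ w : (R ⊗[G] X) ⊗[R] (R ⊗[G] X),
        e (Algebra.TensorProduct.lid R _ (Algebra.TensorProduct.map (counitBC R ε) (AlgHom.id R _) w)) =
        TensorProduct.lid R A (LinearMap.rTensor A counit (Algebra.TensorProduct.map eh eh w)) := by
      intro w
      induction w using TensorProduct.induction_on with
      | zero => simp
      | add u v hu hv => simp only [map_add, hu, hv]
      | tmul a b => simp [eh, hεe]
    rw [h1, ← hΔe, Coalgebra.rTensor_counit_comul, TensorProduct.lid_tmul, one_smul]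
  have hcL : ∀ x, (1 : R) ⊗ₜ[G] counitDefL Δ ε x = 0 := by
    intro x
    rw [← counitDefL_bc, counitDefL, sub_eq_zero]
    generalize (1 : R) ⊗ₜ[G] x = z
    apply e.injective
    have h1 : ∀ w : (R ⊗[G] X) ⊗[R] (R ⊗[G] X),
        e (Algebra.TensorProduct.rid R R _ (Algebra.TensorProduct.map (AlgHom.id R _) (counitBC R ε) w)) =
        TensorProduct.rid R A (LinearMap.lTensor A counit (Algebra.TensorProduct.map eh eh w)) := by
      intro w
      induction w using TensorProduct.induction_on with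
      | zero => simp
      | add u v hu hv => simp only [map_add, hu, hv]
      | tmul a b => simp [eh, hεe]
    rw [h1, ← hΔe, Coalgebra.lTensor_counit_comul, TensorProduct.rid_tmul, one_smul]
  have haR : ∀ x, (1 : R) ⊗ₜ[G] antipodeDefR Δ ε S x = 0 := by
    intro x
    rw [← antipodeDefR_bc, antipodeDefR, sub_eq_zero]
    generalize (1 : R) ⊗ₜ[G] x = z
    apply e.injective
    have h1 : ∀ w : (R ⊗[G] X) ⊗[R] (R ⊗[G] X),
        e (Algebra.TensorProduct.lift (antipodeBC R S) (AlgHom.id R _) (fun _ _ => .all _ _) w) =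
        LinearMap.mul' R A (LinearMap.rTensor A (HopfAlgebraStruct.antipode R) (Algebra.TensorProduct.map eh eh w)) := by
      intro w
      induction w using TensorProduct.induction_on with
      | zero => simp
      | add u v hu hv => simp only [map_add, hu, hv]
      | tmul a b => simp [eh, hSe]
    rw [h1, ← hΔe, HopfAlgebra.mul_antipode_rTensor_comul_apply, AlgEquiv.commutes, hεe]
  have haL : ∀ x, (1 : R) ⊗ₜ[G] antipodeDefL Δ ε S x = 0 := by
    intro x
    rw [← antipodeDefL_bc, antipodeDefL, sub_eq_zero]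
    generalize (1 : R) ⊗ₜ[G] x = z
    apply e.injective
    have h1 : ∀ w : (R ⊗[G] X) ⊗[R] (R ⊗[G] X),
        e (Algebra.TensorProduct.lift (AlgHom.id R _) (antipodeBC R S) (fun _ _ => .all _ _) w) =
        LinearMap.mul' R A (LinearMap.lTensor A (HopfAlgebraStruct.antipode R) (Algebra.TensorProduct.map eh eh w)) := by
      intro w
      induction w using TensorProduct.induction_on with
      | zero => simp
      | add u v hu hv => simp only [map_add, hu, hv]
      | tmul a b => simp [eh, hSe]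
    rw [h1, ← hΔe, HopfAlgebra.mul_antipode_lTensor_comul_apply, AlgEquiv.commutes, hεe]
  -- and hence at a stage
  have hC := isColim_fg G R
  let i₀ : {S : Subalgebra G R // S.FG} := ⟨⊥, Subalgebra.fg_bot⟩
  obtain ⟨i₁, φ₁, h₁⟩ := DirColim.exists_push_eq_zero_finset hC (X ⊗[G] (X ⊗[G] X)) sX
    (i := i₀) (fun x => (1 : i₀.1) ⊗ₜ coassocDef Δ x) fun x _ => by simpa using hco x
  obtain ⟨i₂, φ₂, h₂⟩ := DirColim.exists_push_eq_zero_finset hC X
    (sX.image (counitDefR Δ ε) ∪ sX.image (counitDefL Δ ε) ∪ sX.image (antipodeDefR Δ ε S) ∪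
      sX.image (antipodeDefL Δ ε S))
    (i := i₁) (fun d => (1 : i₁.1) ⊗ₜ d) fun d hd => by
      simp only [Finset.mem_union, Finset.mem_image] at hd
      rcases hd with ((⟨x, -, rfl⟩ | ⟨x, -, rfl⟩) | ⟨x, -, rfl⟩) | ⟨x, -, rfl⟩
      · simpa using hcR x
      · simpa using hcL x
      · simpa using haR x
      · simpa using haL x
  let G' := i₂.1
  have k₁ : ∀ x ∈ sX, coassocDef (comulBC G' Δ) ((1 : G') ⊗ₜ x) = 0 := fun x hx => by
    have h := congrArg (DirColim.push (X ⊗[G] (X ⊗[G] X)) φ₂) (h₁ x hx)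
    rw [map_zero, Algebra.TensorProduct.map_tmul, Algebra.TensorProduct.map_tmul, map_one, map_one] at h
    rw [coassocDef_bc]
    exact (congrArg (cubeEquiv (X := X) G') h).trans (LinearEquiv.map_zero _)
  have k₂ : ∀ (x : X), x ∈ sX → counitDefR (comulBC G' Δ) (counitBC G' ε) ((1 : G') ⊗ₜ x) = 0 ∧
      counitDefL (comulBC G' Δ) (counitBC G' ε) ((1 : G') ⊗ₜ x) = 0 ∧
      antipodeDefR (comulBC G' Δ) (counitBC G' ε) (antipodeBC G' S) ((1 : G') ⊗ₜ x) = 0 ∧
      antipodeDefL (comulBC G' Δ) (counitBC G' ε) (antipodeBC G' S) ((1 : G') ⊗ₜ x) = 0 := fun x hx => by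
    have key : ∀ d ∈ sX.image (counitDefR Δ ε) ∪ sX.image (counitDefL Δ ε) ∪ sX.image (antipodeDefR Δ ε S) ∪
        sX.image (antipodeDefL Δ ε S), (1 : G') ⊗ₜ[G] d = 0 := fun d hd => by
      have h := h₂ d hd
      rwa [Algebra.TensorProduct.map_tmul, map_one] at h
    exact ⟨(counitDefR_bc G' Δ ε x).trans (key _ (Finset.mem_union_left _ (Finset.mem_union_left _ (Finset.mem_union_left _ (Finset.mem_image_of_mem _ hx))))),
      (counitDefL_bc G' Δ ε x).trans (key _ (Finset.mem_union_left _ (Finset.mem_union_left _ (Finset.mem_union_right _ (Finset.mem_image_of_mem _ hx))))),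
      (antipodeDefR_bc G' Δ ε S x).trans (key _ (Finset.mem_union_left _ (Finset.mem_union_right _ (Finset.mem_image_of_mem _ hx)))),
      (antipodeDefL_bc G' Δ ε S x).trans (key _ (Finset.mem_union_right _ (Finset.mem_image_of_mem _ hx)))⟩
  let bi : Bialgebra G' (G' ⊗[G] X) := Bialgebra.ofAlgHom (comulBC G' Δ) (counitBC G' ε)
    (by refine ext_gens hsX fun x hx => ?_; exact sub_eq_zero.mp (k₁ x hx))
    (by refine ext_gens hsX fun x hx => (Algebra.TensorProduct.lid G' (G' ⊗[G] X)).injective ?_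
        exact (sub_eq_zero.mp (k₂ x hx).1).trans (by simp))
    (by refine ext_gens hsX fun x hx => (Algebra.TensorProduct.rid G' G' (G' ⊗[G] X)).injective ?_
        exact (sub_eq_zero.mp (k₂ x hx).2.1).trans (by simp))
  let hopf : HopfAlgebra G' (G' ⊗[G] X) := @HopfAlgebra.ofAlgHom _ _ _ _ bi (antipodeBC G' S)
    (by refine ext_gens hsX fun x hx => ?_; exact sub_eq_zero.mp (k₂ x hx).2.2.1)
    (by refine ext_gens hsX fun x hx => ?_; exact sub_eq_zero.mp (k₂ x hx).2.2.2)
  have : Algebra.FiniteType G G' := (Subalgebra.fg_iff_finiteType _).mp i₂.2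
  refine ⟨G', inferInstance, inferInstance, inferInstance, inferInstance,
    Algebra.FiniteType.isNoetherianRing G G', Subtype.val_injective, G' ⊗[G] X, inferInstance, hopf, inferInstanceAs (Algebra.Smooth G' (G' ⊗[G] X)), inferInstanceAs (Algebra.FiniteType G' (G' ⊗[G] X)), ?_⟩
  let e' : R ⊗[G'] (G' ⊗[G] X) ≃ₐ[R] A := (Algebra.TensorProduct.cancelBaseChange G G' R R X).trans e
  have he' : ∀ x, e' ((1 : R) ⊗ₜ ((1 : G') ⊗ₜ x)) = e ((1 : R) ⊗ₜ x) := fun x => by simp [e']
  refine ⟨BialgEquiv.ofAlgEquiv e' (ext_gens (adjoin_one_tmul_eq_top (P := G')) ?_)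
    (ext_gens (adjoin_one_tmul_eq_top (P := G')) ?_)⟩
  · rintro _ ⟨x, rfl⟩
    show counit (R := R) (e' ((1 : R) ⊗ₜ ((1 : G') ⊗ₜ x))) = counit (R := R) ((1 : R) ⊗ₜ[G'] ((1 : G') ⊗ₜ[G] x))
    rw [he', hε, TensorProduct.counit_tmul, Bialgebra.counit_one, Algebra.smul_def, mul_one,
      show counit (R := G') ((1 : G') ⊗ₜ[G] x) = counitBC G' ε (1 ⊗ₜ x) from rfl, counitBC_one_tmul,
      ← IsScalarTower.algebraMap_apply]
  · rintro _ ⟨x, rfl⟩
    show _ = comul (R := R) (e' ((1 : R) ⊗ₜ ((1 : G') ⊗ₜ x)))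
    rw [he', hΔ]
    show Algebra.TensorProduct.map _ _ (comul ((SemiBialgHom.baseChange G' R (G' ⊗[G] X)).toAlgHom ((1 : G') ⊗ₜ x))) = _
    rw [(SemiBialgHom.baseChange G' R (G' ⊗[G] X)).comul_comp,
      show comul (R := G') ((1 : G') ⊗ₜ[G] x) = comulBC G' Δ (1 ⊗ₜ x) from rfl, comulBC_one_tmul]
    generalize Δ x = w
    induction w using TensorProduct.induction_on with
    | zero => simp
    | add u v hu hv => simp only [map_add, hu, hv]
    | tmul a b => simp [SemiBialgHom.baseChange, e', eh, he']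

section Aux

variable {R A : Type u} [CommRing R] [CommRing A] [HopfAlgebra R A] {R₀ : Type u} [CommRing R₀]
  [IsNoetherianRing R₀] [Algebra R₀ R] {C₀ : Type u} [CommRing C₀] [Algebra R₀ C₀] [Algebra.FiniteType R₀ C₀] [Algebra.Smooth R₀ C₀]

set_option maxHeartbeats 1000000 in
theorem exists_hopf_of_lifts {G : Type u} [CommRing G] [Algebra R₀ G] [Algebra G R] [IsScalarTower R₀ G R]
    [IsNoetherianRing G] (e₀ : R ⊗[R₀] C₀ ≃ₐ[R] A) (δ : C₀ →ₐ[R₀] G ⊗[R₀] (C₀ ⊗[R₀] C₀)) (ε₁ : C₀ →ₐ[R₀] G)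
    (σ : C₀ →ₐ[R₀] G ⊗[R₀] C₀)
    (hδ : ∀ c, Algebra.TensorProduct.map e₀.toAlgHom e₀.toAlgHom (bcTwo R C₀ (Algebra.TensorProduct.map
      (IsScalarTower.toAlgHom R₀ G R) (AlgHom.id R₀ _) (δ c))) = comul (R := R) (e₀ ((1 : R) ⊗ₜ c)))
    (hε : ∀ c, algebraMap G R (ε₁ c) = counit (R := R) (e₀ ((1 : R) ⊗ₜ c)))
    (hσ : ∀ c, e₀ (Algebra.TensorProduct.map (IsScalarTower.toAlgHom R₀ G R) (AlgHom.id R₀ C₀) (σ c)) =
      HopfAlgebraStruct.antipode R (e₀ ((1 : R) ⊗ₜ c))) :
    ∃ (G' : Type u) (_ : CommRing G') (_ : Algebra G' R), IsNoetherianRing G' ∧ Function.Injective (algebraMap G' R) ∧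
      ∃ (X : Type u) (_ : CommRing X) (_ : HopfAlgebra G' X),
        Algebra.Smooth G' X ∧ Algebra.FiniteType G' X ∧ Nonempty (R ⊗[G'] X ≃ₐc[R] A) := by
  let e : R ⊗[G] (G ⊗[R₀] C₀) ≃ₐ[R] A := (Algebra.TensorProduct.cancelBaseChange R₀ G R R C₀).trans e₀
  have he : ∀ r g c, e (r ⊗ₜ (g ⊗ₜ c)) = e₀ ((algebraMap G R g * r) ⊗ₜ c) := fun r g c => by
    simp [e, Algebra.smul_def]
  let ε : G ⊗[R₀] C₀ →ₐ[G] G := Algebra.TensorProduct.lift (AlgHom.id G G) ε₁ fun _ _ => .all _ _
  let S : G ⊗[R₀] C₀ →ₐ[G] G ⊗[R₀] C₀ := Algebra.TensorProduct.lift (Algebra.ofId G _) σ fun _ _ => .all _ _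
  obtain ⟨G', _, _, _, _, hN, hinj, X', _, hopf, hsm, hft, ⟨eA⟩⟩ := exists_hopf_stage (dblLift G δ) ε S e
    (fun x => by
      refine Eq.trans (AlgHom.congr_fun (ext_gens (P := R) (adjoin_one_tmul_eq_top (P := G)) ?_ :
        (Bialgebra.comulAlgHom R A).comp e.toAlgHom = (Algebra.TensorProduct.map e.toAlgHom e.toAlgHom).comp
          (comulBC R (dblLift G δ))) ((1 : R) ⊗ₜ x)) (by rw [AlgHom.comp_apply, comulBC_one_tmul])
      rintro _ ⟨c, rfl⟩
      rw [AlgHom.comp_apply, AlgHom.comp_apply, comulBC_one_tmul, dblLift_one_tmul]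
      show comul (R := R) (e ((1 : R) ⊗ₜ ((1 : G) ⊗ₜ c))) = _
      rw [he, map_one, one_mul, ← hδ]
      generalize δ c = w
      induction w using TensorProduct.induction_on with
      | zero => simp
      | add u v hu hv => simp only [map_add, hu, hv]
      | tmul g v =>
        induction v using TensorProduct.induction_on with
        | zero => simp
        | add u v hu hv => simp only [map_add, TensorProduct.tmul_add, hu, hv]
        | tmul a b => simp [bcTwo_tmul, he])
    (fun x => by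
      refine Eq.trans (AlgHom.congr_fun (ext_gens (P := R) (adjoin_one_tmul_eq_top (P := G)) ?_ :
        (Bialgebra.counitAlgHom R A).comp e.toAlgHom = counitBC R ε) ((1 : R) ⊗ₜ x)) (counitBC_one_tmul R ε x)
      rintro _ ⟨c, rfl⟩
      rw [counitBC_one_tmul, show ε ((1 : G) ⊗ₜ c) = ε₁ c by simp [ε], hε]
      show counit (R := R) (e ((1 : R) ⊗ₜ ((1 : G) ⊗ₜ c))) = _
      rw [he, map_one, one_mul])
    (fun x => by
      refine Eq.trans (AlgHom.congr_fun (ext_gens (P := R) (adjoin_one_tmul_eq_top (P := G)) ?_ :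
        (HopfAlgebra.antipodeAlgHom R A).comp e.toAlgHom = e.toAlgHom.comp (antipodeBC R S))
          ((1 : R) ⊗ₜ x)) (congrArg e (antipodeBC_one_tmul R S x))
      rintro _ ⟨c, rfl⟩
      rw [AlgHom.comp_apply, AlgHom.comp_apply, antipodeBC_one_tmul,
        show S ((1 : G) ⊗ₜ c) = σ c by simp [S, ← Algebra.TensorProduct.one_def]]
      show HopfAlgebraStruct.antipode R (e ((1 : R) ⊗ₜ ((1 : G) ⊗ₜ c))) = e _
      rw [he, map_one, one_mul, ← hσ]
      generalize σ c = w
      induction w using TensorProduct.induction_on with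
      | zero => simp
      | add u v hu hv => simp only [map_add, TensorProduct.tmul_add, hu, hv]
      | tmul g a => simp [he])
  exact ⟨G', inferInstance, inferInstance, hN, hinj, _, _, hopf, hsm, hft, ⟨eA⟩⟩

set_option maxHeartbeats 1000000 in
theorem exists_hopf_model_aux [Algebra.FinitePresentation R₀ C₀] (e₀ : R ⊗[R₀] C₀ ≃ₐ[R] A) :
    ∃ (G : Type u) (_ : CommRing G) (_ : Algebra G R), IsNoetherianRing G ∧ Function.Injective (algebraMap G R) ∧
      ∃ (X : Type u) (_ : CommRing X) (_ : HopfAlgebra G X),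
        Algebra.Smooth G X ∧ Algebra.FiniteType G X ∧ Nonempty (R ⊗[G] X ≃ₐc[R] A) := by
  let De := AlgEquiv.ofBijective _ (bcTwo_bijective (R₀ := R₀) R C₀)
  let δR : C₀ →ₐ[R₀] R ⊗[R₀] (C₀ ⊗[R₀] C₀) :=
    ((De.symm.toAlgHom.comp ((Algebra.TensorProduct.map e₀.symm.toAlgHom e₀.symm.toAlgHom).comp
      ((Bialgebra.comulAlgHom R A).comp e₀.toAlgHom))).restrictScalars R₀).comp Algebra.TensorProduct.includeRight
  let εR : C₀ →ₐ[R₀] R := (((Bialgebra.counitAlgHom R A).comp e₀.toAlgHom).restrictScalars R₀).comp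
    Algebra.TensorProduct.includeRight
  let σR : C₀ →ₐ[R₀] R ⊗[R₀] C₀ :=
    ((e₀.symm.toAlgHom.comp ((HopfAlgebra.antipodeAlgHom R A).comp e₀.toAlgHom)).restrictScalars R₀).comp
      Algebra.TensorProduct.includeRight
  have hC := isColim_fg R₀ R
  obtain ⟨i₁, δ₁, hδ₁⟩ := (hC.tensorRight (C₀ ⊗[R₀] C₀)).exists_lift δR
  obtain ⟨i₂, ε₂, hε₂⟩ := hC.exists_lift εR
  obtain ⟨i₃, σ₃, hσ₃⟩ := (hC.tensorRight C₀).exists_lift σR
  obtain ⟨i₄, ⟨φ₁⟩, ⟨φ₂⟩⟩ := hC.directed i₁ i₂
  obtain ⟨i, ⟨φ₄⟩, ⟨φ₃⟩⟩ := hC.directed i₄ i₃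
  have : Algebra.FiniteType R₀ i.1 := (Subalgebra.fg_iff_finiteType _).mp i.2
  have : IsNoetherianRing i.1 := Algebra.FiniteType.isNoetherianRing R₀ i.1
  refine exists_hopf_of_lifts (G := i.1) e₀ ((DirColim.push _ (φ₄.comp φ₁)).comp δ₁) ((φ₄.comp φ₂).1.comp ε₂)
    ((DirColim.push C₀ φ₃).comp σ₃) (fun c => ?_) (fun c => ?_) (fun c => ?_)
  · rw [show IsScalarTower.toAlgHom R₀ i.1 R = i.1.val from AlgHom.ext fun _ => rfl, AlgHom.comp_apply,
      DirColim.map_push (φ₄.comp φ₁), show Algebra.TensorProduct.map i₁.1.val (AlgHom.id R₀ _) (δ₁ c) = δR c from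
        AlgHom.congr_fun hδ₁ c]
    show Algebra.TensorProduct.map e₀.toAlgHom e₀.toAlgHom (De (De.symm (Algebra.TensorProduct.map
      e₀.symm.toAlgHom e₀.symm.toAlgHom (comul (R := R) (e₀ ((1 : R) ⊗ₜ c)))))) = _
    rw [AlgEquiv.apply_symm_apply]
    generalize comul (R := R) (e₀ ((1 : R) ⊗ₜ c)) = w
    induction w using TensorProduct.induction_on with
    | zero => simp
    | add u v hu hv => simp only [map_add, hu, hv]
    | tmul a b => simp
  · exact (Trans.apply (φ₄.comp φ₂) (ε₂ c)).trans (AlgHom.congr_fun hε₂ c)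
  · rw [show IsScalarTower.toAlgHom R₀ i.1 R = i.1.val from AlgHom.ext fun _ => rfl, AlgHom.comp_apply,
      DirColim.map_push φ₃, show Algebra.TensorProduct.map i₃.1.val (AlgHom.id R₀ C₀) (σ₃ c) = σR c from
        AlgHom.congr_fun hσ₃ c]
    exact e₀.apply_symm_apply _

end Aux

/-- A smooth Hopf algebra has a smooth model over a Noetherian subring. -/
theorem exists_smooth_hopf_model (R A : Type u) [CommRing R] [CommRing A] [HopfAlgebra R A]
    [Algebra.Smooth R A] :
    ∃ (G : Type u) (_ : CommRing G) (_ : Algebra G R), IsNoetherianRing G ∧ Function.Injective (algebraMap G R) ∧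
      ∃ (X : Type u) (_ : CommRing X) (_ : HopfAlgebra G X),
        Algebra.Smooth G X ∧ Algebra.FiniteType G X ∧ Nonempty (R ⊗[G] X ≃ₐc[R] A) := by
  obtain ⟨R₀, C₀, _, _, hfg, hsm, ⟨e⟩⟩ := Algebra.Smooth.exists_subalgebra_fg ℤ R A
  have : Algebra.FiniteType ℤ R₀ := (Subalgebra.fg_iff_finiteType R₀).1 hfg
  have : IsNoetherianRing R₀ := Algebra.FiniteType.isNoetherianRing ℤ R₀
  exact exists_hopf_model_aux e.symm

end Groth.Agent.RankLib
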