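import Groth.Agent.RankLib.Main
import Groth.Agent.RankLib.SmoothModel
import Groth.Agent.GModLib.RedRankOpen
import Groth.Agent.RedOpenLib.Nbhd
import Mathlib.RingTheory.Etale.StandardEtale
import Mathlib.GroupTheory.Subgroup.Center
import Mathlib.RingTheory.RootsOfUnity.AlgebraicallyClosed

/-!
# A split subtorus of a geometric fibre spreads out smooth-locally

A torus of a geometric fibre of a smooth affine group is the fibre of a split subtorus over a smooth neighbourhood.
-/

set_option autoImplicit false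
set_option backward.isDefEq.respectTransparency false
set_option backward.isDefEq.respectTransparency.types false

universe u

open CategoryTheory Limits AlgebraicGeometry MonoidalCategory CartesianMonoidalCategory MonObj GrpObj WithConv
open TensorProduct

namespace Groth.Agent.RankLib

open GrpSchLib GrpSchLib.AffineHopf GModLib TorusBilin

/-- A root of unity exists over an étale neighbourhood of a geometric point. -/
theorem exists_goodRoot {A : Type u} [CommRing A] {k : Type u} [Field k] [IsAlgClosed k] [Algebra A k] {n : ℕ}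
    [NeZero n] (hn : (n : k) ≠ 0) :
    ∃ (A' : Type u) (_ : CommRing A') (_ : Algebra A A') (τ : A' →ₐ[A] k) (_ : GoodRoot A' n),
      Algebra.Etale A A' := by
  haveI : NeZero (n : k) := ⟨hn⟩
  obtain ⟨z, hz⟩ := HasEnoughRootsOfUnity.exists_primitiveRoot k n
  let Pr : Polynomial A := ∏ d ∈ Finset.Ioo 0 n, (1 - Polynomial.X ^ d)
  let P : StandardEtalePair A :=
    { f := Polynomial.X ^ n - Polynomial.C 1
      monic_f := Polynomial.monic_X_pow_sub_C 1 (NeZero.ne n)
      g := Polynomial.C (n : A) * Pr
      cond := by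
        refine ⟨Polynomial.X * Pr, -(Polynomial.C (n : A) * Pr), 1, ?_⟩
        rw [pow_one, Polynomial.derivative_sub, Polynomial.derivative_C, sub_zero, Polynomial.derivative_X_pow,
          Polynomial.C_1]
        have h : (Polynomial.X : Polynomial A) ^ n = Polynomial.X ^ (n - 1) * Polynomial.X := by
          rw [← pow_succ, Nat.sub_add_cancel NeZero.one_le]
        rw [h]
        ring }
  have hz' : P.HasMap z := by
    refine ⟨?_, ?_⟩
    · simp [P, hz.pow_eq_one]
    · simp only [P, Pr, map_mul, Polynomial.aeval_C, map_natCast, map_prod, map_sub, map_one, map_pow,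
        Polynomial.aeval_X]
      refine isUnit_iff_ne_zero.mpr (mul_ne_zero hn (Finset.prod_ne_zero_iff.mpr fun d hd => sub_ne_zero.mpr ?_))
      exact fun h => hz.pow_ne_one_of_pos_of_lt (Finset.mem_Ioo.mp hd).1.ne' (Finset.mem_Ioo.mp hd).2 h.symm
  obtain ⟨hX1, hX2⟩ := P.hasMap_X
  have hXn : P.X ^ n = 1 := by
    simpa [P, sub_eq_zero] using hX1
  simp only [P, Pr, map_mul, Polynomial.aeval_C, map_natCast, map_prod, map_sub, map_one, map_pow,
    Polynomial.aeval_X, IsUnit.mul_iff, IsUnit.prod_iff] at hX2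
  exact ⟨P.Ring, inferInstance, inferInstance, P.lift z hz',
    { z := Units.ofPowEqOne P.X n hXn (NeZero.ne n)
      pow_eq_one := Units.ext (by simpa using hXn)
      isUnit_n := hX2.1
      isUnit_sub := fun d h0 hd => hX2.2 d (Finset.mem_Ioo.mpr ⟨h0, hd⟩) }, inferInstance⟩

/-- Scalar points through an affine map. -/
noncomputable def idPt {R k : Type u} [CommRing R] [CommRing k] [Algebra R k] :
    sp R k ⟶ (Over.map (Spec.map (CommRingCat.ofHom (algebraMap R k)))).obj (sp k k) :=
  Over.homMk (𝟙 _) (by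
    show 𝟙 _ ≫ Spec.map (CommRingCat.ofHom (algebraMap k k)) ≫ Spec.map (CommRingCat.ofHom (algebraMap R k)) =
      Spec.map (CommRingCat.ofHom (algebraMap R k))
    rw [show CommRingCat.ofHom (algebraMap k k) = 𝟙 _ from rfl, Spec.map_id, Category.id_comp, Category.id_comp])

/-- The translation of the split torus over an algebra. -/
noncomputable def idTor {R k : Type u} [CommRing R] [CommRing k] [Algebra R k] {M : Type} [CommMonoid M] :
    sp R (MonoidAlgebra k M) ⟶ (Over.map (Spec.map (CommRingCat.ofHom (algebraMap R k)))).obj (sp k (MonoidAlgebra k M)) :=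
  Over.homMk (𝟙 _) (by
    show 𝟙 _ ≫ Spec.map (CommRingCat.ofHom (algebraMap k (MonoidAlgebra k M))) ≫
      Spec.map (CommRingCat.ofHom (algebraMap R k)) = Spec.map (CommRingCat.ofHom (algebraMap R (MonoidAlgebra k M)))
    rw [← Spec.map_comp, Category.id_comp, ← CommRingCat.ofHom_comp, ← IsScalarTower.algebraMap_eq])

set_option maxHeartbeats 2000000 in
/-- A closed subgroup torus of a fibre, as a generating family of Laurent polynomials. -/
theorem exists_psi {R H : Type u} [CommRing R] [CommRing H] [HopfAlgebra R H] {k : Type u} [Field k] [Algebra R k]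
    {r : ℕ} (i : Tor k r ⟶ Red.bc (Spec.map (CommRingCat.ofHom (algebraMap R k))) (sp R H))
    [IsClosedImmersion i.left] :
    ∃ ψ : H →ₐ[R] Lau k r, Algebra.adjoin k (Set.range ψ) = ⊤ ∧
      spMap ψ = idTor ≫ DSPtsLib.theta (Spec.map (CommRingCat.ofHom (algebraMap R k))) i := by
  obtain ⟨ψ, hψ⟩ := exists_eq_spMap (idTor ≫ DSPtsLib.theta (Spec.map (CommRingCat.ofHom (algebraMap R k))) i)
  refine ⟨ψ, ?_, hψ.symm⟩
  let e := pullbackSpecIso R H k
  let j : Spec (CommRingCat.of (Coord k r)) ⟶ Spec (CommRingCat.of (H ⊗[R] k)) := i.left ≫ e.hom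
  haveI : IsClosedImmersion j := inferInstanceAs (IsClosedImmersion (i.left ≫ e.hom))
  obtain ⟨χ, hχ⟩ := Spec.map_surjective j
  haveI : IsClosedImmersion (Spec.map χ) := hχ.symm ▸ ‹IsClosedImmersion j›
  have hsurj : Function.Surjective χ.hom := by
    obtain ⟨-, h2⟩ := IsClosedImmersion.isAffine_surjective_of_isAffine (Spec.map χ)
    intro y
    obtain ⟨x, hx⟩ := h2 ((Scheme.ΓSpecIso _).inv y)
    refine ⟨(Scheme.ΓSpecIso _).hom x, ?_⟩
    have h3 := ConcreteCategory.congr_hom (Scheme.ΓSpecIso_naturality χ) x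
    refine Eq.trans h3.symm ?_
    show (Scheme.ΓSpecIso _).hom ((Spec.map χ).appTop x) = y
    rw [hx]
    exact (Scheme.ΓSpecIso _).commRingCatIsoToRingEquiv.apply_symm_apply y
  have h1 : ∀ h : H, χ.hom (h ⊗ₜ 1) = ψ h := by
    have e1 : Spec.map χ ≫ Spec.map (CommRingCat.ofHom (algebraMap H (H ⊗[R] k))) = (spMap ψ).left := by
      rw [hχ, ← hψ]
      show (i.left ≫ e.hom) ≫ _ = 𝟙 _ ≫ i.left ≫ pullback.fst _ _
      rw [Category.assoc, Category.id_comp, ← pullbackSpecIso_inv_fst', Iso.hom_inv_id_assoc]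
      rfl
    rw [show (spMap ψ).left = Spec.map (CommRingCat.ofHom ψ.toRingHom) from rfl, ← Spec.map_comp] at e1
    exact fun h => RingHom.congr_fun (congrArg CommRingCat.Hom.hom (Spec.map_injective e1)) h
  have h2 : ∀ c : k, χ.hom (1 ⊗ₜ c) = algebraMap k (Lau k r) c := by
    have e1 : Spec.map χ ≫ Spec.map (CommRingCat.ofHom (Algebra.TensorProduct.includeRight (R := R) (A := H) (B := k)).toRingHom) =
        Spec.map (CommRingCat.ofHom (algebraMap k (Lau k r))) := by
      rw [hχ]
      show (i.left ≫ e.hom) ≫ _ = _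
      exact ((Category.assoc _ _ _).trans (congrArg (i.left ≫ ·) (pullbackSpecIso_hom_snd R H k))).trans (Over.w i)
    rw [← Spec.map_comp] at e1
    exact fun c => RingHom.congr_fun (congrArg CommRingCat.Hom.hom (Spec.map_injective e1)) c
  refine top_le_iff.mp fun y _ => ?_
  obtain ⟨x, rfl⟩ := hsurj y
  induction x using TensorProduct.induction_on with
  | zero => rw [map_zero]; exact zero_mem _
  | add a b ha hb => rw [map_add]; exact add_mem (ha trivial) (hb trivial)
  | tmul h c =>
    rw [show h ⊗ₜ[R] c = (h ⊗ₜ 1) * (1 ⊗ₜ c) by rw [Algebra.TensorProduct.tmul_mul_tmul, _root_.mul_one, _root_.one_mul],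
      map_mul, h1, h2]
    exact mul_mem (Algebra.subset_adjoin (Set.mem_range_self h)) (Subalgebra.algebraMap_mem _ c)

section Central

variable {M : Type u} [Group M] {n r : ℕ} [NeZero n]

/-- Commuting elements killed by `n` define a homomorphism. -/
theorem exists_hom_of_central (g : Fin r → M) (hn : ∀ i, g i ^ n = 1) (hc : ∀ i x, g i * x = x * g i) :
    ∃ Φ : Multiplicative (Fin r → ZMod n) →* M, ∀ i, Φ (Multiplicative.ofAdd (Pi.single i 1)) = g i := by
  classical
  letI : CommGroup (Subgroup.center M) :=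
    { (inferInstance : Group (Subgroup.center M)) with
      mul_comm := fun a b => Subtype.ext (Subgroup.mem_center_iff.mp b.2 a.1) }
  let gc : Fin r → Subgroup.center M := fun i => ⟨g i, Subgroup.mem_center_iff.mpr fun x => (hc i x).symm⟩
  have hgn : ∀ i, gc i ^ n = 1 := fun i => Subtype.ext (hn i)
  let Φ : Multiplicative (Fin r → ZMod n) →* Subgroup.center M :=
    { toFun := fun t => ∏ i, gc i ^ (t.toAdd i).val
      map_one' := by simp
      map_mul' := fun a b => by
        rw [← Finset.prod_mul_distrib]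
        refine Finset.prod_congr rfl fun i _ => ?_
        rw [← _root_.pow_add, toAdd_mul, Pi.add_apply, ZMod.val_add, ← pow_eq_pow_mod _ (hgn i)] }
  refine ⟨(Subgroup.center M).subtype.comp Φ, fun i => ?_⟩
  show ((∏ j, gc j ^ ((Pi.single i (1 : ZMod n) : Fin r → ZMod n) j).val : Subgroup.center M) : M) = g i
  rw [Finset.prod_eq_single i (fun j _ hj => by rw [Pi.single_eq_of_ne hj, ZMod.val_zero, pow_zero])
    (by simp), Pi.single_eq_same]
  rcases eq_or_ne n 1 with rfl | h1
  · have := hn i
    rw [pow_one] at this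
    simp [gc, this]
  · haveI : Fact (1 < n) := ⟨lt_of_le_of_ne (Nat.one_le_iff_ne_zero.mpr (NeZero.ne n)) h1.symm⟩
    rw [ZMod.val_one, pow_one]

/-- Homomorphisms on residue vectors are determined by the basis. -/
theorem hom_ext_single {Φ Ψ : Multiplicative (Fin r → ZMod n) →* M}
    (h : ∀ i, Φ (Multiplicative.ofAdd (Pi.single i 1)) = Ψ (Multiplicative.ofAdd (Pi.single i 1))) : Φ = Ψ := by
  classical
  refine MonoidHom.ext fun t => ?_
  have ht : t = ∏ i, Multiplicative.ofAdd (Pi.single i (1 : ZMod n) : Fin r → ZMod n) ^ (t.toAdd i).val := by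
    apply Multiplicative.toAdd.injective
    rw [toAdd_prod]
    ext j
    simp [Finset.sum_apply, Pi.single_apply, -ZMod.natCast_val, ZMod.natCast_zmod_val]
  show t ∈ Φ.eqLocus Ψ
  rw [ht]
  exact Subgroup.prod_mem _ fun i _ => pow_mem (h i) _

end Central

end Groth.Agent.RankLib
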