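import Groth.Agent.GModLib.TorsionLifts

/-!
# A family of centralizers cut out by finitely many torsion sections

The smooth family extending the centralizer of a torus of a fibre is, over the whole base of the family, the
centralizer of finitely many torsion sections lifting torsion points of the torus.
-/

set_option autoImplicit false
set_option backward.isDefEq.respectTransparency false
set_option backward.isDefEq.respectTransparency.types false

universe u

open CategoryTheory Limits AlgebraicGeometry MonoidalCategory CartesianMonoidalCategory MonObj GrpObj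

namespace Groth.Agent.RankLib

open GrpSchLib GModLib

variable {S Y : Scheme.{u}}

/-- The base change of a section. -/
noncomputable def secBC (π : Y ⟶ S) {D : Over S} (g : 𝟙_ (Over S) ⟶ D) : 𝟙_ (Over Y) ⟶ Red.bc π D :=
  Over.homMk (pullback.lift (π ≫ g.left) (𝟙 _) (by
    rw [Category.assoc, Over.w g]
    exact (Category.comp_id π).trans (Category.id_comp π).symm)) (pullback.lift_snd _ _ _)

theorem secBC_left_fst (π : Y ⟶ S) {D : Over S} (g : 𝟙_ (Over S) ⟶ D) :
    (secBC π g).left ≫ pullback.fst D.hom π = π ≫ g.left := pullback.lift_fst _ _ _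

theorem theta_secBC (π : Y ⟶ S) {D : Over S} (g : 𝟙_ (Over S) ⟶ D) (X : Over Y) :
    DSPtsLib.theta π (toUnit X ≫ secBC π g) = toUnit ((Over.map π).obj X) ≫ g := by
  refine Over.OverMorphism.ext ?_
  show (X.hom ≫ pullback.lift _ _ _) ≫ pullback.fst D.hom π = (X.hom ≫ π) ≫ g.left
  rw [Category.assoc, pullback.lift_fst, Category.assoc]

theorem secBC_map (π : Y ⟶ S) {D Z : Over S} (g : 𝟙_ (Over S) ⟶ D) (d : D ⟶ Z) :
    secBC π g ≫ (Over.pullback π).map d = secBC π (g ≫ d) := by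
  refine bc_hom_ext ?_
  show (pullback.lift _ _ _ ≫ pullback.lift _ _ _) ≫ _ = pullback.lift _ _ _ ≫ _
  rw [Category.assoc, pullback.lift_fst, pullback.lift_fst_assoc, pullback.lift_fst, Over.comp_left, Category.assoc]

theorem theta_commute (π : Y ⟶ S) {D : Over S} [GrpObj D] (g : 𝟙_ (Over S) ⟶ D) {X : Over Y} (x : X ⟶ Red.bc π D) :
    x * (toUnit X ≫ secBC π g) = (toUnit X ≫ secBC π g) * x ↔
      DSPtsLib.theta π x * (toUnit _ ≫ g) = (toUnit _ ≫ g) * DSPtsLib.theta π x := by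
  rw [← (DSPtsLib.theta_bijective (H := D) π).1.eq_iff, DSPtsLib.theta_mul, DSPtsLib.theta_mul, theta_secBC]

variable {k : Type u} [Field k] [IsAlgClosed k] {Γ : Over (Spec (CommRingCat.of k))}

set_option maxHeartbeats 2000000 in
theorem exists_family_sections_aux [TopologicalSpace.NoetherianSpace Γ.left] (M : TopologicalSpace.Closeds Γ.left) :
    ∀ {S : Scheme.{u}} (Z : Over S) [GrpObj Z] [Smooth Z.hom] [IsSeparated Z.hom] [QuasiCompact Z.hom]
      (a : Spec (CommRingCat.of k) ⟶ S) (j : Red.bc a Z ⟶ Γ) [IsClosedImmersion j.left],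
      Set.range j.left = (M : Set Γ.left) →
      ∀ (T : Over (Spec (CommRingCat.of k))) [GrpObj T] (i : T ⟶ Red.bc a Z) [IsMonHom i] [Mono i], Red.IsTorus T →
        ∃ (Y : Scheme.{u}) (π : Y ⟶ S) (σ : Spec (CommRingCat.of k) ⟶ Y) (hσ : σ ≫ π = a) (C : Over Y) (_ : GrpObj C)
          (c : C ⟶ Red.bc π Z), Smooth π ∧ Smooth C.hom ∧ IsMonHom c ∧ IsClosedImmersion c.left ∧
            Red.IsCentralizerOf i (fibreHom hσ c) ∧
            ∃ L : List (ℕ × (𝟙_ (Over Y) ⟶ C)),
              (∀ p ∈ L, (p.1 : k) ≠ 0 ∧ p.2 ^ p.1 = 1 ∧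
                (∀ (X : Over Y) (x : X ⟶ C), x * (toUnit X ≫ p.2) = (toUnit X ≫ p.2) * x) ∧
                ∃ t : VecGrp.pt k k ⟶ T,
                  (t ≫ i).left ≫ pullback.fst Z.hom a = σ ≫ p.2.left ≫ c.left ≫ pullback.fst Z.hom π) ∧
              ∀ (X : Over Y) (x : X ⟶ Red.bc π Z),
                (∀ p ∈ L, x * (toUnit X ≫ p.2 ≫ c) = (toUnit X ≫ p.2 ≫ c) * x) → ∃ x' : X ⟶ C, x' ≫ c = x := by
  induction M using WellFoundedLT.induction with
  | ind M ih =>
  intro S Z _ _ _ _ a j _ hM T _ i _ _ hT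
  haveI : Smooth (Red.bc a Z).hom := inferInstanceAs (Smooth (pullback.snd Z.hom a))
  haveI : IsSeparated (Red.bc a Z).hom := inferInstanceAs (IsSeparated (pullback.snd Z.hom a))
  rcases central_or_exists_torsion hT i with hc | ⟨t, n, z, hn, ht, hcomm⟩
  · have hσ : a ≫ 𝟙 S = a := Category.comp_id a
    let ι₁ : Red.bc (𝟙 S) Z ⟶ Red.bc (𝟙 S) Z := 𝟙 _
    haveI : IsClosedImmersion ι₁.left := inferInstanceAs (IsClosedImmersion (𝟙 (Red.bc (𝟙 S) Z).left))
    haveI : Smooth (Red.bc (𝟙 S) Z).hom := inferInstanceAs (Smooth (pullback.snd Z.hom (𝟙 S)))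
    refine ⟨S, 𝟙 S, a, hσ, Red.bc (𝟙 S) Z, inferInstance, ι₁, inferInstance, inferInstance, inferInstance,
      inferInstance, ?_, [], fun p hp => by simp at hp, fun X x _ => ⟨x, Category.comp_id x⟩⟩
    show Red.IsCentralizerOf i (fibreHom hσ (𝟙 (Red.bc (𝟙 S) Z)))
    rw [fibreHom_id]
    refine ⟨inferInstance, inferInstance, fun X x => ⟨fun _ X' f h => hc X' (f ≫ x) h, fun _ => ?_⟩⟩
    exact ⟨x ≫ (fibreIso hσ Z).inv, by rw [Category.assoc, Iso.inv_hom_id, Category.comp_id]⟩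
  · haveI : NeZero n := ⟨fun h => hn (by simp [h])⟩
    let one : VecGrp.pt k k ⟶ 𝟙_ (Over (Spec (CommRingCat.of k))) := toUnit _
    let pt' : 𝟙_ (Over (Spec (CommRingCat.of k))) ⟶ VecGrp.pt k k := toPt _
    have hone : one ≫ pt' = 𝟙 _ := toUnit_toPt
    let t' : 𝟙_ (Over (Spec (CommRingCat.of k))) ⟶ Red.bc a Z := pt' ≫ t ≫ i
    have ht' : t' ^ n = 1 := by
      show (pt' ≫ t ≫ i) ^ n = 1
      rw [← Category.assoc, ← MonObj.pow_comp, ← MonObj.comp_pow, ht, MonObj.comp_one, MonObj.one_comp]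
    obtain ⟨P, τ, σ₁, hσ₁, D, _, d, gN, hτ, hDs, hDsep, hDqc, hdm, hdc, hgNn, hgNc, hgNσ, hcrit, hD⟩ :=
      exists_step_point t' hn ht'
    haveI := hτ; haveI := hDs; haveI := hDsep; haveI := hDqc; haveI := hdm; haveI := hdc
    let j₁ := fibreHom hσ₁ d
    haveI : IsMonHom j₁ := isMonHom_fibreHom hσ₁ d
    haveI hj₁c : IsClosedImmersion j₁.left := isClosedImmersion_fibreHom hσ₁ d
    haveI : Mono j₁ := Over.mono_of_mono_left j₁
    haveI : IsClosedImmersion (j₁ ≫ j).left := by rw [Over.comp_left]; infer_instance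
    let M₁ : TopologicalSpace.Closeds Γ.left :=
      ⟨Set.range (j₁ ≫ j).left, (j₁ ≫ j).left.isClosedEmbedding.isClosed_range⟩
    have hlt : M₁ < M := by
      have hle : (M₁ : Set Γ.left) ⊆ M := by
        rw [← hM]
        rintro _ ⟨q, rfl⟩
        exact ⟨j₁.left q, by rw [← Scheme.Hom.comp_apply, ← Over.comp_left]⟩
      refine lt_of_le_of_ne hle fun heq => hcomm ?_
      have hz : (z ≫ j).left (IsLocalRing.closedPoint k) ∈ (M : Set Γ.left) := by
        rw [← hM, Over.comp_left, Scheme.Hom.comp_apply]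
        exact ⟨_, rfl⟩
      rw [← heq] at hz
      obtain ⟨q, hq⟩ := hz
      obtain ⟨w, hw⟩ := exists_lift_point j₁ z ⟨q, j.left.isClosedEmbedding.injective (by
        rw [← Scheme.Hom.comp_apply, ← Over.comp_left, hq, Over.comp_left, Scheme.Hom.comp_apply])⟩
      have hq' := (hD _ z).mp ⟨w, hw⟩
      rw [show toUnit (VecGrp.pt k k) ≫ t' = t ≫ i by rw [show t' = pt' ≫ t ≫ i from rfl, reassoc_of% hone]] at hq'
      exact hq'.symm
    obtain ⟨i₁, hi₁⟩ := (hD T i).mpr (by
      show _ * (toUnit T ≫ pt' ≫ t ≫ i) = (toUnit T ≫ pt' ≫ t ≫ i) * _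
      have e := congrArg (· ≫ i) (TorusBilin.comm_of_isTorus hT _ (𝟙 T) (toUnit T ≫ pt' ≫ t))
      simpa only [MonObj.mul_comp, Category.id_comp, Category.assoc] using e)
    haveI : IsMonHom (i₁ ≫ j₁) := hi₁ ▸ ‹IsMonHom i›
    haveI : IsMonHom i₁ := isMonHom_of_comp i₁ j₁
    haveI : Mono (i₁ ≫ j₁) := hi₁ ▸ ‹Mono i›
    haveI : Mono i₁ := mono_of_mono i₁ j₁
    obtain ⟨Y, π, σ, hσ, C, _, c, hπ, hCs, hcm, hcc, hC, L, hL, hLc⟩ := ih M₁ hlt D σ₁ (j₁ ≫ j) rfl T i₁ hT
    haveI := hπ; haveI := hcm; haveI := hcc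
    haveI : Mono c := Over.mono_of_mono_left c
    let dπ := fibreHom (a := π) (rfl : π ≫ τ = π ≫ τ) d
    let κ := fibreIso (a := π) (rfl : π ≫ τ = π ≫ τ) Z
    haveI : IsMonHom κ.inv := inferInstance
    have hdπ : dπ = (Over.pullback π).map d ≫ κ.hom := fibreHom_eq' _ d
    haveI : IsMonHom dπ := isMonHom_fibreHom _ d
    haveI : IsClosedImmersion dπ.left := isClosedImmersion_fibreHom _ d
    haveI : Mono dπ := Over.mono_of_mono_left dπ
    have hσ' : σ ≫ π ≫ τ = a := by rw [reassoc_of% hσ, hσ₁]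
    let xπ := secBC π gN
    have hxc : ∀ (X : Over Y) (y : X ⟶ Red.bc π D), y * (toUnit X ≫ xπ) = (toUnit X ≫ xπ) * y :=
      fun X y => (theta_commute π gN y).mpr (hgNc _ _)
    obtain ⟨g₀, hg₀⟩ := hLc _ xπ fun p _ => by
      have e := hxc (𝟙_ (Over Y)) (toUnit _ ≫ p.2 ≫ c)
      rw [toUnit_unique (toUnit (𝟙_ (Over Y))) (𝟙 _)] at e ⊢
      simpa only [Category.id_comp] using e.symm
    refine ⟨Y, π ≫ τ, σ, hσ', C, inferInstance, c ≫ dπ, inferInstance, hCs, inferInstance,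
      by rw [Over.comp_left]; infer_instance, ?_, (n, g₀) :: L, fun p hp => ?_, fun X x hx => ?_⟩
    · rw [show fibreHom hσ' (c ≫ dπ) = fibreHom hσ c ≫ j₁ from fibreHom_comp hσ₁ hσ rfl c d]
      haveI : IsMonHom (fibreHom hσ c) := hC.1
      haveI : Mono (fibreHom hσ c) := hC.2.1
      refine ⟨inferInstance, inferInstance, fun X x => ⟨?_, fun h => ?_⟩⟩
      · rintro ⟨y, rfl⟩ X' f s
        have e := congrArg (· ≫ j₁) ((hC.2.2 X (y ≫ fibreHom hσ c)).mp ⟨y, rfl⟩ X' f s)
        rw [← hi₁]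
        simpa only [MonObj.mul_comp, Category.assoc] using e
      · obtain ⟨x₁, rfl⟩ := (hD X x).mpr (by
          have e := h X (𝟙 X) (toUnit X ≫ pt' ≫ t)
          simpa only [Category.id_comp, Category.assoc] using e)
        obtain ⟨y, hy⟩ := (hC.2.2 X x₁).mpr fun X' f s => by
          rw [← cancel_mono j₁, MonObj.mul_comp, MonObj.mul_comp, Category.assoc, Category.assoc, hi₁]
          exact h X' f s
        exact ⟨y, by rw [← Category.assoc, hy]⟩
    · rcases List.mem_cons.mp hp with rfl | hp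
      · refine ⟨hn, ?_, fun X y => ?_, t, ?_⟩
        · rw [← cancel_mono c, MonObj.pow_comp, hg₀, MonObj.one_comp]
          refine (DSPtsLib.theta_bijective (H := D) π).1 ?_
          show thetaHom π _ (xπ ^ n) = thetaHom π _ 1
          rw [_root_.map_pow, _root_.map_one]
          show (DSPtsLib.theta π xπ) ^ n = 1
          rw [show xπ = toUnit (𝟙_ (Over Y)) ≫ xπ by rw [toUnit_unique (toUnit _) (𝟙 _), Category.id_comp],
            theta_secBC, ← MonObj.comp_pow, hgNn, MonObj.comp_one]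
        · rw [← cancel_mono c, MonObj.mul_comp, MonObj.mul_comp, Category.assoc, hg₀]
          exact hxc X (y ≫ c)
        · have e0 : pt'.left = 𝟙 (Spec (CommRingCat.of k)) := rfl
          have e1 : (t ≫ i).left = t'.left := ((congrArg (· ≫ (t ≫ i).left) e0).trans
            (Category.id_comp _)).symm.trans (Over.comp_left (f := pt') (g := t ≫ i)).symm
          rw [e1, hgNσ, ← hσ, Category.assoc]
          congr 1
          rw [Over.comp_left, Category.assoc, fibreHom_left_fst, ← reassoc_of% (secBC_left_fst π gN),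
            ← Category.assoc (Over.Hom.left _) c.left, ← Over.comp_left, hg₀]
      · obtain ⟨h1, h2, h3, s, hs⟩ := hL p hp
        refine ⟨h1, h2, h3, s, ?_⟩
        rw [← hi₁, ← Category.assoc s, Over.comp_left, Category.assoc, fibreHom_left_fst, reassoc_of% hs,
          Over.comp_left, Category.assoc, fibreHom_left_fst]
    · have hg₀' : g₀ ≫ c ≫ dπ = secBC π (gN ≫ d) ≫ κ.hom := by
        rw [← Category.assoc, hg₀, hdπ, ← Category.assoc, secBC_map]
      obtain ⟨x₁, rfl⟩ : ∃ x₁, x₁ ≫ κ.hom = x := ⟨x ≫ κ.inv, by simp⟩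
      have h0 := hx _ (List.mem_cons_self ..)
      simp only at h0
      rw [hg₀', ← Category.assoc, ← MonObj.mul_comp, ← MonObj.mul_comp, cancel_mono κ.hom] at h0
      obtain ⟨x₂, hx₂⟩ := (BC.exists_factor_iff π x₁).mpr ((hcrit _ _).mpr ((theta_commute π (gN ≫ d) x₁).mp h0))
      have hx₂' : x₂ ≫ dπ = x₁ ≫ κ.hom := by rw [hdπ, ← Category.assoc, hx₂]
      obtain ⟨x₃, hx₃⟩ := hLc X x₂ fun p hp => by
        rw [← cancel_mono dπ, MonObj.mul_comp, MonObj.mul_comp, hx₂']
        simpa only [Category.assoc] using hx p (List.mem_cons_of_mem _ hp)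
      exact ⟨x₃, by rw [← Category.assoc, hx₃, hx₂']⟩

/-- The centralizer of a torus of a geometric fibre spreads out as the centralizer of torsion sections. -/
theorem exists_family_sections {S : Scheme.{u}} (G : Over S) [GrpObj G] [Smooth G.hom] [IsSeparated G.hom]
    [QuasiCompact G.hom] (a : Spec (CommRingCat.of k) ⟶ S) {T : Over (Spec (CommRingCat.of k))} [GrpObj T]
    (i : T ⟶ Red.bc a G) [IsMonHom i] [Mono i] (hT : Red.IsTorus T) :
    ∃ (Y : Scheme.{u}) (π : Y ⟶ S) (σ : Spec (CommRingCat.of k) ⟶ Y) (hσ : σ ≫ π = a) (C : Over Y) (_ : GrpObj C)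
      (c : C ⟶ Red.bc π G), Smooth π ∧ Smooth C.hom ∧ IsMonHom c ∧ IsClosedImmersion c.left ∧
        Red.IsCentralizerOf i (fibreHom hσ c) ∧
        ∃ L : List (ℕ × (𝟙_ (Over Y) ⟶ C)),
          (∀ p ∈ L, (p.1 : k) ≠ 0 ∧ p.2 ^ p.1 = 1 ∧
            (∀ (X : Over Y) (x : X ⟶ C), x * (toUnit X ≫ p.2) = (toUnit X ≫ p.2) * x) ∧
            ∃ t : VecGrp.pt k k ⟶ T,
              (t ≫ i).left ≫ pullback.fst G.hom a = σ ≫ p.2.left ≫ c.left ≫ pullback.fst G.hom π) ∧
          ∀ (X : Over Y) (x : X ⟶ Red.bc π G),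
            (∀ p ∈ L, x * (toUnit X ≫ p.2 ≫ c) = (toUnit X ≫ p.2 ≫ c) * x) → ∃ x' : X ⟶ C, x' ≫ c = x := by
  haveI : LocallyOfFiniteType (Red.bc a G).hom := inferInstanceAs (LocallyOfFiniteType (pullback.snd G.hom a))
  haveI : QuasiCompact (Red.bc a G).hom := inferInstanceAs (QuasiCompact (pullback.snd G.hom a))
  haveI : IsLocallyNoetherian (Red.bc a G).left := LocallyOfFiniteType.isLocallyNoetherian (Red.bc a G).hom
  haveI : CompactSpace (Red.bc a G).left := QuasiCompact.compactSpace_of_compactSpace (Red.bc a G).hom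
  haveI : IsNoetherian (Red.bc a G).left := {}
  exact exists_family_sections_aux (Γ := Red.bc a G) ⟨Set.univ, isClosed_univ⟩ G a (𝟙 _) (Set.range_id) T i hT

end Groth.Agent.RankLib
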