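import Groth.Agent.GModLib.CentralTorusDescent
import Groth.Agent.GModLib.CentralizerRelative
import Groth.Agent.GModLib.FibreHom

/-!
# Descent of reductive centres

A central subgroup of multiplicative type which receives every central homomorphism from a group of multiplicative type
is unique, hence descends along fpqc coverings.
-/

set_option autoImplicit false
set_option backward.isDefEq.respectTransparency false
set_option backward.isDefEq.respectTransparency.types false

universe u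

open CategoryTheory Limits AlgebraicGeometry MonoidalCategory CartesianMonoidalCategory MonObj GrpObj

namespace Groth.Agent.RankLib

open GrpSchLib GModLib

variable {S : Scheme.{u}} {G : Over S} [GrpObj G]

/-- Centrality of a morphism into a group. -/
abbrev IsCentralHom {H : Over S} (v : H ⟶ G) : Prop :=
  ∀ (X : Over S) (x : X ⟶ H) (g : X ⟶ G), (x ≫ v) * g = g * (x ≫ v)

/-- Central subgroups of multiplicative type receiving all central homomorphisms of groups of multiplicative type. -/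
abbrev IsRedCentre {Z : Over S} [GrpObj Z] (z : Z ⟶ G) : Prop :=
  IsMonHom z ∧ Mono z ∧ SGA3x.IsMultTypeFT Z ∧ IsCentralHom z ∧
    ∀ (S' : Scheme.{u}) (f : S' ⟶ S) (H : Over S') [GrpObj H] (v : H ⟶ Red.bc f G) [IsMonHom v],
      SGA3x.IsMultTypeFT H → IsCentralHom v → ∃ w : H ⟶ Red.bc f Z, w ≫ (Over.pullback f).map z = v

theorem IsCentralHom.bc {H : Over S} {v : H ⟶ G} (h : IsCentralHom v) {U : Scheme.{u}} (p : U ⟶ S) :
    IsCentralHom ((Over.pullback p).map v) := fun X x g => by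
  refine (DSPtsLib.theta_bijective (H := G) p).1 ?_
  rw [DSPtsLib.theta_mul, DSPtsLib.theta_mul, BC.theta_map]
  exact h _ _ _

theorem IsCentralHom.comp_iso {H G' : Over S} [GrpObj G'] {v : H ⟶ G} (h : IsCentralHom v) (β : G ≅ G')
    [IsMonHom β.hom] : IsCentralHom (v ≫ β.hom) := fun X x g => by
  have h1 := congrArg (· ≫ β.hom) (h X x (g ≫ β.inv))
  simpa only [MonObj.mul_comp, Category.assoc, Iso.inv_hom_id, Category.comp_id] using h1

theorem IsCentralHom.comp_left {H H' : Over S} {v : H ⟶ G} (h : IsCentralHom v) (a : H' ⟶ H) :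
    IsCentralHom (a ≫ v) := fun X x g => by
  rw [← Category.assoc]
  exact h X _ g

/-- The iterated base changes along two equal composites. -/
noncomputable def squareIso {U A B : Scheme.{u}} {a : U ⟶ A} {b : U ⟶ B} {a' : A ⟶ S} {b' : B ⟶ S} {r : U ⟶ S}
    (ha : a ≫ a' = r)
    (hb : b ≫ b' = r) (G : Over S) [GrpObj G] : Red.bc a (Red.bc a' G) ≅ Red.bc b (Red.bc b' G) :=
  fibreIso ha G ≪≫ (fibreIso hb G).symm

instance {U A B : Scheme.{u}} {a : U ⟶ A} {b : U ⟶ B} {a' : A ⟶ S} {b' : B ⟶ S} {r : U ⟶ S} (ha : a ≫ a' = r)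
    (hb : b ≫ b' = r) (G : Over S) [GrpObj G] : IsMonHom (squareIso ha hb G).hom :=
  inferInstanceAs (IsMonHom ((fibreIso ha G).hom ≫ (fibreIso hb G).inv))

theorem key_redCentre {S' : Scheme.{u}} (q : S' ⟶ S) {Z₀ : Over S'} [GrpObj Z₀] (z₀ : Z₀ ⟶ Red.bc q G)
    (h₀ : IsRedCentre z₀) (Y : Scheme.{u}) (a b : Y ⟶ pullback G.hom q)
    (hab : a ≫ pullback.fst G.hom q = b ≫ pullback.fst G.hom q) (hl : ∃ l, l ≫ z₀.left = a) :
    ∃ l, l ≫ z₀.left = b := by
  obtain ⟨hzm, hzmo, hZt, hzc, hzu⟩ := h₀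
  haveI := hzm; haveI := hzmo
  let p₁ := pullback.fst q q
  let p₂ := pullback.snd q q
  let r : pullback q q ⟶ S := p₁ ≫ q
  have hp₂ : p₂ ≫ q = r := pullback.condition.symm
  let β := squareIso (rfl : p₁ ≫ q = r) hp₂ G
  haveI : IsMonHom ((Over.pullback p₁).map z₀ ≫ β.hom) := inferInstance
  obtain ⟨α, hα⟩ := hzu _ p₂ (Red.bc p₁ Z₀) ((Over.pullback p₁).map z₀ ≫ β.hom)
    (MultTypeBC.isMultTypeFT_bc p₁ hZt) ((IsCentralHom.bc hzc p₁).comp_iso β)
  obtain ⟨l, hl⟩ := hl
  have hw : (a ≫ pullback.snd G.hom q) ≫ q = (b ≫ pullback.snd G.hom q) ≫ q := by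
    rw [Category.assoc, Category.assoc, ← pullback.condition, reassoc_of% hab]
  let t : Y ⟶ pullback q q := pullback.lift (a ≫ pullback.snd G.hom q) (b ≫ pullback.snd G.hom q) hw
  have he : z₀.left ≫ pullback.snd G.hom q = Z₀.hom := Over.w z₀
  have hlZ : l ≫ Z₀.hom = t ≫ p₁ := by
    rw [← he, reassoc_of% hl]
    exact (pullback.lift_fst _ _ _).symm
  let y : Over.mk t ⟶ Red.bc p₁ Z₀ := Over.homMk (pullback.lift l t hlZ) (pullback.lift_snd _ _ _)
  have hα' : α ≫ fibreHom hp₂ z₀ = fibreHom (rfl : p₁ ≫ q = r) z₀ := by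
    rw [fibreHom_eq', fibreHom_eq', ← Category.assoc, hα]
    show (_ ≫ (fibreIso _ G).hom ≫ (fibreIso hp₂ G).inv) ≫ _ = _
    rw [Category.assoc, Category.assoc, Iso.inv_hom_id, Category.comp_id]
  refine ⟨(y ≫ α).left ≫ pullback.fst Z₀.hom p₂, pullback.hom_ext ?_ ?_⟩
  · have e := congrArg (fun m => (y ≫ m).left ≫ pullback.fst G.hom r) hα'
    simp only [Over.comp_left, Category.assoc, fibreHom_left_fst] at e
    rw [Over.comp_left, Category.assoc, Category.assoc, Category.assoc, e]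
    show pullback.lift l t hlZ ≫ _ = _
    rw [fibreHom_left_fst, pullback.lift_fst_assoc, reassoc_of% hl, hab]
  · have h3 : (y ≫ α).left ≫ pullback.snd Z₀.hom p₂ = t := Over.w (y ≫ α)
    rw [Category.assoc, Category.assoc, he, pullback.condition, reassoc_of% h3]
    exact pullback.lift_snd _ _ _

set_option maxHeartbeats 1000000 in
/-- A reductive centre existing fpqc locally descends. -/
theorem exists_redCentre_descent {S' : Scheme.{u}} {π : S' ⟶ S} (hπ : FpqcDescLib.IsCovering π) [Surjective π]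
    {Z₀ : Over S'} [GrpObj Z₀] (z₀ : Z₀ ⟶ Red.bc π G) (h₀ : IsRedCentre z₀) :
    ∃ (Z : Over S) (_ : GrpObj Z) (z : Z ⟶ G), IsRedCentre z := by
  obtain ⟨hzm₀, hzmo₀, hZ₀t, hz₀c, hz₀u⟩ := id h₀
  haveI := hzm₀; haveI := hzmo₀
  haveI : IsAffineHom Z₀.hom := (TransLib.multTypeFT_essFree hZ₀t).1
  obtain ⟨Z, _, z, ψ, hzm, hzmo, hψm, hψ⟩ :=
    MonoSubgroupDescent.exists_descent z₀ hπ (key_redCentre π z₀ h₀)
  haveI := hzm; haveI := hzmo; haveI := hψm
  refine ⟨Z, inferInstance, z, hzm, hzmo, ?_, fun X x g => ?_, fun U f H _ v _ hH hv => ?_⟩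
  · obtain ⟨V, g, hgf, hgs, hgc, hgl⟩ := hZ₀t
    haveI := hgf; haveI := hgs
    obtain ⟨hfl', hcov'⟩ :=
      SubgroupEqLocus.flat_hcov_of_isCovering ((FpqcDescLib.isCovering_of_flat g hgc).comp hπ)
    refine ⟨V, g ≫ π, hfl', inferInstance, hcov', fun s => ?_⟩
    obtain ⟨W, hsW, M, iM, hM, ⟨w⟩⟩ := hgl s
    obtain ⟨e₁⟩ := MultTypeBC.bc_bc (W.ι ≫ g) π Z
    obtain ⟨e₂⟩ := MultTypeBC.bc_congr (Category.assoc W.ι g π) Z
    obtain ⟨e₃⟩ := MultTypeBC.bc_iso (W.ι ≫ g) (Grp.mkIso' ψ)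
    exact ⟨W, hsW, M, iM, hM, ⟨e₂.symm ≪≫ e₁.symm ≪≫ e₃ ≪≫ w⟩⟩
  · have hk : FpqcDescLib.Covers (DSPtsLib.theta π (𝟙 ((Over.pullback π).obj X))).left := by
      show FpqcDescLib.Covers (𝟙 (pullback X.hom π) ≫ pullback.fst X.hom π)
      rw [Category.id_comp]
      exact (FpqcDescLib.covers_of_isCovering hπ).pullback X.hom _ (pullback.snd X.hom π)
        (IsPullback.of_hasPullback X.hom π)
    haveI := hk.over_epi
    have h1 := hz₀c _ ((Over.pullback π).map x ≫ ψ.hom) ((Over.pullback π).map g)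
    rw [Category.assoc, hψ, ← Functor.map_comp] at h1
    have h2 : ∀ (y : X ⟶ G), DSPtsLib.theta π (𝟙 _) ≫ y = DSPtsLib.theta π ((Over.pullback π).map y) := fun y => by
      refine Eq.trans ?_ (congrArg (DSPtsLib.theta π) (Category.id_comp ((Over.pullback π).map y)))
      exact ((Over.mapPullbackAdj π).homEquiv_naturality_right_symm _ _).symm
    rw [← cancel_epi (DSPtsLib.theta π (𝟙 ((Over.pullback π).obj X))), MonObj.comp_mul, MonObj.comp_mul, h2, h2,
      ← DSPtsLib.theta_mul, ← DSPtsLib.theta_mul, h1]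
  -- universality
  let q := pullback.fst f π
  let f' := pullback.snd f π
  let r : pullback f π ⟶ S := q ≫ f
  have hf' : f' ≫ π = r := pullback.condition.symm
  let β := squareIso (rfl : q ≫ f = r) hf' G
  obtain ⟨w, hw⟩ := hz₀u _ f' (Red.bc q H) ((Over.pullback q).map v ≫ β.hom) (MultTypeBC.isMultTypeFT_bc q hH)
    ((IsCentralHom.bc hv q).comp_iso β)
  let βZ := squareIso hf' (rfl : q ≫ f = r) Z
  let θ : Red.bc q H ⟶ Red.bc q (Red.bc f Z) := w ≫ (Over.pullback f').map ψ.inv ≫ βZ.hom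
  have hnat : βZ.hom ≫ (Over.pullback q).map ((Over.pullback f).map z) ≫ β.hom =
      (Over.pullback f').map ((Over.pullback π).map z) := by
    rw [← cancel_mono (fibreIso hf' G).hom]
    simp only [βZ, β, squareIso, Iso.trans_hom, Iso.symm_hom, Category.assoc, Iso.inv_hom_id, Category.comp_id]
    rw [← fibreHom_eq' (rfl : q ≫ f = r) ((Over.pullback f).map z), ← fibreHom_eq' hf' ((Over.pullback π).map z)]
    refine bc_hom_ext ?_
    simp only [Over.comp_left, Category.assoc, fibreHom_left_fst]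
    have e1 : ((Over.pullback f).map z).left ≫ pullback.fst G.hom f = pullback.fst Z.hom f ≫ z.left :=
      pullback.lift_fst _ _ _
    have e2 : ((Over.pullback π).map z).left ≫ pullback.fst G.hom π = pullback.fst Z.hom π ≫ z.left :=
      pullback.lift_fst _ _ _
    have e3 : (fibreIso hf' Z).hom.left ≫ pullback.fst Z.hom r = pullback.fst _ f' ≫ pullback.fst Z.hom π := by
      rw [← fibreHom_id, fibreHom_left_fst, Over.id_left, Category.id_comp]
    have e4 : (fibreIso (rfl : q ≫ f = r) Z).inv.left ≫ pullback.fst _ q ≫ pullback.fst Z.hom f =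
        pullback.fst Z.hom r := by
      have h5 : (fibreIso (rfl : q ≫ f = r) Z).hom.left ≫ pullback.fst Z.hom r =
          pullback.fst _ q ≫ pullback.fst Z.hom f := by
        rw [← fibreHom_id, fibreHom_left_fst, Over.id_left, Category.id_comp]
      rw [← h5, ← Category.assoc, ← Over.comp_left, Iso.inv_hom_id, Over.id_left, Category.id_comp]
    rw [fibreHom_left_fst, e1, e2, reassoc_of% e4, reassoc_of% e3]
  have hθ : θ ≫ (Over.pullback q).map ((Over.pullback f).map z) = (Over.pullback q).map v := by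
    rw [← cancel_mono β.hom, ← hw]
    simp only [θ, Category.assoc]
    rw [hnat, ← Functor.map_comp, ← hψ, ψ.inv_hom_id_assoc]
  have hle : SubgroupEqLocus.Le ((Over.pullback f).map z) v (𝟙 U) := by
    refine EqLocusMono.Le.of_covers q ((FpqcDescLib.covers_of_isCovering hπ).pullback f q f'
      (IsPullback.of_hasPullback f π)) ?_
    rw [Category.comp_id]
    exact le_of_map _ v q θ hθ
  obtain ⟨a, ha⟩ := hle H (Over.homMk H.hom (Category.comp_id _)) (𝟙 H)
  exact ⟨a, by rw [ha, Category.id_comp]⟩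

end Groth.Agent.RankLib
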