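import Groth.Agent.RankLib.General
import Groth.Agent.S3022
import Groth.Agent.RedOpenLib.RankOne

/-!
# Locally constant reductive rank and étale local maximal tori
-/

set_option autoImplicit false
set_option backward.isDefEq.respectTransparency false
set_option backward.isDefEq.respectTransparency.types false

universe u

open CategoryTheory Limits AlgebraicGeometry MonoidalCategory CartesianMonoidalCategory MonObj GrpObj

namespace Groth.Agent.RankLib

open GrpSchLib GrpSchLib.AffineHopf GModLib TorusBilin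

variable {S : Scheme.{u}} (G : Over S) [GrpObj G] [IsAffineHom G.hom] [Smooth G.hom]

set_option maxHeartbeats 1000000 in
/-- Where the reductive rank is locally constant, maximal tori exist étale locally. -/
theorem exists_etale_maxTorus_nhd (hrk : SGA3x.RedRankLocallyConstant G) (s : S) :
    ∃ (X : Scheme.{u}) (g : X ⟶ S) (_ : Etale g) (x : X), g x = s ∧
      ∃ (T : Over X) (_ : GrpObj T) (t : T ⟶ Red.bc g G), Red.IsMaximalTorus t := by
  obtain ⟨U, hsU, r, hr⟩ := hrk s
  obtain ⟨T, _, i, hi, hdim⟩ := hr s hsU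
  haveI := hi.1; haveI := hi.2.1
  obtain ⟨m, q, hqm, hqi⟩ := exists_iso_tor hi.2.2.1
  haveI := hqm; haveI := hqi
  have hrm : r = (m : WithBot ℕ∞) := hdim.symm.trans (topologicalKrullDim_tor q)
  obtain ⟨X, g, x, T', _, i', hg, hgx, him, hio, hsplit⟩ := exists_split_nhd G s i hi.2.2.1 q
  haveI := hg; haveI := him; haveI := hio
  let W : X.Opens := g ⁻¹ᵁ U
  have hxW : x ∈ W := show g x ∈ U from hgx ▸ hsU
  let j : Red.bc W.ι T' ⟶ Red.bc (W.ι ≫ g) G := (Over.pullback W.ι).map i' ≫ (fibreIso (a := W.ι) rfl G).hom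
  haveI : IsMonHom j := inferInstanceAs (IsMonHom (_ ≫ _))
  haveI : Mono j := mono_comp _ _
  have hj : Red.IsMaximalTorus j :=
    isMaximalTorus_of_rank (W.ι ≫ g) G j (TorusBasic.isSplit_bc _ hsplit) fun z => hrm ▸ hr _ z.2
  obtain ⟨X', g', x', hg', hgx', h, hh⟩ := Groth.Agent.S0412.result (W.ι ≫ g) s ⟨⟨x, hxW⟩, hgx⟩
  haveI : Smooth (Red.bc (W.ι ≫ g) G).hom := inferInstanceAs (Smooth (pullback.snd G.hom _))
  haveI : QuasiCompact (Red.bc (W.ι ≫ g) G).hom := inferInstanceAs (QuasiCompact (pullback.snd G.hom _))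
  exact ⟨X', g', hg', x', hgx', Red.bc h (Red.bc W.ι T'), inferInstance, _,
    isMaximalTorus_of_iso (fibreIso (a := h) hh G) _ (isMaximalTorus_bc _ hj h)⟩

/-- Locally constant reductive rank gives maximal tori étale locally. -/
theorem hasMaxTorusEtaleLocally_of_rank (hrk : SGA3x.RedRankLocallyConstant G) :
    SGA3x.HasMaxTorusEtaleLocally G := by
  choose X g hg x hx T iT t ht using exists_etale_maxTorus_nhd G hrk
  let f : (∐ X) ⟶ S := Sigma.desc g
  have hf : ∀ s, Sigma.ι X s ≫ f = g s := fun s => Sigma.ι_desc _ _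
  haveI hfe : Etale f := IsZariskiLocalAtSource.sigmaDesc hg
  have hfs : Surjective f := ⟨fun s => ⟨Sigma.ι X s (x s), by rw [← Scheme.Hom.comp_apply, hf, hx]⟩⟩
  obtain ⟨TT, _, tt, htt⟩ := exists_maxTorus_sigma (Red.bc f G) fun s => by
    letI := iT s
    haveI : IsMonHom (fibreIso (a := Sigma.ι X s) (hf s) G).symm.hom :=
      inferInstanceAs (IsMonHom (fibreIso (a := Sigma.ι X s) (hf s) G).inv)
    exact ⟨T s, inferInstance, _, isMaximalTorus_of_iso (fibreIso (a := Sigma.ι X s) (hf s) G).symm (t s) (ht s)⟩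
  exact ⟨∐ X, f, hfe, hfs, TT, inferInstance, tt, htt⟩

set_option maxHeartbeats 1000000 in
/-- A maximal torus over an étale covering makes the reductive rank locally constant. -/
theorem rank_of_hasMaxTorusEtaleLocally (h : SGA3x.HasMaxTorusEtaleLocally G) :
    SGA3x.RedRankLocallyConstant G := by
  obtain ⟨S', f, hfe, hfs, T, _, i, hi⟩ := h
  haveI := hfe
  haveI := hi.1; haveI := hi.2.1
  haveI := MultConjLib.smooth_of_isTorus hi.2.2.1
  haveI : IsAffineHom T.hom :=
    MultConjLib.isAffineHom_of_locDS (MultConjLib.isLocDS_of_multTypeFT (RankOne.isMultTypeFT_of_isTorus hi.2.2.1))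
  have hd := Groth.Agent.S3022.result S' T
  intro s
  obtain ⟨s', rfl⟩ := hfs.surj s
  let d := topologicalKrullDim ↥(T.hom.base ⁻¹' {s'})
  refine ⟨⟨f.base '' {x | topologicalKrullDim ↥(T.hom.base ⁻¹' {x}) = d}, f.isOpenMap _ (hd.isOpen_fiber d)⟩,
    ⟨s', rfl, rfl⟩, d, ?_⟩
  rintro _ ⟨x, hx, rfl⟩
  let Gt := Red.geomFibre (f x) G
  haveI : Smooth Gt.hom := inferInstanceAs (Smooth (pullback.snd G.hom _))
  haveI : QuasiCompact Gt.hom := inferInstanceAs (QuasiCompact (pullback.snd G.hom _))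
  obtain ⟨M, _, iM, m, hiM, hdimM, -⟩ := exists_rank_bound Gt
  refine ⟨M, inferInstance, iM, hiM, hdimM.trans ?_⟩
  rw [← hx, ← RedOpenLib.topologicalKrullDim_geomFibre]
  obtain ⟨ρ, hρ⟩ := exists_geomPt_lift f x
  let K := AlgebraicClosure (S'.residueField x)
  haveI : Smooth (Red.bc f G).hom := inferInstanceAs (Smooth (pullback.snd G.hom f))
  haveI : QuasiCompact (Red.bc f G).hom := inferInstanceAs (QuasiCompact (pullback.snd G.hom f))
  haveI : Smooth (Red.bc ρ Gt).hom := inferInstanceAs (Smooth (pullback.snd Gt.hom ρ))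
  haveI : QuasiCompact (Red.bc ρ Gt).hom := inferInstanceAs (QuasiCompact (pullback.snd Gt.hom ρ))
  let β : Red.bc (Red.geomPt x) (Red.bc f G) ≅ Red.bc ρ Gt :=
    fibreIso (a := Red.geomPt x) rfl G ≪≫ (fibreIso hρ G).symm
  haveI : IsMonHom β.hom := inferInstanceAs (IsMonHom ((fibreIso _ G).hom ≫ (fibreIso hρ G).inv))
  have h₁ := isMaximalTorus_of_iso β _ (isMaximalTorus_bc i hi (Red.geomPt x))
  have h₂ := isMaximalTorus_bc iM hiM ρ
  refine Eq.trans ?_ (dim_maxTorus_eq _ _ h₂ h₁)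
  -- the rank of the torus is not changed by extending the field
  obtain ⟨m', q, hqm, hqi⟩ := exists_iso_tor hiM.2.2.1
  haveI := hqm; haveI := hqi
  rw [← hdimM, topologicalKrullDim_tor q]
  obtain ⟨dk⟩ := nonempty_DS_iso (AlgebraicClosure (S.residueField (f x))) (Fin m' → ℤ)
  obtain ⟨dd⟩ := TorusBasic.isSplit_bc ρ (⟨Grp.mkIso (asIso q) ≪≫ dk⟩ : Red.IsSplitTorusWith (Fin m' → ℤ) M)
  obtain ⟨dK⟩ := nonempty_DS_iso K (Fin m' → ℤ)
  let eq : Grp.mk (Red.bc ρ M) ≅ Grp.mk (sp K (Lau K m')) := dd ≪≫ dK.symm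
  haveI : IsIso eq.hom.hom.hom := inferInstanceAs (IsIso ((Grp.forget _).map eq.hom))
  exact (topologicalKrullDim_tor eq.hom.hom.hom).symm

end Groth.Agent.RankLib
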