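import Groth.Agent.RankLib.CentreDescent
import Groth.Agent.RankLib.Iff
import Groth.Agent.GModLib.CentreMultTypeGlobal
import Groth.Agent.GModLib.CentreTori
import Groth.Agent.GModLib.TorusImageGeneral

/-!
# The reductive centre as the intersection of the centre with a maximal torus
-/

set_option autoImplicit false
set_option backward.isDefEq.respectTransparency false
set_option backward.isDefEq.respectTransparency.types false

universe u

open CategoryTheory Limits AlgebraicGeometry MonoidalCategory CartesianMonoidalCategory MonObj GrpObj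

namespace Groth.Agent.RankLib

open GrpSchLib GrpSchLib.AffineHopf GModLib GModLib.CentreWeights

/-- A morphism is a homomorphism when its composite with a monomorphic homomorphism is one. -/
theorem isMonHom_of_mono_comp {S : Scheme.{u}} {X Y Z : Over S} [GrpObj X] [GrpObj Y] [GrpObj Z] (j : X ⟶ Y)
    (i : Y ⟶ Z) [IsMonHom i] [Mono i] [IsMonHom (j ≫ i)] : IsMonHom j where
  one_hom := by rw [← cancel_mono i, Category.assoc, IsMonHom.one_hom (j ≫ i), IsMonHom.one_hom i]
  mul_hom := by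
    rw [← cancel_mono i, Category.assoc, IsMonHom.mul_hom (j ≫ i), Category.assoc, IsMonHom.mul_hom i,
      ← Category.assoc (_ ⊗ₘ _), MonoidalCategory.tensorHom_comp_tensorHom]

variable {R : Type u} [CommRing R]

set_option maxHeartbeats 2000000 in
/-- Near every point the central points of a split torus form a diagonalizable group. -/
theorem exists_away_diag {A : Type u} [CommRing A] [HopfAlgebra R A] [Algebra.Smooth R A]
    {N : Type} [AddCommGroup N] [Module.Finite ℤ N] (t : sp R (MonoidAlgebra R (Multiplicative N)) ⟶ sp R A)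
    [IsMonHom t] [Mono t] (hconn : ∀ s, _root_.IsConnected ((sp R A).hom.base ⁻¹' {s}))
    {Z : Over (Spec (CommRingCat.of R))} [GrpObj Z] (z : Z ⟶ sp R A) (hz : Red.IsCentre z)
    {K : Over (Spec (CommRingCat.of R))} [GrpObj K] [IsAffine K.left]
    (k₀ : K ⟶ sp R (MonoidAlgebra R (Multiplicative N))) [IsMonHom k₀] [Mono k₀]
    (hK : ∀ (X : Over (Spec (CommRingCat.of R))) (y : X ⟶ sp R (MonoidAlgebra R (Multiplicative N))),
      (∃ x, x ≫ k₀ = y) ↔ ∃ q, q ≫ z = y ≫ t)
    (p : Ideal R) [p.IsPrime] :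
    ∃ f ∉ p, ∃ (Q : Type) (_ : AddCommGroup Q), AddGroup.FG Q ∧
      Nonempty (Grp.mk (Red.bc (Spec.map (CommRingCat.ofHom (algebraMap R (Localization.Away f)))) K) ≅
        Grp.mk (Red.DS (Spec (CommRingCat.of (Localization.Away f))) Q)) := by
  haveI := hz.1; haveI := hz.2.1
  haveI : Smooth (sp R A).hom :=
    (HasRingHomProperty.Spec_iff (P := @Smooth)).mpr (RingHom.smooth_algebraMap.mpr inferInstance)
  haveI : IsAffineHom (sp R A).hom :=
    inferInstanceAs (IsAffineHom (Spec.map (CommRingCat.ofHom (algebraMap R A))))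
  obtain ⟨ρ, hρ⟩ := CentreWeights.exists_conj t
  obtain ⟨f₁, hf₁, hcentral⟩ := exists_away_central hρ p
  let Γ := AddSubgroup.closure (weightSet ρ p)
  let Q := N ⧸ Γ
  let π : N →+ Q := QuotientAddGroup.mk' Γ
  have hπs : Function.Surjective π := QuotientAddGroup.mk'_surjective Γ
  have hQ : AddGroup.FG Q := by
    haveI : AddGroup.FG N := Module.Finite.iff_addGroup_fg.mp inferInstance
    exact AddGroup.fg_of_surjective hπs
  let πA : MonoidAlgebra R (Multiplicative N) →ₐc[R] MonoidAlgebra R (Multiplicative Q) :=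
    MonoidAlgebra.mapDomainBialgHom R (AddMonoidHom.toMultiplicative π)
  have hπA : Function.Surjective πA := fun y => by
    induction y using MonoidAlgebra.induction_linear with
    | zero => exact ⟨0, map_zero _⟩
    | add a b ha hb => obtain ⟨a', rfl⟩ := ha; obtain ⟨b', rfl⟩ := hb; exact ⟨a' + b', map_add _ _ _⟩
    | single m r =>
      obtain ⟨n, hn⟩ := hπs m.toAdd
      exact ⟨MonoidAlgebra.single (Multiplicative.ofAdd n) r, by
        show MonoidAlgebra.mapDomain _ _ = _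
        rw [MonoidAlgebra.mapDomain_single]
        exact congrArg (MonoidAlgebra.single · r) (congrArg Multiplicative.ofAdd hn)⟩
  let H := sp R (MonoidAlgebra R (Multiplicative Q))
  let π' : H ⟶ sp R (MonoidAlgebra R (Multiplicative N)) :=
    spMap (πA : MonoidAlgebra R (Multiplicative N) →ₐ[R] MonoidAlgebra R (Multiplicative Q))
  haveI : IsClosedImmersion π'.left := IsClosedImmersion.spec_of_surjective _ hπA
  haveI : Mono π' := Over.mono_of_mono_left π'
  let u : H ⟶ sp R A := π' ≫ t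
  haveI : IsMonHom u := inferInstanceAs (IsMonHom (π' ≫ t))
  haveI : Mono u := inferInstanceAs (Mono (π' ≫ t))
  obtain ⟨d⟩ := nonempty_DS_iso R Q
  have hH : SGA3x.IsMultTypeFT H := isMultTypeFT_of_iso_DS hQ d
  obtain ⟨C, _, c, hc, hcc, hcs⟩ := Groth.Agent.S5247.result H (sp R A) hH ‹_› ‹_› u
  haveI := hc.1; haveI := hc.2.1; haveI := hcc; haveI := hcs
  -- the fibre
  let k := AlgebraicClosure p.ResidueField
  let φ : R →+* k := (algebraMap p.ResidueField k).comp (algebraMap R p.ResidueField)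
  have hφ : RingHom.ker φ = p :=
    (RingHom.ker_comp_of_injective _ (RingHom.injective _)).trans (Ideal.ker_algebraMap_residueField p)
  let a : Spec (CommRingCat.of k) ⟶ Spec (CommRingCat.of R) := Spec.map (CommRingCat.ofHom φ)
  haveI : IsIso ((Over.pullback a).map c) := by
    let P := Red.bc a H ⊗ Red.bc a (sp R A)
    haveI : IsAffine H.left := inferInstanceAs (IsAffine (Spec (CommRingCat.of _)))
    haveI : IsAffine (sp R A).left := inferInstanceAs (IsAffine (Spec (CommRingCat.of A)))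
    haveI : IsAffineHom H.hom := inferInstanceAs (IsAffineHom (Spec.map _))
    haveI : IsAffineHom (Red.bc a H).hom := MorphismProperty.pullback_snd H.hom a ‹IsAffineHom H.hom›
    haveI : IsAffineHom (Red.bc a (sp R A)).hom := MorphismProperty.pullback_snd (sp R A).hom a ‹IsAffineHom (sp R A).hom›
    haveI : IsAffine (Red.bc a H).left := isAffine_of_isAffineHom (Red.bc a H).hom
    haveI : IsAffine (Red.bc a (sp R A)).left := isAffine_of_isAffineHom (Red.bc a (sp R A)).hom
    haveI : IsAffine P.left := inferInstanceAs (IsAffine (pullback (Red.bc a H).hom (Red.bc a (sp R A)).hom))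
    have huniv : (fst _ _ ≫ (Over.pullback a).map u : P ⟶ _) * snd _ _ =
        snd _ _ * (fst _ _ ≫ (Over.pullback a).map u) := by
      obtain ⟨W, _, _, ψ, e, he, hψ⟩ := exists_sp_iso_map φ P
      refine (DSPtsLib.theta_bijective a).1 ?_
      rw [DSPtsLib.theta_mul, DSPtsLib.theta_mul, BC.theta_map, ← cancel_epi e, MonObj.comp_mul, MonObj.comp_mul,
        ← Category.assoc]
      obtain ⟨h₀, hh₀⟩ := exists_eq_spMap (e ≫ DSPtsLib.theta a (fst (Red.bc a H) (Red.bc a (sp R A))))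
      obtain ⟨x, hx⟩ := exists_eq_spMap (e ≫ DSPtsLib.theta a (snd (Red.bc a H) (Red.bc a (sp R A))))
      rw [hh₀, hx]
      let χ : Multiplicative N →* W := (MonoidAlgebra.lift R W (Multiplicative N)).symm
        (h₀.comp (πA : MonoidAlgebra R (Multiplicative N) →ₐ[R] MonoidAlgebra R (Multiplicative Q)))
      have hχ : spMap h₀ ≫ π' = CentreWeights.pt R χ := by
        show spMap h₀ ≫ spMap _ = spMap _
        rw [spMap_comp]
        exact congrArg spMap ((MonoidAlgebra.lift R W (Multiplicative N)).apply_symm_apply _).symm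
      show (spMap h₀ ≫ π' ≫ t) * _ = _ * (spMap h₀ ≫ π' ≫ t)
      rw [← Category.assoc, hχ]
      refine commute_in_fibre hρ p φ hφ ψ hψ χ (fun n hn => ?_) x
      show h₀ (MonoidAlgebra.mapDomain _ (MonoidAlgebra.single (Multiplicative.ofAdd n) 1)) = 1
      rw [MonoidAlgebra.mapDomain_single,
        show AddMonoidHom.toMultiplicative π (Multiplicative.ofAdd n) = 1 from
          congrArg Multiplicative.ofAdd ((QuotientAddGroup.eq_zero_iff n).mpr hn), ← MonoidAlgebra.one_def, map_one]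
    obtain ⟨w, hw⟩ := ((BC.isCentralizerOf_bc a hc).2.2 _ (𝟙 (Red.bc a (sp R A)))).mpr fun X' x h => by
      have h1 := congrArg (lift h x ≫ ·) huniv
      simp only [MonObj.comp_mul, lift_fst_assoc, lift_snd] at h1
      rw [Category.comp_id]
      exact h1.symm
    exact ⟨w, (cancel_mono ((Over.pullback a).map c)).mp (by rw [Category.assoc, hw, Category.comp_id, Category.id_comp]),
      hw⟩
  haveI : QuasiCompact (sp R A).hom := inferInstance
  obtain ⟨U, hU, hiso⟩ := exists_open_isIso_fibres c (connectedSpace_geomFibre hconn) a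
  haveI := isIso_map_opens c U hiso
  -- the neighbourhood
  have hpU : (⟨p, ‹_›⟩ : PrimeSpectrum R) ∈ U.carrier := by
    have h1 : a (IsLocalRing.closedPoint k) = (⟨p, ‹_›⟩ : PrimeSpectrum R) := PrimeSpectrum.ext (by
      show (IsLocalRing.maximalIdeal k).comap φ = p
      rw [IsLocalRing.isField_iff_maximalIdeal_eq.mp (Field.toIsField k)]
      exact hφ)
    exact h1 ▸ hU
  obtain ⟨_, ⟨f₂, rfl⟩, hpf₂, hf₂U⟩ :=
    PrimeSpectrum.isTopologicalBasis_basic_opens.exists_subset_of_mem_open hpU U.2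
  refine ⟨f₁ * f₂, fun h => (Ideal.IsPrime.mem_or_mem ‹_› h).elim hf₁ hpf₂, Q, inferInstance, hQ, ?_⟩
  let Rf := Localization.Away (f₁ * f₂)
  let j : Spec (CommRingCat.of Rf) ⟶ Spec (CommRingCat.of R) := Spec.map (CommRingCat.ofHom (algebraMap R Rf))
  have hu : IsUnit (algebraMap R Rf f₁) ∧ IsUnit (algebraMap R Rf f₂) :=
    IsUnit.mul_iff.mp (map_mul (algebraMap R Rf) f₁ f₂ ▸ IsLocalization.Away.algebraMap_isUnit (f₁ * f₂))
  have hj : Set.range j ⊆ Set.range U.ι := by
    rintro _ ⟨x, rfl⟩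
    rw [Scheme.Opens.range_ι]
    exact hf₂U fun h : f₂ ∈ (x : PrimeSpectrum Rf).asIdeal.comap (algebraMap R Rf) =>
      (x : PrimeSpectrum Rf).isPrime.ne_top (Ideal.eq_top_of_isUnit_mem _ h hu.2)
  let l := IsOpenImmersion.lift U.ι j hj
  have hl : l ≫ U.ι = j := IsOpenImmersion.lift_fac _ _ _
  haveI : IsIso ((Over.pullback j).map c) := hl ▸ isIso_map_comp U.ι l c
  -- the subgroup is central
  obtain ⟨cz, hcz⟩ := ((BC.isCentralizerOf_bc j hz).2.2 _ ((Over.pullback j).map u)).mpr fun X' x h => by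
    have h2 := ((BC.isCentralizerOf_bc j hc).2.2 _ h).mp
      ⟨h ≫ inv ((Over.pullback j).map c), by rw [Category.assoc, IsIso.inv_hom_id, Category.comp_id]⟩ X' (𝟙 X') x
    rw [Category.id_comp] at h2
    rw [CategoryTheory.Functor.map_id, Category.comp_id]
    exact h2.symm
  obtain ⟨ca, hca⟩ := (BC.exists_factor_iff (j := k₀) j ((Over.pullback j).map π')).mpr ((hK _ _).mpr
    ⟨DSPtsLib.theta j cz, by rw [← BC.theta_map, ← BC.theta_map, hcz, ← Functor.map_comp]⟩)
  -- the centre lies in the subgroup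
  haveI : IsAffine (Red.bc j K).left := inferInstanceAs (IsAffine (pullback K.hom j))
  obtain ⟨W, _, _, ψ, e, he, hψ⟩ := exists_sp_iso_map (algebraMap R Rf) (Red.bc j K)
  let g : sp R W ⟶ K := e ≫ DSPtsLib.theta j (𝟙 _)
  obtain ⟨h, hh⟩ := exists_eq_spMap (g ≫ k₀)
  obtain ⟨q₀, hq₀⟩ := (hK _ (g ≫ k₀)).mp ⟨g, rfl⟩
  have hgz : ∀ (X : Over (Spec (CommRingCat.of R))) (q : X ⟶ sp R W) (y : X ⟶ sp R A),
      (q ≫ spMap h ≫ t) * y = y * (q ≫ spMap h ≫ t) := fun X q y => by
    have h' := (hz.2.2 _ (q₀ ≫ z)).mp ⟨q₀, rfl⟩ X q y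
    rwa [Category.comp_id, hq₀, hh] at h'
  let χ : Multiplicative N →* W := (MonoidAlgebra.lift R W (Multiplicative N)).symm h
  have hχ : spMap h = CentreWeights.pt R χ := congrArg spMap ((MonoidAlgebra.lift R W (Multiplicative N)).apply_symm_apply h).symm
  have hker := hcentral W (by
      rw [← hψ, RingHom.comp_apply]
      exact hu.1.map ψ) χ fun X q y => by rw [← hχ]; exact hgz X q y
  let χ' : Multiplicative Q →* W := AddMonoidHom.toMultiplicativeLeft
    (QuotientAddGroup.lift Γ (MonoidHom.toAdditiveRight χ) fun n hn => congrArg Additive.ofMul (hker n hn))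
  have hfac : CentreWeights.pt R χ' ≫ π' = CentreWeights.pt R χ := by
    show spMap _ ≫ spMap _ = spMap _
    rw [spMap_comp]
    refine congrArg spMap (MonoidAlgebra.algHom_ext (fun m => ?_) (by ext))
    show MonoidAlgebra.lift R W _ χ' (MonoidAlgebra.mapDomain _ (MonoidAlgebra.single m 1)) = _
    rw [MonoidAlgebra.mapDomain_single, MonoidAlgebra.lift_single, MonoidAlgebra.lift_single]
    rfl
  obtain ⟨cb, hcb⟩ := (DSPtsLib.theta_bijective (H := H) j).2 (inv e ≫ CentreWeights.pt R χ')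
  have hcbz : cb ≫ (Over.pullback j).map π' = (Over.pullback j).map k₀ := by
    refine (DSPtsLib.theta_bijective j).1 ?_
    have h3 := BC.theta_map j k₀ (𝟙 (Red.bc j K))
    rw [Category.id_comp] at h3
    rw [BC.theta_map, hcb, h3, ← cancel_epi e, Category.assoc, IsIso.hom_inv_id_assoc, hfac, ← hχ, ← hh,
      Category.assoc]
  -- conclusion
  let ee : Red.bc j K ≅ Red.bc j H :=
    ⟨cb, ca, by rw [← cancel_mono ((Over.pullback j).map k₀), Category.assoc, hca, hcbz, Category.id_comp],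
      by rw [← cancel_mono ((Over.pullback j).map π'), Category.assoc, hcbz, hca, Category.id_comp]⟩
  haveI : IsMonHom cb :=
    { one_hom := by
        rw [← cancel_mono ((Over.pullback j).map π'), Category.assoc, hcbz, IsMonHom.one_hom ((Over.pullback j).map k₀),
          IsMonHom.one_hom ((Over.pullback j).map π')]
      mul_hom := by
        rw [← cancel_mono ((Over.pullback j).map π'), Category.assoc, hcbz, IsMonHom.mul_hom ((Over.pullback j).map k₀),
          Category.assoc, IsMonHom.mul_hom ((Over.pullback j).map π'), ← Category.assoc (_ ⊗ₘ _),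
          MonoidalCategory.tensorHom_comp_tensorHom, hcbz] }
  haveI : IsMonHom ee.hom := ‹IsMonHom cb›
  obtain ⟨d₁⟩ := GrpSchLib.MultTypeBC.bc_iso j d
  obtain ⟨d₂⟩ := GrpSchLib.MultTypeBC.bc_DS j Q
  exact ⟨Grp.mkIso' ee ≪≫ d₁ ≪≫ d₂⟩


/-- The criterion defining the central points of a subgroup is stable under base change. -/
theorem criterion_bc {S : Scheme.{u}} {G T Z K : Over S} [GrpObj G] [GrpObj T] [GrpObj Z] [GrpObj K] {t : T ⟶ G} {z : Z ⟶ G} {k₀ : K ⟶ T}
    (hK : ∀ (X : Over S) (y : X ⟶ T), (∃ x, x ≫ k₀ = y) ↔ ∃ q, q ≫ z = y ≫ t) {U : Scheme.{u}} (g : U ⟶ S)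
    (X : Over U) (y : X ⟶ Red.bc g T) :
    (∃ x, x ≫ (Over.pullback g).map k₀ = y) ↔
      ∃ q, q ≫ (Over.pullback g).map z = y ≫ (Over.pullback g).map t := by
  rw [BC.exists_factor_iff, BC.exists_factor_iff, BC.theta_map, hK]

/-- Over an affine base, the central points of a split torus are diagonalizable near every point. -/
theorem exists_diag_nhd {B : Type u} [CommRing B] {G T Z K : Over (Spec (CommRingCat.of B))} [GrpObj G] [GrpObj T]
    [GrpObj Z] [GrpObj K] [Smooth G.hom] [IsAffineHom G.hom] {r : ℕ} (hT : Red.IsSplitTorusWith (Fin r → ℤ) T)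
    (hconn : ∀ s, _root_.IsConnected (G.hom.base ⁻¹' {s})) (t : T ⟶ G) [IsMonHom t] [Mono t] {z : Z ⟶ G}
    (hz : Red.IsCentre z) [IsAffine K.left] (k₀ : K ⟶ T) [IsMonHom k₀] [Mono k₀]
    (hK : ∀ (X : Over (Spec (CommRingCat.of B))) (y : X ⟶ T), (∃ x, x ≫ k₀ = y) ↔ ∃ q, q ≫ z = y ≫ t)
    (p : Ideal B) [p.IsPrime] :
    ∃ f ∉ p, ∃ (Q : Type) (_ : AddCommGroup Q), AddGroup.FG Q ∧
      Nonempty (Grp.mk (Red.bc (Spec.map (CommRingCat.ofHom (algebraMap B (Localization.Away f)))) K) ≅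
        Grp.mk (Red.DS (Spec (CommRingCat.of (Localization.Away f))) Q)) := by
  haveI : IsAffine G.left := isAffine_of_isAffineHom G.hom
  obtain ⟨A, _, _, ⟨e⟩⟩ := exists_hopf G
  haveI : IsMonHom e.hom.hom.hom := e.hom.hom.isMonHom_hom
  haveI : IsMonHom e.inv.hom.hom := e.inv.hom.isMonHom_hom
  let ε : G ≅ sp B A := ((Grp.forget _).mapIso e).symm
  haveI : IsMonHom ε.hom := ‹IsMonHom e.inv.hom.hom›
  haveI : IsIso e.hom.hom.hom.left :=
    inferInstanceAs (IsIso ((Over.forget _).map ((Grp.forget _).mapIso e).hom))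
  haveI : Smooth (sp B A).hom := by rw [← Over.w e.hom.hom.hom]; infer_instance
  haveI : Algebra.Smooth B A := RingHom.smooth_algebraMap.mp
    ((HasRingHomProperty.Spec_iff (P := @Smooth)).mp ‹Smooth (sp B A).hom›)
  have hconnA : ∀ s, _root_.IsConnected ((sp B A).hom.base ⁻¹' {s}) := fun s => by
    have h1 : e.hom.hom.hom.left ⁻¹' (G.hom.base ⁻¹' {s}) = (sp B A).hom.base ⁻¹' {s} := by
      ext x
      show G.hom (e.hom.hom.hom.left x) = s ↔ (sp B A).hom x = s
      rw [← Scheme.Hom.comp_apply, Over.w e.hom.hom.hom]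
    rw [← h1]
    exact (e.hom.hom.hom.left.homeomorph).isConnected_preimage.mpr (hconn s)
  obtain ⟨eT⟩ := hT
  obtain ⟨d⟩ := nonempty_DS_iso B (Fin r → ℤ)
  let δ : sp B (MonoidAlgebra B (Multiplicative (Fin r → ℤ))) ≅ T := (Grp.forget _).mapIso (d ≪≫ eT.symm)
  haveI : IsMonHom δ.hom := (d ≪≫ eT.symm).hom.hom.isMonHom_hom
  haveI : IsMonHom δ.inv := (d ≪≫ eT.symm).inv.hom.isMonHom_hom
  haveI := hz.1
  haveI : IsMonHom (z ≫ ε.hom) := inferInstance
  have hzA : Red.IsCentre (z ≫ ε.hom) := by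
    refine isCentralizerOf_of_iso ε.symm (Iso.refl _) ε ?_ ?_ hz
    · rw [Category.id_comp, Iso.symm_hom, ε.inv_hom_id]
    · rw [Iso.refl_hom, Category.id_comp]
  haveI : IsMonHom (δ.hom ≫ t ≫ ε.hom) := inferInstance
  haveI : IsMonHom (k₀ ≫ δ.inv) := inferInstance
  haveI : Mono (δ.hom ≫ t ≫ ε.hom) := mono_comp _ _
  haveI : Mono (k₀ ≫ δ.inv) := mono_comp _ _
  refine exists_away_diag (δ.hom ≫ t ≫ ε.hom) hconnA (z ≫ ε.hom) hzA (k₀ ≫ δ.inv) (fun X y => ?_) p
  have e1 : (∃ x, x ≫ k₀ ≫ δ.inv = y) ↔ ∃ x, x ≫ k₀ = y ≫ δ.hom :=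
    exists_congr fun x => by rw [← Category.assoc, Iso.comp_inv_eq]
  rw [e1, hK]
  simp only [← Category.assoc, cancel_mono ε.hom]

section Global

variable {S : Scheme.{u}} {G T : Over S} [GrpObj G] [GrpObj T] [Smooth G.hom] [IsAffineHom G.hom]

set_option maxHeartbeats 1000000 in
/-- The central points of a torus form a group of multiplicative type. -/
theorem isMultTypeFT_central_points (hconn : ∀ s : S, _root_.IsConnected (G.hom.base ⁻¹' {s})) (hT : Red.IsTorus T)
    (t : T ⟶ G) [IsMonHom t] [Mono t] {Z : Over S} [GrpObj Z] {z : Z ⟶ G} (hz : Red.IsCentre z)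
    {K : Over S} [GrpObj K] [IsAffineHom K.hom] (k₀ : K ⟶ T) [IsMonHom k₀] [Mono k₀]
    (hK : ∀ (X : Over S) (y : X ⟶ T), (∃ x, x ≫ k₀ = y) ↔ ∃ q, q ≫ z = y ≫ t) : SGA3x.IsMultTypeFT K := by
  obtain ⟨S₁, g, hgf, hgs, hgc, hgl⟩ := hT
  refine ⟨S₁, g, hgf, hgs, hgc, fun s₁ => ?_⟩
  obtain ⟨U, hsU, r, hsplit⟩ := hgl s₁
  obtain ⟨V, hV, hsV, hVU⟩ := exists_isAffineOpen_mem_and_subset hsU
  have hrV : Set.range hV.fromSpec ⊆ Set.range U.ι := by
    rw [Scheme.Opens.range_ι, hV.range_fromSpec]; exact hVU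
  let lV := IsOpenImmersion.lift U.ι hV.fromSpec hrV
  let v := hV.fromSpec ≫ g
  have hv : lV ≫ U.ι ≫ g = v := by rw [IsOpenImmersion.lift_fac_assoc]
  obtain ⟨e₁⟩ := MultTypeBC.bc_bc lV (U.ι ≫ g) T
  obtain ⟨e₂⟩ := MultTypeBC.bc_congr hv T
  obtain ⟨e₀⟩ := TorusBasic.isSplit_bc lV hsplit
  have hTv : Red.IsSplitTorusWith (Fin r → ℤ) (Red.bc v T) := ⟨e₂.symm ≪≫ e₁.symm ≪≫ e₀⟩
  haveI : Smooth (Red.bc v G).hom := inferInstanceAs (Smooth (pullback.snd G.hom v))
  haveI : IsAffineHom (Red.bc v G).hom := MorphismProperty.pullback_snd G.hom v ‹IsAffineHom G.hom›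
  haveI : IsAffineHom (Red.bc v K).hom := MorphismProperty.pullback_snd K.hom v ‹IsAffineHom K.hom›
  haveI : IsAffine (Red.bc v K).left := isAffine_of_isAffineHom (Red.bc v K).hom
  rw [← SetLike.mem_coe, ← hV.range_fromSpec] at hsV
  obtain ⟨p, hp⟩ := hsV
  obtain ⟨f, hf, Q, _, hQ, ⟨eQ⟩⟩ := exists_diag_nhd hTv (isConnected_fibres_bc hconn v) ((Over.pullback v).map t)
    (isCentre_bc v hz) ((Over.pullback v).map k₀) (criterion_bc hK v) (p : PrimeSpectrum Γ(S₁, V)).asIdeal
  let j := Spec.map (CommRingCat.ofHom (algebraMap Γ(S₁, V) (Localization.Away f)))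
  haveI : IsOpenImmersion j := IsOpenImmersion.of_isLocalization f
  let o := j ≫ hV.fromSpec
  obtain ⟨w, hw⟩ : (p : PrimeSpectrum Γ(S₁, V)) ∈
      Set.range (PrimeSpectrum.comap (algebraMap Γ(S₁, V) (Localization.Away f))) := by
    rw [PrimeSpectrum.localization_away_comap_range (Localization.Away f) f]
    exact hf
  have hc : o.isoOpensRange.inv ≫ j ≫ v = o.opensRange.ι ≫ g := by
    rw [← cancel_epi o.isoOpensRange.hom, Iso.hom_inv_id_assoc, Scheme.Hom.isoOpensRange_hom_ι_assoc]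
    exact (Category.assoc _ _ _).symm
  obtain ⟨d₁⟩ := MultTypeBC.bc_bc j v K
  obtain ⟨d₂⟩ := MultTypeBC.bc_bc o.isoOpensRange.inv (j ≫ v) K
  obtain ⟨d₃⟩ := MultTypeBC.bc_congr hc K
  obtain ⟨d₄⟩ := MultTypeBC.bc_iso o.isoOpensRange.inv (d₁.symm ≪≫ eQ)
  obtain ⟨d₅⟩ := MultTypeBC.bc_DS o.isoOpensRange.inv Q
  exact ⟨o.opensRange, ⟨w, by
    show hV.fromSpec (j w) = s₁
    rw [show j w = p from hw, hp]⟩, Q, inferInstance, hQ, ⟨d₃.symm ≪≫ d₂.symm ≪≫ d₄ ≪≫ d₅⟩⟩

set_option maxHeartbeats 1000000 in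
/-- A central homomorphism from a group of multiplicative type lands in every maximal torus. -/
theorem factor_maxTorus_of_central (hconn : ∀ s : S, _root_.IsConnected (G.hom.base ⁻¹' {s})) (i : T ⟶ G)
    (hi : Red.IsMaximalTorus i) {H : Over S} [GrpObj H] (hH : SGA3x.IsMultTypeFT H) (v : H ⟶ G) [IsMonHom v]
    (hv : IsCentralHom v) : ∃ w : H ⟶ T, w ≫ i = v := by
  haveI := hi.1; haveI := hi.2.1
  haveI := MultConjLib.smooth_of_isTorus hi.2.2.1
  obtain ⟨C, _, c, hc, hcc, hcart, i', hi', -, -⟩ := exists_centralizer_maxTorus i hi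
  haveI := hc.1; haveI := hc.2.1; haveI := hcc
  haveI : Smooth C.hom := hcart.2.2.1
  haveI : IsSeparated C.hom := by rw [← Over.w c]; infer_instance
  obtain ⟨v', hv'⟩ := (hc.2.2 H v).mpr fun X' x h => hv X' x (h ≫ i)
  haveI : IsMonHom (v' ≫ c) := hv'.symm ▸ ‹IsMonHom v›
  haveI : IsMonHom v' := isMonHom_of_mono_comp v' c
  haveI : IsMonHom (i' ≫ c) := hi'.symm ▸ hi.1
  haveI : IsMonHom i' := isMonHom_of_mono_comp i' c
  haveI : Mono (i' ≫ c) := hi'.symm ▸ hi.2.1
  haveI : Mono i' := mono_of_mono i' c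
  have hcentral : ∀ (Y : Over S) (g : Y ⟶ C) (a : Y ⟶ T), g * (a ≫ i') = (a ≫ i') * g := fun Y g a => by
    have h := (hc.2.2 Y (g ≫ c)).mp ⟨g, rfl⟩ Y (𝟙 Y) a
    rw [Category.id_comp, ← hi', ← Category.assoc, ← MonObj.mul_comp, ← MonObj.mul_comp, cancel_mono] at h
    exact h
  haveI : LocallyOfFinitePresentation (i'.left ≫ C.hom) := by rw [Over.w i']; infer_instance
  haveI : LocallyOfFinitePresentation i'.left := Groth.Agent.AlgSpPts.locallyOfFinitePresentation_of_comp i'.left C.hom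
  obtain ⟨U, -, hU, hUle⟩ := EqLocusMono.main i' v' (RankOne.isMultTypeFT_of_isTorus hi.2.2.1) hH
    (Or.inl hcentral) (Or.inr inferInstance)
  have hall : ∀ s : S, s ∈ U := fun s => (hU s).mpr (by
    let σ := Red.geomPt s
    haveI : Smooth (Red.geomFibre s G).hom := inferInstanceAs (Smooth (pullback.snd G.hom σ))
    haveI : IsAffineHom (Red.geomFibre s G).hom := MorphismProperty.pullback_snd G.hom σ ‹IsAffineHom G.hom›
    haveI : IsAffine (Red.geomFibre s G).left := isAffine_of_isAffineHom (Red.geomFibre s G).hom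
    haveI : ConnectedSpace (Red.geomFibre s G).left := connectedSpace_geomFibre hconn s
    obtain ⟨θ, hθ⟩ := central_multType_factors ((Over.pullback σ).map i)
      ⟨inferInstance, inferInstance, isTorus_bc σ hi.2.2.1, fun T'' _ j _ _ f hT'' hf => hi.2.2.2 s T'' j f hT'' hf⟩
      (MultTypeBC.isMultTypeFT_bc σ hH) ((Over.pullback σ).map v) (hv.bc σ)
    have hθ' : θ ≫ (Over.pullback σ).map i' = (Over.pullback σ).map v' := by
      rw [← cancel_mono ((Over.pullback σ).map c), Category.assoc, ← Functor.map_comp, hi', hθ, ← Functor.map_comp, hv']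
    let ψ : Spec (CommRingCat.of (AlgebraicClosure (S.residueField s))) ⟶ Spec (S.residueField s) :=
      Spec.map (CommRingCat.ofHom (algebraMap (S.residueField s) (AlgebraicClosure (S.residueField s))))
    exact EqLocusMono.Le.of_covers ψ (HomUnitLocus.covers_field _) (le_of_map i' v' σ θ hθ'))
  have hrange : Set.range H.hom ⊆ Set.range U.ι := by
    rw [Scheme.Opens.range_ι]; exact fun s _ => hall s
  obtain ⟨w, hw⟩ := hUle H (Over.homMk (IsOpenImmersion.lift U.ι H.hom hrange) (IsOpenImmersion.lift_fac _ _ _)) (𝟙 H)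
  exact ⟨w, by rw [← hi', reassoc_of% hw, hv']⟩

set_option maxHeartbeats 1000000 in
/-- A group with connected fibres and a maximal torus has a reductive centre. -/
theorem exists_redCentre_of_maxTorus (hconn : ∀ s : S, _root_.IsConnected (G.hom.base ⁻¹' {s})) (i : T ⟶ G)
    (hi : Red.IsMaximalTorus i) : ∃ (K : Over S) (_ : GrpObj K) (z : K ⟶ G), IsRedCentre z := by
  haveI := hi.1; haveI := hi.2.1
  obtain ⟨Zc, _, zc, hzc, hzcl⟩ := exists_centre_closed hconn
  haveI := hzc.1; haveI := hzc.2.1; haveI := hzcl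
  obtain ⟨K, _, a, b, ham, hbm, hamono, hsqL, hsq⟩ := exists_preimage_subgroup i zc
  haveI := ham; haveI := hamono
  haveI : IsAffineHom T.hom :=
    MultConjLib.isAffineHom_of_locDS (MultConjLib.isLocDS_of_multTypeFT (RankOne.isMultTypeFT_of_isTorus hi.2.2.1))
  haveI : IsClosedImmersion a.left := MorphismProperty.of_isPullback (P := @IsClosedImmersion) hsqL.flip hzcl
  haveI : IsAffineHom K.hom := by rw [← Over.w a]; infer_instance
  have hK : ∀ (X : Over S) (y : X ⟶ T), (∃ x, x ≫ a = y) ↔ ∃ q, q ≫ zc = y ≫ i := fun X y =>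
    ⟨fun ⟨x, hx⟩ => ⟨x ≫ b, by rw [Category.assoc, ← hsq.w, reassoc_of% hx]⟩,
      fun ⟨q, hq⟩ => ⟨hsq.lift y q hq.symm, hsq.lift_fst _ _ _⟩⟩
  haveI : IsMonHom (a ≫ i) := inferInstance
  haveI : Mono (a ≫ i) := mono_comp _ _
  refine ⟨K, inferInstance, a ≫ i, inferInstance, inferInstance,
    isMultTypeFT_central_points hconn hi.2.2.1 i hzc a hK, fun X x g => ?_, fun U f H _ v _ hH hv => ?_⟩
  · rw [hsq.w, ← Category.assoc]
    have h := (hzc.2.2 X ((x ≫ b) ≫ zc)).mp ⟨x ≫ b, rfl⟩ X (𝟙 X) g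
    rwa [Category.id_comp, Category.comp_id] at h
  haveI : Smooth (Red.bc f G).hom := inferInstanceAs (Smooth (pullback.snd G.hom f))
  haveI : IsAffineHom (Red.bc f G).hom := MorphismProperty.pullback_snd G.hom f ‹IsAffineHom G.hom›
  obtain ⟨w, hw⟩ := factor_maxTorus_of_central (isConnected_fibres_bc hconn f) ((Over.pullback f).map i)
    (isMaximalTorus_bc i hi f) hH v hv
  obtain ⟨q, hq⟩ := ((isCentre_bc f hzc).2.2 H v).mpr fun X' x h => by
    rw [Category.comp_id]; exact hv X' x h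
  obtain ⟨x, hx⟩ := (criterion_bc hK f H w).mpr ⟨q, by rw [hq, hw]⟩
  exact ⟨x, by rw [Functor.map_comp, reassoc_of% hx, hw]⟩

end Global

/-- Groups with connected fibres and locally constant reductive rank have a reductive centre. -/
theorem exists_redCentre_of_rank {S : Scheme.{u}} {G : Over S} [GrpObj G] [Smooth G.hom] [IsAffineHom G.hom]
    (hconn : ∀ s : S, _root_.IsConnected (G.hom.base ⁻¹' {s})) (hr : SGA3x.RedRankLocallyConstant G) :
    ∃ (Z : Over S) (_ : GrpObj Z) (z : Z ⟶ G), IsRedCentre z := by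
  obtain ⟨S', f, hfe, hfs, T, _, i, hi⟩ := hasMaxTorusEtaleLocally_of_rank G hr
  haveI := hfe; haveI := hfs
  haveI : Smooth (Red.bc f G).hom := inferInstanceAs (Smooth (pullback.snd G.hom f))
  haveI : IsAffineHom (Red.bc f G).hom := MorphismProperty.pullback_snd G.hom f ‹IsAffineHom G.hom›
  obtain ⟨Z₀, _, z₀, hz₀⟩ := exists_redCentre_of_maxTorus (isConnected_fibres_bc hconn f) i hi
  exact exists_redCentre_descent (FpqcDescLib.isCovering_of_lfp f) z₀ hz₀

end Groth.Agent.RankLib
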