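import Groth.Agent.RankLib.Iff
import Groth.Agent.GModLib.CentralTorusDescent
import Groth.Agent.GModLib.CentralizerRelative
import Groth.Agent.GModLib.BorelRelative
import Groth.Agent.GModLib.NilpotentTori
import Groth.Agent.GModLib.NilpotentBridge
import Groth.Agent.GModLib.CentralKernelRelative
import Groth.Agent.GModLib.NeutralTorus
import Groth.Agent.S9777

/-!
# Consequences of the étale local existence of maximal tori
-/

set_option autoImplicit false
set_option backward.isDefEq.respectTransparency false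
set_option backward.isDefEq.respectTransparency.types false

universe u

open CategoryTheory Limits AlgebraicGeometry MonoidalCategory CartesianMonoidalCategory MonObj GrpObj

namespace Groth.Agent.RankLib

open GrpSchLib GModLib

variable {k : Type u} [Field k]

/-- The dimension does not change under extension of the base field. -/
theorem topologicalKrullDim_bc {K : Type u} [Field K] (X : Over (Spec (CommRingCat.of k))) [QuasiCompact X.hom]
    [LocallyOfFiniteType X.hom] (σ : Spec (CommRingCat.of K) ⟶ Spec (CommRingCat.of k)) :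
    topologicalKrullDim ↥(Red.bc σ X).left = topologicalKrullDim ↥X.left := by
  let f' := pullback.snd X.hom σ
  let y' : ↥(Spec (CommRingCat.of K)) := IsLocalRing.closedPoint _
  have h := Groth.Agent.S9777.result X.hom σ f' (pullback.fst X.hom σ) (IsPullback.of_hasPullback X.hom σ) y'
  rw [(f'.fiberHomeo y').isHomeomorph.topologicalKrullDim_eq,
    (X.hom.fiberHomeo (σ y')).isHomeomorph.topologicalKrullDim_eq] at h
  have h1 : f' ⁻¹' {y'} = Set.univ :=
    Set.eq_univ_of_forall fun _ => Subsingleton.elim (α := PrimeSpectrum K) _ _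
  have h2 : X.hom ⁻¹' {σ y'} = Set.univ :=
    Set.eq_univ_of_forall fun _ => Subsingleton.elim (α := PrimeSpectrum k) _ _
  rw [((Homeomorph.setCongr h1).trans (Homeomorph.Set.univ _)).isHomeomorph.topologicalKrullDim_eq,
    ((Homeomorph.setCongr h2).trans (Homeomorph.Set.univ _)).isHomeomorph.topologicalKrullDim_eq] at h
  exact h

variable [IsAlgClosed k]

/-- Maximal tori are conjugate. -/
theorem exists_conj_maxTorus {G T₁ T₂ : Over (Spec (CommRingCat.of k))} [GrpObj G] [GrpObj T₁] [GrpObj T₂]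
    [Smooth G.hom] [QuasiCompact G.hom] (i₁ : T₁ ⟶ G) (i₂ : T₂ ⟶ G) (h₁ : Red.IsMaximalTorus i₁)
    (h₂ : Red.IsMaximalTorus i₂) :
    ∃ (g : 𝟙_ (Over (Spec (CommRingCat.of k))) ⟶ G) (φ : T₁ ≅ T₂), φ.hom ≫ i₂ = i₁ ≫ inner g := by
  obtain ⟨G0, _, io, hio, hG0s, hG0q, -, hG0c⟩ := exists_neutral G
  haveI := hG0s; haveI := hG0q; haveI := hio.isMonHom
  haveI : ConnectedSpace G0.left := connectedSpace_iff_univ.mpr (by
    have h := hG0c (IsLocalRing.closedPoint k)
    rwa [show G0.hom.base ⁻¹' {IsLocalRing.closedPoint k} = Set.univ from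
      Set.eq_univ_of_forall fun z => @Subsingleton.elim (PrimeSpectrum k) _ _ _] at h)
  obtain ⟨M, _, iM, hM, hall⟩ := exists_maxTorus_all G0
  have key : ∀ {T' : Over (Spec (CommRingCat.of k))} [GrpObj T'] (i' : T' ⟶ G), Red.IsMaximalTorus i' →
      ∃ (a : 𝟙_ (Over (Spec (CommRingCat.of k))) ⟶ G) (e : T' ≅ M), e.hom ≫ iM ≫ io = i' ≫ inner a := by
    intro T' _ i' hi'
    obtain ⟨j, hji, hj⟩ := hio.isMaximalTorus_down i' hi'
    haveI := hj.1; haveI := hj.2.1
    have hj' := isMaxTorus_of_geomFibre j hj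
    haveI := hM.1; haveI := hM.2.1
    obtain ⟨x, e, he⟩ := hall T' j hj'.2.2.1
    haveI : IsIso e := hj'.2.2.2 M (iM ≫ inner x⁻¹) e hM.2.2.1 (by
      rw [← Category.assoc, he, Category.assoc, inner_inner, inv_mul_cancel, inner_one, Category.comp_id])
    refine ⟨x ≫ io, asIso e, ?_⟩
    rw [asIso_hom, ← Category.assoc, he, ← hji, comp_inner, comp_inner, MonObj.mul_comp,
      MonObj.mul_comp, GrpObj.inv_comp, Category.assoc]
  obtain ⟨a₁, e₁, he₁⟩ := key i₁ h₁
  obtain ⟨a₂, e₂, he₂⟩ := key i₂ h₂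
  refine ⟨a₂⁻¹ * a₁, e₁ ≪≫ e₂.symm, ?_⟩
  rw [← inner_inner, Iso.trans_hom, Iso.symm_hom, ← reassoc_of% he₁, Category.assoc]
  congr 1
  rw [e₂.inv_comp_eq, reassoc_of% he₂, inner_inner, inv_mul_cancel, inner_one, Category.comp_id]

/-- Centralizers of maximal tori have the same dimension. -/
theorem dim_centralizer_eq {G T₁ T₂ C₁ C₂ : Over (Spec (CommRingCat.of k))} [GrpObj G] [GrpObj T₁] [GrpObj T₂]
    [GrpObj C₁] [GrpObj C₂] [Smooth G.hom] [QuasiCompact G.hom] (i₁ : T₁ ⟶ G) (i₂ : T₂ ⟶ G)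
    (h₁ : Red.IsMaximalTorus i₁) (h₂ : Red.IsMaximalTorus i₂) (c₁ : C₁ ⟶ G) (c₂ : C₂ ⟶ G)
    (hc₁ : Red.IsCentralizerOf i₁ c₁) (hc₂ : Red.IsCentralizerOf i₂ c₂) :
    topologicalKrullDim ↥C₁.left = topologicalKrullDim ↥C₂.left := by
  obtain ⟨g, φ, hφ⟩ := exists_conj_maxTorus i₁ i₂ h₁ h₂
  haveI := hc₁.1
  haveI : IsMonHom (asIso (inner g)).hom := inferInstanceAs (IsMonHom (inner g))
  have h := isCentralizerOf_of_iso (i' := i₂) (c' := c₁ ≫ inner g) φ.symm (Iso.refl C₁) (asIso (inner g))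
    (by rw [asIso_hom, Iso.symm_hom, ← hφ, Iso.inv_hom_id_assoc]) (by simp) hc₁
  obtain ⟨e, -⟩ := exists_iso_of_isCentralizerOf h hc₂
  haveI : IsIso e.hom.left := inferInstanceAs (IsIso ((Over.forget _).map e.hom))
  exact e.hom.left.homeomorph.isHomeomorph.topologicalKrullDim_eq

variable {S : Scheme.{u}}

set_option maxHeartbeats 1000000 in
/-- The nilpotent rank is locally constant where the reductive rank is. -/
theorem nilRank_locallyConstant (G : Over S) [GrpObj G] [IsAffineHom G.hom] [Smooth G.hom]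
    (hr : SGA3x.RedRankLocallyConstant G) (s : S) :
    ∃ U : S.Opens, s ∈ U ∧ ∃ r : WithBot ℕ∞, ∀ t : S, t ∈ U →
      ∀ (C' : Over (Spec (CommRingCat.of (AlgebraicClosure (S.residueField t))))) [GrpObj C']
        (c' : C' ⟶ Red.geomFibre t G),
        SGA3x.IsCartanOver (AlgebraicClosure (S.residueField t)) c' → topologicalKrullDim ↥C'.left = r := by
  obtain ⟨S', f, hfe, hfs, T, _, i, hi⟩ := hasMaxTorusEtaleLocally_of_rank G hr
  haveI := hfe; haveI := hi.1; haveI := hi.2.1
  haveI : Smooth (Red.bc f G).hom := inferInstanceAs (Smooth (pullback.snd G.hom f))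
  haveI : QuasiCompact (Red.bc f G).hom := inferInstanceAs (QuasiCompact (pullback.snd G.hom f))
  haveI : IsSeparated (Red.bc f G).hom := inferInstanceAs (IsSeparated (pullback.snd G.hom f))
  obtain ⟨C, _, c, hc, hcc, hcart, -⟩ := exists_centralizer_maxTorus i hi
  haveI := hcc
  haveI : Smooth C.hom := hcart.2.2.1
  haveI : QuasiCompact C.hom := by rw [← Over.w c]; infer_instance
  have hd := Groth.Agent.S3022.result S' C
  obtain ⟨s', rfl⟩ := hfs.surj s
  let d := topologicalKrullDim ↥(C.hom.base ⁻¹' {s'})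
  refine ⟨⟨f.base '' {x | topologicalKrullDim ↥(C.hom.base ⁻¹' {x}) = d}, f.isOpenMap _ (hd.isOpen_fiber d)⟩,
    ⟨s', rfl, rfl⟩, d, ?_⟩
  rintro _ ⟨x, hx, rfl⟩ C' _ c' ⟨hc'm, hc'o, T₂, _, i₂, hi₂, hc'⟩
  haveI := hc'm; haveI := hi₂.1; haveI := hi₂.2.1
  rw [← hx, ← RedOpenLib.topologicalKrullDim_geomFibre]
  let Gt := Red.geomFibre (f x) G
  haveI : Smooth Gt.hom := inferInstanceAs (Smooth (pullback.snd G.hom _))
  haveI : QuasiCompact Gt.hom := inferInstanceAs (QuasiCompact (pullback.snd G.hom _))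
  haveI : IsSeparated Gt.hom := inferInstanceAs (IsSeparated (pullback.snd G.hom _))
  obtain ⟨C₂, _, c₂, hc₂, hc₂c, hc₂cart, -⟩ := exists_centralizer_maxTorus i₂ hi₂
  haveI := hc₂c
  obtain ⟨e, -⟩ := exists_iso_of_isCentralizerOf hc' hc₂
  haveI : IsIso e.hom.left := inferInstanceAs (IsIso ((Over.forget _).map e.hom))
  haveI : QuasiCompact C₂.hom := by rw [← Over.w c₂]; infer_instance
  haveI : Smooth C₂.hom := hc₂cart.2.2.1
  haveI : QuasiCompact C'.hom := by rw [← Over.w e.hom]; infer_instance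
  haveI : LocallyOfFiniteType C'.hom := by rw [← Over.w e.hom]; infer_instance
  obtain ⟨ρ, hρ⟩ := exists_geomPt_lift f x
  haveI : Smooth (Red.bc ρ Gt).hom := inferInstanceAs (Smooth (pullback.snd Gt.hom ρ))
  haveI : QuasiCompact (Red.bc ρ Gt).hom := inferInstanceAs (QuasiCompact (pullback.snd Gt.hom ρ))
  let β : Red.bc (Red.geomPt x) (Red.bc f G) ≅ Red.bc ρ Gt :=
    fibreIso (a := Red.geomPt x) rfl G ≪≫ (fibreIso hρ G).symm
  haveI : IsMonHom β.hom := inferInstanceAs (IsMonHom ((fibreIso _ G).hom ≫ (fibreIso hρ G).inv))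
  haveI := hc.1
  have h₁ := isMaximalTorus_of_iso β _ (isMaximalTorus_bc i hi (Red.geomPt x))
  have h₂ := isMaximalTorus_bc i₂ hi₂ ρ
  have hc₁ := isCentralizerOf_of_iso (i' := (Over.pullback (Red.geomPt x)).map i ≫ β.hom)
    (c' := (Over.pullback (Red.geomPt x)).map c ≫ β.hom) (Iso.refl _) (Iso.refl _) β (by simp) (by simp)
    (BC.isCentralizerOf_bc (Red.geomPt x) hc)
  rw [← topologicalKrullDim_bc C' ρ]
  exact dim_centralizer_eq _ _ h₂ h₁ _ _ (BC.isCentralizerOf_bc ρ hc') hc₁

set_option maxHeartbeats 1000000 in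
/-- In a family of connected nilpotent groups a maximal torus is central. -/
theorem central_maxTorus_of_nilpotent (G : Over S) [GrpObj G] [IsAffineHom G.hom] [Smooth G.hom]
    (hconn : ∀ s : S, ConnectedSpace ↥(Red.geomFibre s G).left)
    (hnil : ∀ s : S, Group.IsNilpotent
      (VecGrp.pt (AlgebraicClosure (S.residueField s)) (AlgebraicClosure (S.residueField s)) ⟶ Red.geomFibre s G))
    {T : Over S} [GrpObj T] (i : T ⟶ G) (hi : Red.IsMaximalTorus i) (X : Over S) (t : X ⟶ T) (g : X ⟶ G) :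
    (t ≫ i) * g = g * (t ≫ i) := by
  haveI := hi.1; haveI := hi.2.1
  obtain ⟨C, _, c, hc, hcc, hcart, -⟩ := exists_centralizer_maxTorus i hi
  haveI := hc.2.1; haveI := hcc
  haveI : Smooth C.hom := hcart.2.2.1
  haveI : IsIso c := isIso_of_geomFibres c fun s => by
    let σ := Red.geomPt s
    haveI : Smooth (Red.geomFibre s G).hom := inferInstanceAs (Smooth (pullback.snd G.hom σ))
    haveI : QuasiCompact (Red.geomFibre s G).hom := inferInstanceAs (QuasiCompact (pullback.snd G.hom σ))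
    haveI := hconn s
    have hb := BC.isCentralizerOf_bc σ hc
    haveI := hb.2.1
    obtain ⟨z, hz⟩ := (hb.2.2 _ (𝟙 (Red.geomFibre s G))).mpr fun X' x h =>
      (central_of_isNilpotent (hnil s) ((Over.pullback σ).map i) (isTorus_bc σ hi.2.2.1) X' h (x ≫ 𝟙 _)).symm
    haveI : IsIso ((Over.pullback σ).map c) := ⟨z, by
      rw [← cancel_mono ((Over.pullback σ).map c), Category.assoc, hz]
      exact (Category.comp_id _).trans (Category.id_comp _).symm, hz⟩
    infer_instance
  have h := (hc.2.2 X g).mp ⟨g ≫ inv c, by simp⟩ X (𝟙 X) t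
  rw [Category.id_comp] at h
  exact h.symm

end Groth.Agent.RankLib

namespace Groth.Agent.RankLib

/-- Nilpotency of rational points, for either model of the point. -/
theorem isNilpotent_pt {k : Type u} [Field k] {G : Over (Spec (CommRingCat.of k))} [GrpObj G]
    (h : Group.IsNilpotent (𝟙_ (Over (Spec (CommRingCat.of k))) ⟶ G)) :
    Group.IsNilpotent (VecGrp.pt k k ⟶ G) := by
  let e : VecGrp.pt k k ≅ 𝟙_ (Over (Spec (CommRingCat.of k))) := Over.isoMk (Iso.refl _) (by
    show 𝟙 _ ≫ 𝟙 _ = (VecGrp.pt k k).hom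
    rw [Category.id_comp]
    exact (Spec.map_id _).symm)
  exact Group.nilpotent_of_mulEquiv
    { toFun := fun x => e.hom ≫ x
      invFun := fun y => e.inv ≫ y
      left_inv := fun x => e.inv_hom_id_assoc x
      right_inv := fun y => e.hom_inv_id_assoc y
      map_mul' := fun x y => MonObj.comp_mul e.hom x y }

end Groth.Agent.RankLib

namespace Groth.Agent.RankLib

open GrpSchLib GModLib

variable {S S' : Scheme.{u}}

set_option maxHeartbeats 1000000 in
/-- Connectedness and nilpotency of geometric fibres are stable under base change. -/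
theorem nilpotent_fibres_bc (G : Over S) [GrpObj G] [IsAffineHom G.hom] [Smooth G.hom]
    (hconn : ∀ s : S, ConnectedSpace ↥(Red.geomFibre s G).left)
    (hnil : ∀ s : S, Group.IsNilpotent
      (𝟙_ (Over (Spec (CommRingCat.of (AlgebraicClosure (S.residueField s))))) ⟶ Red.geomFibre s G))
    (f : S' ⟶ S) (x : S') :
    ConnectedSpace ↥(Red.geomFibre x (Red.bc f G)).left ∧ Group.IsNilpotent
      (VecGrp.pt (AlgebraicClosure (S'.residueField x)) (AlgebraicClosure (S'.residueField x)) ⟶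
        Red.geomFibre x (Red.bc f G)) := by
  have hfib : ∀ s : S, _root_.IsConnected (G.hom.base ⁻¹' {s}) := fun s => by
    haveI := hconn s
    have hr : G.hom.base ⁻¹' {s} = Set.range (pullback.fst G.hom (Red.geomPt s)) := by
      rw [Scheme.Pullback.range_fst]
      congr 1
      ext p
      refine ⟨fun hp => ⟨IsLocalRing.closedPoint _, (RedOpenLib.geomPt_closedPoint s).trans hp.symm⟩, ?_⟩
      rintro ⟨z, rfl⟩
      show Red.geomPt s z = s
      rw [@Subsingleton.elim (PrimeSpectrum (AlgebraicClosure (S.residueField s))) _ z (IsLocalRing.closedPoint _),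
        RedOpenLib.geomPt_closedPoint]
    rw [hr]
    haveI : ConnectedSpace ↥(pullback G.hom (Red.geomPt s)) := hconn s
    exact isConnected_range (pullback.fst G.hom (Red.geomPt s)).continuous
  haveI : LocallyOfFiniteType (Red.bc f G).hom := inferInstanceAs (LocallyOfFiniteType (pullback.snd G.hom f))
  haveI : QuasiCompact (Red.bc f G).hom := inferInstanceAs (QuasiCompact (pullback.snd G.hom f))
  refine ⟨connectedSpace_geomFibre (isConnected_fibres_bc hfib f) x, ?_⟩
  obtain ⟨ρ, hρ⟩ := exists_geomPt_lift f x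
  let K := AlgebraicClosure (S'.residueField x)
  let Gt := Red.geomFibre (f x) G
  haveI : Smooth Gt.hom := inferInstanceAs (Smooth (pullback.snd G.hom _))
  obtain ⟨n, hn⟩ := isNilpotentGrp_of_points Gt (isNilpotent_pt (hnil (f x)))
  haveI : Group.IsNilpotent ((Over.map ρ).obj (VecGrp.pt K K) ⟶ Gt) := ⟨n, hn _⟩
  let eθ : ((Over.map ρ).obj (VecGrp.pt K K) ⟶ Gt) ≃* (VecGrp.pt K K ⟶ Red.bc ρ Gt) :=
    (MulEquiv.ofBijective (MonoidHom.mk' (DSPtsLib.theta ρ) (DSPtsLib.theta_mul ρ))
      (DSPtsLib.theta_bijective ρ)).symm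
  haveI : Group.IsNilpotent (VecGrp.pt K K ⟶ Red.bc ρ Gt) := Group.nilpotent_of_mulEquiv eθ
  let β : Red.bc (Red.geomPt x) (Red.bc f G) ≅ Red.bc ρ Gt :=
    fibreIso (a := Red.geomPt x) rfl G ≪≫ (fibreIso hρ G).symm
  haveI : IsMonHom β.inv := inferInstanceAs (IsMonHom ((fibreIso hρ G).hom ≫ (fibreIso _ G).inv))
  exact Group.nilpotent_of_mulEquiv
    ({ toFun := fun p => p ≫ β.inv
       invFun := fun p => p ≫ β.hom
       left_inv := fun p => by simp
       right_inv := fun p => by simp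
       map_mul' := fun p q => MonObj.mul_comp p q β.inv } :
      (VecGrp.pt K K ⟶ Red.bc ρ Gt) ≃* (VecGrp.pt K K ⟶ Red.geomFibre x (Red.bc f G)))

end Groth.Agent.RankLib
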