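import Groth.Agent.S3273
import Groth.Agent.S16065
import Groth.Agent.DSPtsLib.Basic
import Groth.Agent.MultConjLib.Bridge
import Groth.Agent.GModLib.CentreMultType
import Groth.Agent.GModLib.CentreWeights
import Groth.Agent.FpqcDescLib.Closed
import Groth.Agent.GrpFieldLib.QuotTower

/-!
# A commutative extension of groups of multiplicative type over an algebraically closed field is diagonalizable
-/

set_option autoImplicit false
set_option backward.isDefEq.respectTransparency false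
set_option backward.isDefEq.respectTransparency.types false

universe u

open CategoryTheory Limits AlgebraicGeometry MonoidalCategory CartesianMonoidalCategory MonObj GrpObj WithConv
open TensorProduct

namespace Groth.Agent.RankLib

open GrpSchLib GrpSchLib.AffineHopf GModLib

variable {k : Type u} [Field k]

/-- A group of multiplicative type over a field has no nonzero homomorphism to the additive group. -/
theorem eq_one_of_multType_ga {H : Over (Spec (CommRingCat.of k))} [GrpObj H] (hH : SGA3x.IsMultTypeFT H)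
    (w : H ⟶ Red.Ga (Spec (CommRingCat.of k)))
    (hw : ∀ (Y : Over (Spec (CommRingCat.of k))) (a b : Y ⟶ H), (a * b) ≫ w = (a ≫ w) * (b ≫ w)) : w = 1 := by
  obtain ⟨S', f, hfl, hfs, -, hloc⟩ := hH
  haveI := hfl
  obtain ⟨s', -⟩ := hfs.surj (IsLocalRing.closedPoint k)
  obtain ⟨U, hsU, M, _, -, ⟨e⟩⟩ := hloc s'
  obtain ⟨V, hV, hsV, hVU⟩ := exists_isAffineOpen_mem_and_subset hsU
  let g := hV.fromSpec ≫ f
  haveI : Nonempty ↥(Spec Γ(S', V)) := by
    obtain ⟨p, -⟩ : s' ∈ Set.range hV.fromSpec := by rw [hV.range_fromSpec]; exact hsV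
    exact ⟨p⟩
  haveI : Surjective g := ⟨fun y => ⟨Classical.arbitrary _, @Subsingleton.elim (PrimeSpectrum k) _ _ _⟩⟩
  haveI : Flat g := inferInstanceAs (Flat (hV.fromSpec ≫ f))
  haveI : IsAffineHom g := isAffineHom_of_isAffine g
  have hc := (FpqcDescLib.covers_of_isCovering (FpqcDescLib.isCovering_of_quasiCompact g)).pullback H.hom
    _ (pullback.snd H.hom g) (IsPullback.of_hasPullback H.hom g)
  let lV : Spec Γ(S', V) ⟶ (U : Scheme.{u}) :=
    IsOpenImmersion.lift U.ι hV.fromSpec (by rw [Scheme.Opens.range_ι, hV.range_fromSpec]; exact hVU)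
  have hl : lV ≫ U.ι ≫ f = g := by rw [IsOpenImmersion.lift_fac_assoc]
  obtain ⟨e₁⟩ := MultTypeBC.bc_congr hl H
  obtain ⟨e₂⟩ := MultTypeBC.bc_bc lV (U.ι ≫ f) H
  obtain ⟨e₃⟩ := MultTypeBC.bc_iso lV e
  obtain ⟨e₄⟩ := MultTypeBC.bc_DS lV M
  let E : Grp.mk (Red.bc g H) ≅ Grp.mk (Red.DS (Spec Γ(S', V)) M) := e₁.symm ≪≫ e₂.symm ≪≫ e₃ ≪≫ e₄
  haveI : IsMonHom E.inv.hom.hom := E.inv.hom.isMonHom_hom
  have h1 : DSPtsLib.theta g E.inv.hom.hom ≫ w = 1 := by
    refine DSPtsLib.eq_one_of_additive _ fun Y a b => ?_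
    simp only [← Category.assoc, ← DSPtsLib.theta_comp, MonObj.mul_comp, DSPtsLib.theta_mul]
    exact hw _ _ _
  have h2 : DSPtsLib.theta g (𝟙 (Red.bc g H)) ≫ w = 1 := by
    have e5 : E.hom.hom.hom ≫ E.inv.hom.hom = 𝟙 (Red.bc g H) := congrArg (fun φ => φ.hom.hom) E.hom_inv_id
    rw [← e5, DSPtsLib.theta_comp, Category.assoc, h1, MonObj.comp_one]
  have hk : FpqcDescLib.Covers (DSPtsLib.theta g (𝟙 (Red.bc g H))).left := by
    show FpqcDescLib.Covers (𝟙 (pullback H.hom g) ≫ pullback.fst H.hom g)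
    rw [Category.id_comp]
    exact hc
  haveI := hk.over_epi
  rw [← cancel_epi (DSPtsLib.theta g (𝟙 (Red.bc g H))), h2, MonObj.comp_one]

/-- Commutative groups have cocommutative coordinate rings. -/
theorem isCocomm_of_comm {R A : Type u} [CommRing R] [CommRing A] [HopfAlgebra R A]
    (hc : ∀ (X : Over (Spec (CommRingCat.of R))) (a b : X ⟶ sp R A), a * b = b * a) : Coalgebra.IsCocomm R A := by
  let fL : A →ₐ[R] A ⊗[R] A := Algebra.TensorProduct.includeLeft
  let fR : A →ₐ[R] A ⊗[R] A := Algebra.TensorProduct.includeRight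
  have h : (toConv fL * toConv fR).ofConv = (toConv fR * toConv fL).ofConv :=
    spMap_injective (by rw [← spMap_mul, ← spMap_mul]; exact hc _ _ _)
  refine ⟨LinearMap.ext fun a => ?_⟩
  have h' := AlgHom.congr_fun h a
  rw [AlgHom.convMul_apply, AlgHom.convMul_apply] at h'
  simp only [LinearMap.comp_apply, LinearEquiv.coe_coe]
  have e1 : ∀ z : A ⊗[R] A, Algebra.TensorProduct.lift fL fR (fun _ _ => Commute.all _ _) z = z := fun z => by
    induction z using TensorProduct.induction_on with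
    | zero => simp
    | tmul x y => simp [fL, fR]
    | add x y hx hy => rw [map_add, hx, hy]
  have e2 : ∀ z : A ⊗[R] A, Algebra.TensorProduct.lift fR fL (fun _ _ => Commute.all _ _) z =
      TensorProduct.comm R A A z := fun z => by
    induction z using TensorProduct.induction_on with
    | zero => simp
    | tmul x y => simp [fL, fR]
    | add x y hx hy => rw [map_add, map_add, hx, hy]
  rw [e1, e2] at h'
  exact h'.symm

variable [IsAlgClosed k]

/-- A diagonalizable coordinate ring gives a group of multiplicative type. -/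
theorem isMultTypeFT_sp_of_diag {A : Type u} [CommRing A] [HopfAlgebra k A] [Algebra.FiniteType k A]
    (h : HopfRep.IsDiagonalizable k A) : SGA3x.IsMultTypeFT (sp k A) := by
  obtain ⟨M, _, ⟨e⟩⟩ := S16065.isDiag_of_isDiagonalizable h
  haveI : Algebra.FiniteType k (MonoidAlgebra k M) := Algebra.FiniteType.equiv inferInstance (e : A ≃ₐ[k] _)
  haveI : Monoid.FG M := MonoidAlgebra.fg_of_finiteType (R := k)
  obtain ⟨N, iN, hN, ⟨eN⟩⟩ := MultConjLib.exists_small_model M
  obtain ⟨d⟩ := MultConjLib.nonempty_bialgEquiv_of_mulEquiv k eN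
  obtain ⟨e'⟩ := nonempty_DS_iso k N
  exact isMultTypeFT_of_iso_DS hN (spIso (e.trans d).symm ≪≫ e')

set_option maxHeartbeats 1000000 in
/-- A commutative affine extension of groups of multiplicative type over an algebraically closed field is of
multiplicative type. -/
theorem isMultTypeFT_of_extension {H N Q : Over (Spec (CommRingCat.of k))} [GrpObj H] [GrpObj N] [GrpObj Q]
    [IsAffine H.left] [LocallyOfFiniteType H.hom] (iN : N ⟶ H) [IsMonHom iN] (p : H ⟶ Q) [IsMonHom p] [Flat p.left]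
    [Surjective p.left] [QuasiCompact p.left] (hker : AlgGrp.IsKernel iN p) (hN : SGA3x.IsMultTypeFT N)
    (hQ : SGA3x.IsMultTypeFT Q) (hc : ∀ (X : Over (Spec (CommRingCat.of k))) (a b : X ⟶ H), a * b = b * a) :
    SGA3x.IsMultTypeFT H := by
  obtain ⟨A, _, _, ⟨e⟩⟩ := exists_hopf H
  let ε : sp k A ≅ H := (Grp.forget _).mapIso e
  haveI : IsMonHom ε.hom := e.hom.hom.isMonHom_hom
  haveI : IsMonHom ε.inv := e.inv.hom.isMonHom_hom
  haveI : IsIso ε.hom.left := inferInstanceAs (IsIso ((Over.forget _).map ε.hom))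
  haveI : LocallyOfFiniteType (sp k A).hom := by rw [← Over.w ε.hom]; infer_instance
  haveI : Algebra.FiniteType k A := RingHom.finiteType_algebraMap.mp
    ((HasRingHomProperty.Spec_iff (P := @LocallyOfFiniteType)).mp ‹LocallyOfFiniteType (sp k A).hom›)
  haveI : Coalgebra.IsCocomm k A := isCocomm_of_comm fun X a b => by
    rw [← cancel_mono ε.hom, MonObj.mul_comp, MonObj.mul_comp, hc]
  suffices hd : HopfRep.IsDiagonalizable k A by
    obtain ⟨S', f, h₁, h₂, h₃, h₄⟩ := isMultTypeFT_sp_of_diag hd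
    refine ⟨S', f, h₁, h₂, h₃, fun s => ?_⟩
    obtain ⟨U, hU, M, iM, hM, ⟨eM⟩⟩ := h₄ s
    obtain ⟨e₁⟩ := MultTypeBC.bc_iso (U.ι ≫ f) e
    exact ⟨U, hU, M, iM, hM, ⟨e₁.symm ≪≫ eM⟩⟩
  refine (Groth.Agent.S3273.result k A).mpr fun x hx => ?_
  -- the additive function
  let wA : sp k A ⟶ Red.Ga (Spec (CommRingCat.of k)) :=
    GaPts.ptOfFn ((Scheme.ΓSpecIso (CommRingCat.of A)).inv x)
  have hval : ∀ {W : Type u} [CommRing W] [Algebra k W] (c : A →ₐ[k] W),
      Red.gaFn (spMap c ≫ wA) = (Scheme.ΓSpecIso (CommRingCat.of W)).inv (c x) := fun {W} _ _ c => by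
    rw [GaPts.gaFn_comp, GaPts.gaFn_ptOfFn]
    exact (congrArg (fun ψ => (ConcreteCategory.hom ψ) x)
      (Scheme.ΓSpecIso_inv_naturality (CommRingCat.ofHom c.toRingHom))).symm
  have haff : ∀ {W : Type u} [CommRing W] [Algebra k W] (a b : sp k W ⟶ sp k A),
      (a * b) ≫ wA = (a ≫ wA) * (b ≫ wA) := fun {W} _ _ a b => by
    obtain ⟨a', rfl⟩ := exists_eq_spMap a
    obtain ⟨b', rfl⟩ := exists_eq_spMap b
    refine GaPts.gaFn_injective ?_
    show Red.gaFn _ = Red.gaFn _
    rw [GaPts.gaFn_mul, spMap_mul, hval, hval, hval]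
    refine Eq.trans (congrArg _ ?_) (map_add _ _ _)
    rw [AlgHom.convMul_apply]
    show Algebra.TensorProduct.lift a' b' _ (CoalgebraStruct.comul (R := k) x) = _
    rw [hx, map_add]
    simp
  have haddA : ∀ (Y : Over (Spec (CommRingCat.of k))) (a b : Y ⟶ sp k A),
      (a * b) ≫ wA = (a ≫ wA) * (b ≫ wA) := by
    haveI : IsAffine (sp k A).left := inferInstanceAs (IsAffine (Spec (CommRingCat.of A)))
    haveI : IsAffine (sp k A ⊗ sp k A).left := inferInstanceAs (IsAffine (pullback (sp k A).hom (sp k A).hom))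
    obtain ⟨W, _, _, eW, heW⟩ := exists_sp_iso (sp k A ⊗ sp k A)
    haveI := heW
    have huniv : (fst (sp k A) (sp k A) * snd _ _) ≫ wA = (fst _ _ ≫ wA) * (snd _ _ ≫ wA) := by
      rw [← cancel_epi eW, ← Category.assoc, MonObj.comp_mul, haff, MonObj.comp_mul, Category.assoc, Category.assoc]
    intro Y a b
    have h := congrArg (lift a b ≫ ·) huniv
    simpa only [MonObj.comp_mul, ← Category.assoc, lift_fst, lift_snd] using h
  obtain ⟨w, hwdef⟩ : ∃ w : H ⟶ Red.Ga (Spec (CommRingCat.of k)), w = ε.inv ≫ wA := ⟨_, rfl⟩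
  have hadd : ∀ (Y : Over (Spec (CommRingCat.of k))) (a b : Y ⟶ H), (a * b) ≫ w = (a ≫ w) * (b ≫ w) := fun Y a b => by
    simp only [hwdef, ← Category.assoc, MonObj.mul_comp]
    exact haddA _ _ _
  have hw0 : w = 1 := by
    have h1 : iN ≫ w = 1 := eq_one_of_multType_ga hN _ fun Y a b => by
      rw [← Category.assoc, MonObj.mul_comp, hadd, Category.assoc, Category.assoc]
    have hp := FpqcDescLib.covers_of_isCovering (FpqcDescLib.isCovering_of_quasiCompact p.left)
    obtain ⟨w', hw', -⟩ := hp.over_desc w fun T a b hab => by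
      have h2 : (a * b⁻¹) ≫ p = toUnit T ≫ η[Q] := by
        rw [MonObj.mul_comp, GrpObj.inv_comp, hab, mul_inv_cancel, Hom.one_def]
      let n := hker.lift _ (toUnit T) h2
      have hn : n ≫ iN = a * b⁻¹ := hker.lift_fst _ _ _
      have h3 : (a * b⁻¹) ≫ w = 1 := by rw [← hn, Category.assoc, h1, MonObj.comp_one]
      calc a ≫ w = ((a * b⁻¹) * b) ≫ w := by rw [inv_mul_cancel_right]
        _ = b ≫ w := by rw [hadd, h3, _root_.one_mul]
    have hepi : ∀ (Y : Over (Spec (CommRingCat.of k))) (a b : Y ⟶ Q),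
        (a * b) ≫ w' = (a ≫ w') * (b ≫ w') := fun Y a b => by
      obtain ⟨Y₁, q₁, a₁, hq₁, ha₁⟩ : ∃ (Y₁ : Over (Spec (CommRingCat.of k))) (q₁ : Y₁ ⟶ Y) (a₁ : Y₁ ⟶ H),
          FpqcDescLib.Covers q₁.left ∧ a₁ ≫ p = q₁ ≫ a :=
        ⟨Over.mk (pullback.fst a.left p.left ≫ Y.hom), Over.homMk (pullback.fst a.left p.left) rfl,
          Over.homMk (pullback.snd a.left p.left) (by
            show _ ≫ H.hom = _ ≫ Y.hom
            rw [← Over.w p, ← pullback.condition_assoc, Over.w a]),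
          hp.pullback a.left _ (pullback.snd a.left p.left) (IsPullback.of_hasPullback a.left p.left),
          Over.OverMorphism.ext pullback.condition.symm⟩
      obtain ⟨Y₂, q₂, b₂, hq₂, hb₂⟩ : ∃ (Y₂ : Over (Spec (CommRingCat.of k))) (q₂ : Y₂ ⟶ Y₁) (b₂ : Y₂ ⟶ H),
          FpqcDescLib.Covers q₂.left ∧ b₂ ≫ p = q₂ ≫ q₁ ≫ b :=
        ⟨Over.mk (pullback.fst (q₁ ≫ b).left p.left ≫ Y₁.hom), Over.homMk (pullback.fst (q₁ ≫ b).left p.left) rfl,
          Over.homMk (pullback.snd (q₁ ≫ b).left p.left) (by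
            show _ ≫ H.hom = _ ≫ Y₁.hom
            rw [← Over.w p, ← pullback.condition_assoc, Over.w (q₁ ≫ b)]),
          hp.pullback (q₁ ≫ b).left _ (pullback.snd (q₁ ≫ b).left p.left)
            (IsPullback.of_hasPullback (q₁ ≫ b).left p.left),
          Over.OverMorphism.ext pullback.condition.symm⟩
      haveI := hq₁.over_epi
      haveI := hq₂.over_epi
      rw [← cancel_epi q₁, ← cancel_epi q₂]
      simp only [MonObj.comp_mul, ← Category.assoc] at hb₂ ⊢
      rw [show (q₂ ≫ q₁) ≫ a = (q₂ ≫ a₁) ≫ p by rw [Category.assoc, Category.assoc, ha₁], ← hb₂, ← MonObj.mul_comp]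
      simp only [Category.assoc, hw']
      rw [← Category.assoc, hadd, Category.assoc]
    rw [← hw', eq_one_of_multType_ga hQ w' hepi, MonObj.comp_one]
  have h4 : wA = 1 := by rw [← cancel_epi ε.inv, MonObj.comp_one, ← hwdef]; exact hw0
  have h5 := congrArg Red.gaFn h4
  rw [GaPts.gaFn_ptOfFn, GaPts.gaFn_one] at h5
  exact (Scheme.ΓSpecIso (CommRingCat.of A)).commRingCatIsoToRingEquiv.symm.injective (h5.trans (map_zero _).symm)

end Groth.Agent.RankLib
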