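import Mathlib.Algebra.MonoidAlgebra.Basic
import Mathlib.Algebra.MvPolynomial.Eval
import Mathlib.Data.ZMod.Basic
import Mathlib.LinearAlgebra.TensorProduct.Basic
import Mathlib.RingTheory.TensorProduct.Maps
import Mathlib.Algebra.Algebra.Operations
import Mathlib.Data.Int.Interval
import Mathlib.Tactic.Linarith

/-!
# Laurent polynomials of bounded support are determined by their values at roots of unity
-/

set_option autoImplicit false

universe u

open TensorProduct

noncomputable section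

namespace Groth.Agent.RankLib

/-- Exponent vectors written multiplicatively. -/
abbrev Ex (r : ℕ) : Type := Multiplicative (Fin r → ℤ)

/-- Laurent polynomials. -/
abbrev Lau (A : Type u) [CommRing A] (r : ℕ) : Type u := MonoidAlgebra A (Ex r)

variable (A : Type u) [CommRing A]

/-- A root of unity all whose nontrivial powers differ from one by a unit. -/
structure GoodRoot (n : ℕ) where
  z : Aˣ
  pow_eq_one : z ^ n = 1
  isUnit_n : IsUnit (n : A)
  isUnit_sub : ∀ d : ℕ, 0 < d → d < n → IsUnit (1 - (z : A) ^ d)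

variable {A} {n : ℕ}

namespace GoodRoot

variable (ζ : GoodRoot A n)

/-- Powers indexed by `ZMod n`. -/
def hom : ZMod n →+ Additive Aˣ :=
  ZMod.lift n ⟨zmultiplesHom (Additive Aˣ) (Additive.ofMul ζ.z), by
    rw [zmultiplesHom_apply, natCast_zsmul, ← ofMul_pow, ζ.pow_eq_one, ofMul_one]⟩

/-- The power of the root attached to a residue. -/
def zp (x : ZMod n) : A := ((Additive.toMul (ζ.hom x) : Aˣ) : A)

theorem zp_zero : ζ.zp 0 = 1 := by simp [zp]

theorem zp_add (x y : ZMod n) : ζ.zp (x + y) = ζ.zp x * ζ.zp y := by simp [zp]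

theorem zp_natCast (d : ℕ) : ζ.zp (d : ZMod n) = (ζ.z : A) ^ d := by
  rw [zp, ← Int.cast_natCast, GoodRoot.hom, ZMod.lift_coe]
  simp

/-- The character of a residue vector on exponent vectors. -/
def chi {r : ℕ} (t : Fin r → ZMod n) : Ex r →* A where
  toFun m := ζ.zp (∑ i, (m.toAdd i : ZMod n) * t i)
  map_one' := by simp [zp_zero]
  map_mul' a b := by simp [← zp_add, add_mul, Finset.sum_add_distrib]

theorem chi_add {r : ℕ} (t t' : Fin r → ZMod n) (m : Ex r) : ζ.chi (t + t') m = ζ.chi t m * ζ.chi t' m := by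
  show ζ.zp _ = ζ.zp _ * ζ.zp _
  simp [← zp_add, mul_add, Finset.sum_add_distrib]

theorem chi_zero {r : ℕ} (m : Ex r) : ζ.chi (0 : Fin r → ZMod n) m = 1 := by
  show ζ.zp _ = 1
  simp [zp_zero]

/-- Evaluation of Laurent polynomials. -/
def ev {r : ℕ} (t : Fin r → ZMod n) : Lau A r →ₐ[A] A := MonoidAlgebra.lift A A _ (ζ.chi t)

theorem ev_single {r : ℕ} (t : Fin r → ZMod n) (m : Ex r) (c : A) :
    ζ.ev t (MonoidAlgebra.single m c) = c * ζ.chi t m := by
  simp [ev, MonoidAlgebra.lift_single]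

variable [NeZero n]

theorem sum_zp {r : ℕ} (d : Fin r → ZMod n) (hd : d ≠ 0) : ∑ t : Fin r → ZMod n, ζ.zp (∑ i, d i * t i) = 0 := by
  classical
  obtain ⟨i, hi⟩ := Function.ne_iff.mp hd
  set s := ∑ t : Fin r → ZMod n, ζ.zp (∑ j, d j * t j)
  have h : s = ζ.zp (d i) * s := by
    refine (Equiv.sum_comp (Equiv.addRight (Pi.single i (1 : ZMod n) : Fin r → ZMod n))
      (fun t : Fin r → ZMod n => ζ.zp (∑ j, d j * t j))).symm.trans ?_
    rw [Finset.mul_sum]
    refine Finset.sum_congr rfl fun t _ => ?_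
    rw [← zp_add, add_comm]
    congr 1
    simp [mul_add, Finset.sum_add_distrib, Pi.single_apply]
  have hu : IsUnit (1 - ζ.zp (d i)) := by
    rw [← ZMod.natCast_zmod_val (d i), ζ.zp_natCast]
    exact ζ.isUnit_sub _ (Nat.pos_of_ne_zero fun h0 => hi ((ZMod.val_eq_zero _).mp h0)) (ZMod.val_lt _)
  refine hu.mul_right_eq_zero.mp ?_
  rw [sub_mul, ← h, one_mul, sub_self]

/-- The inverse of the number of residue vectors. -/
def cst (r : ℕ) : A := (((ζ.isUnit_n.unit ^ r)⁻¹ : Aˣ) : A)

theorem cst_mul_card (r : ℕ) : ζ.cst r * (Fintype.card (Fin r → ZMod n) : A) = 1 := by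
  rw [Fintype.card_fun, Fintype.card_fin, ZMod.card, Nat.cast_pow, cst]
  have : ((n : A) ^ r) = ((ζ.isUnit_n.unit ^ r : Aˣ) : A) := by simp [IsUnit.unit_spec]
  rw [this, ← Units.val_mul, inv_mul_cancel, Units.val_one]

/-- The coefficient read off from the values. -/
def cf {r : ℕ} (m : Ex r) : Lau A r →ₗ[A] A :=
  ζ.cst r • ∑ t : Fin r → ZMod n, ζ.chi t m⁻¹ • (ζ.ev t).toLinearMap

theorem sum_chi {r : ℕ} (v : Ex r) :
    ζ.cst r * ∑ t : Fin r → ZMod n, ζ.chi t v = if (fun i => (v.toAdd i : ZMod n)) = 0 then 1 else 0 := by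
  split_ifs with h
  · rw [← ζ.cst_mul_card r]
    have hv : ∀ t : Fin r → ZMod n, ζ.chi t v = 1 := fun t => by
      show ζ.zp (∑ i, (v.toAdd i : ZMod n) * t i) = 1
      simp [fun i => congrFun h i, zp_zero]
    simp [hv]
  · rw [show (∑ t : Fin r → ZMod n, ζ.chi t v) = 0 from ζ.sum_zp _ h, mul_zero]

theorem cf_single {r : ℕ} (m v : Ex r) :
    ζ.cf m (MonoidAlgebra.single v 1) =
      if (fun i => (v.toAdd i : ZMod n)) = fun i => (m.toAdd i : ZMod n) then 1 else 0 := by
  have h : ζ.cf m (MonoidAlgebra.single v 1) = ζ.cst r * ∑ t : Fin r → ZMod n, ζ.chi t (v * m⁻¹) := by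
    simp [cf, ev_single, mul_comm]
  rw [h, sum_chi]
  refine if_congr ?_ rfl rfl
  simp [funext_iff, add_neg_eq_zero]

end GoodRoot

/-- Exponent vectors with entries bounded by `L`. -/
def boxSet (r : ℕ) (L : ℕ) : Finset (Ex r) :=
  (Fintype.piFinset fun _ : Fin r => Finset.Icc (-(L : ℤ)) L).map Multiplicative.ofAdd.toEmbedding

theorem mem_boxSet {r L : ℕ} {m : Ex r} : m ∈ boxSet r L ↔ ∀ i, |m.toAdd i| ≤ L := by
  simp only [boxSet, Finset.mem_map_equiv, Fintype.mem_piFinset, Finset.mem_Icc, abs_le]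
  rfl

theorem mul_mem_boxSet {r L L' : ℕ} {a b : Ex r} (ha : a ∈ boxSet r L) (hb : b ∈ boxSet r L') :
    a * b ∈ boxSet r (L + L') := mem_boxSet.mpr fun i => by
  rw [toAdd_mul, Pi.add_apply, Nat.cast_add]
  exact (abs_add_le _ _).trans (add_le_add (mem_boxSet.mp ha i) (mem_boxSet.mp hb i))

variable (A) in
/-- Laurent polynomials supported in a box. -/
def Box (r L : ℕ) : Submodule A (Lau A r) :=
  Submodule.span A ((fun m => MonoidAlgebra.single m (1 : A)) '' (boxSet r L : Set (Ex r)))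

theorem single_mem_box {r L : ℕ} {m : Ex r} (hm : m ∈ boxSet r L) (c : A) :
    MonoidAlgebra.single m c ∈ Box A r L := by
  rw [show MonoidAlgebra.single m c = c • MonoidAlgebra.single m (1 : A) by simp]
  exact Submodule.smul_mem _ _ (Submodule.subset_span ⟨m, hm, rfl⟩)

theorem box_mono {r L L' : ℕ} (h : L ≤ L') : Box A r L ≤ Box A r L' :=
  Submodule.span_le.mpr fun _ ⟨_, hm, e⟩ => e ▸ single_mem_box (mem_boxSet.mpr fun i =>
    (mem_boxSet.mp hm i).trans (by exact_mod_cast h)) 1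

theorem one_mem_box {r L : ℕ} : (1 : Lau A r) ∈ Box A r L := by
  rw [MonoidAlgebra.one_def]
  exact single_mem_box (mem_boxSet.mpr fun i => by simp) 1

theorem mul_mem_box {r L L' : ℕ} {f g : Lau A r} (hf : f ∈ Box A r L) (hg : g ∈ Box A r L') :
    f * g ∈ Box A r (L + L') := by
  refine (Submodule.mul_le.mpr ?_ : Box A r L * Box A r L' ≤ _) (Submodule.mul_mem_mul hf hg)
  intro x hx y hy
  induction hx using Submodule.span_induction with
  | mem x h =>
    obtain ⟨a, ha, rfl⟩ := h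
    induction hy using Submodule.span_induction with
    | mem y h' =>
      obtain ⟨b, hb, rfl⟩ := h'
      rw [MonoidAlgebra.single_mul_single, one_mul]
      exact single_mem_box (mul_mem_boxSet ha hb) 1
    | zero => rw [mul_zero]; exact zero_mem _
    | add y y' _ _ h1 h2 => rw [mul_add]; exact add_mem h1 h2
    | smul c y _ h1 => rw [mul_smul_comm]; exact Submodule.smul_mem _ _ h1
  | zero => rw [zero_mul]; exact zero_mem _
  | add x x' _ _ h1 h2 => rw [add_mul]; exact add_mem h1 h2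
  | smul c x _ h1 => rw [smul_mul_assoc]; exact Submodule.smul_mem _ _ h1

/-- Values of a polynomial at bounded arguments are bounded. -/
theorem exists_degree_bound {R : Type u} [CommRing R] {σ : Type*} (F : MvPolynomial σ R) :
    ∃ D : ℕ, ∀ (A : Type u) [CommRing A] [Algebra R A] (r L : ℕ) (f : σ → Lau A r), (∀ i, f i ∈ Box A r L) →
      MvPolynomial.aeval f F ∈ Box A r (D * L) := by
  induction F using MvPolynomial.induction_on with
  | C c =>
    refine ⟨0, fun A _ _ r L f _ => ?_⟩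
    rw [MvPolynomial.algHom_C, IsScalarTower.algebraMap_apply R A (Lau A r), Algebra.algebraMap_eq_smul_one]
    exact Submodule.smul_mem _ _ one_mem_box
  | add p q hp hq =>
    obtain ⟨D, hD⟩ := hp
    obtain ⟨D', hD'⟩ := hq
    refine ⟨max D D', fun A _ _ r L f hf => ?_⟩
    rw [map_add]
    exact add_mem (box_mono (Nat.mul_le_mul_right L (le_max_left D D')) (hD A r L f hf))
      (box_mono (Nat.mul_le_mul_right L (le_max_right D D')) (hD' A r L f hf))
  | mul_X p i hp =>
    obtain ⟨D, hD⟩ := hp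
    refine ⟨D + 1, fun A _ _ r L f hf => ?_⟩
    rw [map_mul, MvPolynomial.aeval_X]
    exact box_mono (by rw [add_mul, one_mul]) (mul_mem_box (hD A r L f hf) (hf i))

namespace GoodRoot

variable [NeZero n] (ζ : GoodRoot A n) {r L : ℕ}

theorem cf_single_box (hL : 2 * L < n) {m v : Ex r} (hm : m ∈ boxSet r L) (hv : v ∈ boxSet r L) :
    ζ.cf m (MonoidAlgebra.single v 1) = if v = m then 1 else 0 := by
  rw [cf_single]
  refine if_congr ⟨fun h => ?_, fun h => by rw [h]⟩ rfl rfl
  refine Multiplicative.toAdd.injective (funext fun i => sub_eq_zero.mp ?_)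
  have hd : (n : ℤ) ∣ v.toAdd i - m.toAdd i := (ZMod.intCast_eq_intCast_iff_dvd_sub _ _ _).mp (congrFun h i).symm
  refine Int.eq_zero_of_abs_lt_dvd hd ((abs_sub _ _).trans_lt ?_)
  have h1 := mem_boxSet.mp hm i
  have h2 := mem_boxSet.mp hv i
  have h3 : (2 : ℤ) * L < n := by exact_mod_cast hL
  linarith

/-- A bounded Laurent polynomial is rebuilt from its values. -/
theorem expand (hL : 2 * L < n) {f : Lau A r} (hf : f ∈ Box A r L) :
    f = ∑ m ∈ boxSet r L, ζ.cf m f • MonoidAlgebra.single m (1 : A) := by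
  classical
  induction hf using Submodule.span_induction with
  | mem x h =>
    obtain ⟨v, hv, rfl⟩ := h
    rw [Finset.sum_congr rfl fun m hm => by rw [ζ.cf_single_box hL hm hv, ite_smul, one_smul, zero_smul]]
    rw [Finset.sum_ite_eq, if_pos (Finset.mem_coe.mp hv)]
  | zero => simp
  | add x y _ _ hx hy => simp only [map_add, add_smul, Finset.sum_add_distrib, ← hx, ← hy]
  | smul c x _ hx => simp only [map_smul, smul_eq_mul, ← smul_smul, ← Finset.smul_sum, ← hx]

theorem ext_box (hL : 2 * L < n) {f g : Lau A r} (hf : f ∈ Box A r L) (hg : g ∈ Box A r L)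
    (h : ∀ t, ζ.ev t f = ζ.ev t g) : f = g := by
  rw [← sub_eq_zero, ζ.expand hL (sub_mem hf hg)]
  refine Finset.sum_eq_zero fun m _ => ?_
  rw [show ζ.cf m (f - g) = 0 by simp [cf, h], zero_smul]

/-- Tensors of bounded Laurent polynomials. -/
def Box2 (A : Type u) [CommRing A] (r L : ℕ) : Submodule A (Lau A r ⊗[A] Lau A r) :=
  Submodule.span A {z | ∃ x ∈ Box A r L, ∃ y ∈ Box A r L, x ⊗ₜ[A] y = z}

/-- The pair coefficient. -/
def cf2 (m m' : Ex r) : Lau A r ⊗[A] Lau A r →ₗ[A] A :=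
  (TensorProduct.lid A A).toLinearMap ∘ₗ TensorProduct.map (ζ.cf m) (ζ.cf m')

theorem expand2 (hL : 2 * L < n) {z : Lau A r ⊗[A] Lau A r} (hz : z ∈ Box2 A r L) :
    z = ∑ m ∈ boxSet r L, ∑ m' ∈ boxSet r L,
      ζ.cf2 m m' z • (MonoidAlgebra.single m (1 : A) ⊗ₜ[A] MonoidAlgebra.single m' (1 : A)) := by
  induction hz using Submodule.span_induction with
  | mem z h =>
    obtain ⟨x, hx, y, hy, rfl⟩ := h
    conv_lhs => rw [ζ.expand hL hx, ζ.expand hL hy, TensorProduct.sum_tmul]
    refine Finset.sum_congr rfl fun m _ => ?_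
    rw [TensorProduct.tmul_sum]
    refine Finset.sum_congr rfl fun m' _ => ?_
    rw [TensorProduct.smul_tmul_smul]
    simp [cf2]
  | zero => simp
  | add x y _ _ hx hy => simp only [map_add, add_smul, Finset.sum_add_distrib, ← hx, ← hy]
  | smul c x _ hx => simp only [map_smul, smul_eq_mul, ← smul_smul, ← Finset.smul_sum, ← hx]

theorem cf2_eq_zero {z : Lau A r ⊗[A] Lau A r}
    (h : ∀ t t', (TensorProduct.lid A A) (TensorProduct.map (ζ.ev t).toLinearMap (ζ.ev t').toLinearMap z) = 0)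
    (m m' : Ex r) : ζ.cf2 m m' z = 0 := by
  have e : ζ.cf2 m m' = (ζ.cst r * ζ.cst r) • ∑ t : Fin r → ZMod n, ∑ t' : Fin r → ZMod n,
      (ζ.chi t m⁻¹ * ζ.chi t' m'⁻¹) •
        ((TensorProduct.lid A A).toLinearMap ∘ₗ TensorProduct.map (ζ.ev t).toLinearMap (ζ.ev t').toLinearMap) := by
    refine TensorProduct.ext' fun x y => ?_
    simp only [cf2, cf, LinearMap.comp_apply, TensorProduct.map_tmul, LinearEquiv.coe_coe, TensorProduct.lid_tmul,
      LinearMap.smul_apply, LinearMap.coe_sum, Finset.sum_apply, smul_eq_mul, AlgHom.toLinearMap_apply,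
      Finset.mul_sum, Finset.sum_mul]
    rw [Finset.sum_comm]
    exact Finset.sum_congr rfl fun t _ => Finset.sum_congr rfl fun t' _ => by ring
  rw [e]
  simp only [LinearMap.smul_apply, LinearMap.coe_sum, Finset.sum_apply, LinearMap.comp_apply, LinearEquiv.coe_coe,
    h, smul_zero, Finset.sum_const_zero]

theorem ext_box2 (hL : 2 * L < n) {z w : Lau A r ⊗[A] Lau A r} (hz : z ∈ Box2 A r L) (hw : w ∈ Box2 A r L)
    (h : ∀ t t', (TensorProduct.lid A A) (TensorProduct.map (ζ.ev t).toLinearMap (ζ.ev t').toLinearMap z) =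
      (TensorProduct.lid A A) (TensorProduct.map (ζ.ev t).toLinearMap (ζ.ev t').toLinearMap w)) : z = w := by
  rw [← sub_eq_zero, ζ.expand2 hL (sub_mem hz hw)]
  exact Finset.sum_eq_zero fun m _ => Finset.sum_eq_zero fun m' _ => by
    rw [ζ.cf2_eq_zero (fun t t' => by rw [map_sub, map_sub, h, sub_self]), zero_smul]

end GoodRoot

end Groth.Agent.RankLib
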