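import Groth.Agent.RankLib.Affine
import Groth.Agent.GModLib.EtaleMaxTorus

/-!
# Split subtori near a point and reductive rank

A maximal torus of a geometric fibre spreads out as a split torus over a smooth neighbourhood; it is maximal wherever
the reductive rank is the same.
-/

set_option autoImplicit false
set_option backward.isDefEq.respectTransparency false
set_option backward.isDefEq.respectTransparency.types false

universe u

open CategoryTheory Limits AlgebraicGeometry MonoidalCategory CartesianMonoidalCategory MonObj GrpObj WithConv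
open TensorProduct

namespace Groth.Agent.RankLib

open GrpSchLib GrpSchLib.AffineHopf GModLib TorusBilin

set_option maxHeartbeats 2000000 in
set_option synthInstance.maxHeartbeats 200000 in
/-- A torus of a geometric fibre of a smooth affine group spreads out as a split torus over a smooth neighbourhood. -/
theorem exists_split_nhd {S : Scheme.{u}} (G : Over S) [GrpObj G] [IsAffineHom G.hom] [Smooth G.hom] (s : S)
    {T : Over (Spec (CommRingCat.of (AlgebraicClosure (S.residueField s))))} [GrpObj T]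
    (i : T ⟶ Red.geomFibre s G) [IsMonHom i] [Mono i] (hT : Red.IsTorus T) {r : ℕ}
    (q : T ⟶ Tor (AlgebraicClosure (S.residueField s)) r) [IsMonHom q] [IsIso q] :
    ∃ (X : Scheme.{u}) (g : X ⟶ S) (x : X) (T' : Over X) (_ : GrpObj T') (i' : T' ⟶ Red.bc g G),
      Smooth g ∧ g x = s ∧ IsMonHom i' ∧ Mono i' ∧ Red.IsSplitTorusWith (Fin r → ℤ) T' := by
  let k := AlgebraicClosure (S.residueField s)
  obtain ⟨U, hU, hsU, -⟩ := exists_isAffineOpen_mem_and_subset (show s ∈ (⊤ : S.Opens) from trivial)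
  let R := Γ(S, U)
  let u := hU.fromSpec
  let GU := Red.bc u G
  haveI : Smooth GU.hom := inferInstanceAs (Smooth (pullback.snd G.hom u))
  haveI : IsAffineHom GU.hom := MorphismProperty.pullback_snd G.hom u ‹IsAffineHom G.hom›
  haveI : IsAffine GU.left := isAffine_of_isAffineHom GU.hom
  obtain ⟨H, _, _, ⟨e⟩⟩ := exists_hopf GU
  haveI : IsIso e.hom.hom.hom.left :=
    inferInstanceAs (IsIso ((Over.forget _).map ((Grp.forget _).mapIso e).hom))
  haveI : Smooth (sp R H).hom := by rw [← Over.w e.hom.hom.hom]; infer_instance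
  haveI : Algebra.Smooth R H := RingHom.smooth_algebraMap.mp
    ((HasRingHomProperty.Spec_iff (P := @Smooth)).mp ‹Smooth (sp R H).hom›)
  obtain ⟨G₀, _, _, hN, -, X, _, _, hXs, -, ⟨eX⟩⟩ := exists_smooth_hopf_model R H
  haveI := hN; haveI := hXs
  obtain ⟨aU, haU⟩ : ∃ aU, aU ≫ u = Red.geomPt s := ⟨IsOpenImmersion.lift u (Red.geomPt s) (by
    rw [hU.range_fromSpec]
    rintro _ ⟨p, rfl⟩
    rw [@Subsingleton.elim (PrimeSpectrum k) _ p (IsLocalRing.closedPoint k), RedOpenLib.geomPt_closedPoint]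
    exact hsU), IsOpenImmersion.lift_fac _ _ _⟩
  obtain ⟨fk, hfk⟩ := Spec.map_surjective aU
  letI : Algebra R k := fk.hom.toAlgebra
  letI : Algebra G₀ k := ((algebraMap R k).comp (algebraMap G₀ R)).toAlgebra
  haveI : IsScalarTower G₀ R k := IsScalarTower.of_algebraMap_eq fun _ => rfl
  let v₀ := Spec.map (CommRingCat.ofHom (algebraMap G₀ R))
  let a₀ := Spec.map (CommRingCat.ofHom (algebraMap G₀ k))
  have ha₀ : a₀ = aU ≫ v₀ := by
    rw [← hfk, ← Spec.map_comp]
    rfl
  obtain ⟨eR⟩ := nonempty_bc_sp (R := G₀) R X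
  let eGU : Grp.mk (Red.bc v₀ (sp G₀ X)) ≅ Grp.mk GU := eR ≪≫ (spIso eX).symm ≪≫ e
  obtain ⟨e₁⟩ := MultTypeBC.bc_congr ha₀ (sp G₀ X)
  obtain ⟨e₂⟩ := MultTypeBC.bc_bc aU v₀ (sp G₀ X)
  obtain ⟨e₃⟩ := MultTypeBC.bc_iso aU eGU
  obtain ⟨e₄⟩ := MultTypeBC.bc_bc aU u G
  obtain ⟨e₅⟩ := MultTypeBC.bc_congr haU G
  let E : Grp.mk (Red.bc a₀ (sp G₀ X)) ≅ Grp.mk (Red.geomFibre s G) := e₁ ≪≫ e₂.symm ≪≫ e₃ ≪≫ e₄ ≪≫ e₅
  haveI : IsMonHom E.inv.hom.hom := E.inv.hom.isMonHom_hom
  haveI : IsIso E.inv.hom.hom := inferInstanceAs (IsIso ((Grp.forget _).map E.inv))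
  obtain ⟨A, _, _, τ, hA, φ, hφ⟩ := exists_split_affine (R := G₀) (H := X) (k := k) (i ≫ E.inv.hom.hom) hT q
  haveI := hA
  -- back over the given base
  let R' := R ⊗[G₀] A
  letI : Algebra A R' := Algebra.TensorProduct.rightAlgebra
  let v := Spec.map (CommRingCat.ofHom (algebraMap R R'))
  let w := Spec.map (CommRingCat.ofHom (algebraMap A R'))
  let vA := Spec.map (CommRingCat.ofHom (algebraMap G₀ A))
  haveI : Smooth v := (HasRingHomProperty.Spec_iff (P := @Smooth)).mpr (RingHom.smooth_algebraMap.mpr inferInstance)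
  have hsq : w ≫ vA = v ≫ v₀ := by
    rw [← Spec.map_comp, ← Spec.map_comp]
    congr 1
    refine CommRingCat.hom_ext (RingHom.ext fun x => ?_)
    show (1 : R) ⊗ₜ[G₀] (algebraMap G₀ A x) = (algebraMap G₀ R x) ⊗ₜ[G₀] (1 : A)
    rw [Algebra.algebraMap_eq_smul_one, Algebra.algebraMap_eq_smul_one, TensorProduct.smul_tmul]
  let τ' : R' →ₐ[G₀] k := Algebra.TensorProduct.productMap (IsScalarTower.toAlgHom G₀ R k) τ
  let σ' := Spec.map (CommRingCat.ofHom τ'.toRingHom)
  have hσ' : σ' ≫ v = aU := by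
    rw [← Spec.map_comp, ← hfk]
    congr 1
    refine CommRingCat.hom_ext (RingHom.ext fun x => ?_)
    show Algebra.TensorProduct.productMap _ τ (x ⊗ₜ[G₀] (1 : A)) = fk.hom x
    simp [RingHom.algebraMap_toAlgebra]
    rfl
  obtain ⟨d⟩ := nonempty_DS_iso A (Fin r → ℤ)
  let TA := sp A (Lau A r)
  have hTA : Red.IsSplitTorusWith (Fin r → ℤ) TA := ⟨d⟩
  let iA : TA ⟶ sp A (A ⊗[G₀] X) := spMap (φ : A ⊗[G₀] X →ₐ[A] Lau A r)
  haveI : IsMonHom iA := inferInstanceAs (IsMonHom (spMap (φ : A ⊗[G₀] X →ₐ[A] Lau A r)))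
  haveI : IsClosedImmersion (Spec.map (CommRingCat.ofHom (φ : A ⊗[G₀] X →ₐ[A] Lau A r).toRingHom)) :=
    IsClosedImmersion.spec_of_surjective
    (CommRingCat.ofHom (φ : A ⊗[G₀] X →ₐ[A] Lau A r).toRingHom) hφ
  haveI : Mono iA := @Over.mono_of_mono_left _ _ _ _ _ iA (inferInstanceAs (Mono (Spec.map (CommRingCat.ofHom (φ : A ⊗[G₀] X →ₐ[A] Lau A r).toRingHom))))
  obtain ⟨f₁⟩ := nonempty_bc_sp (R := G₀) A X
  obtain ⟨g₁⟩ := MultTypeBC.bc_iso w f₁.symm
  obtain ⟨g₂⟩ := MultTypeBC.bc_bc w vA (sp G₀ X)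
  obtain ⟨g₃⟩ := MultTypeBC.bc_congr hsq (sp G₀ X)
  obtain ⟨g₄⟩ := MultTypeBC.bc_bc v v₀ (sp G₀ X)
  obtain ⟨g₅⟩ := MultTypeBC.bc_iso v eGU
  obtain ⟨g₆⟩ := MultTypeBC.bc_bc v u G
  let F : Grp.mk (Red.bc w (sp A (A ⊗[G₀] X))) ≅ Grp.mk (Red.bc (v ≫ u) G) :=
    g₁ ≪≫ g₂ ≪≫ g₃ ≪≫ g₄.symm ≪≫ g₅ ≪≫ g₆
  haveI : IsMonHom F.hom.hom.hom := F.hom.hom.isMonHom_hom
  haveI : IsIso F.hom.hom.hom := inferInstanceAs (IsIso ((Grp.forget _).map F.hom))
  refine ⟨Spec (CommRingCat.of R'), v ≫ u, σ' (IsLocalRing.closedPoint k), Red.bc w TA, inferInstance,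
    (Over.pullback w).map iA ≫ F.hom.hom.hom, inferInstance, ?_, inferInstance, inferInstance,
    TorusBasic.isSplit_bc w hTA⟩
  rw [← Scheme.Hom.comp_apply, reassoc_of% hσ', haU]
  exact RedOpenLib.geomPt_closedPoint s

variable {k : Type u} [Field k] [IsAlgClosed k]

/-- Maximal tori have the same dimension. -/
theorem dim_maxTorus_eq {G T₁ T₂ : Over (Spec (CommRingCat.of k))} [GrpObj G] [GrpObj T₁] [GrpObj T₂] [Smooth G.hom]
    [QuasiCompact G.hom] (i₁ : T₁ ⟶ G) (i₂ : T₂ ⟶ G) (h₁ : Red.IsMaximalTorus i₁) (h₂ : Red.IsMaximalTorus i₂) :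
    topologicalKrullDim ↥T₁.left = topologicalKrullDim ↥T₂.left := by
  obtain ⟨G0, _, io, hio, hG0s, hG0q, -, hG0c⟩ := exists_neutral G
  haveI := hG0s; haveI := hG0q
  haveI : ConnectedSpace G0.left := connectedSpace_iff_univ.mpr (by
    have h := hG0c (IsLocalRing.closedPoint k)
    rwa [show G0.hom.base ⁻¹' {IsLocalRing.closedPoint k} = Set.univ from
      Set.eq_univ_of_forall fun z => @Subsingleton.elim (PrimeSpectrum k) _ _ _] at h)
  obtain ⟨M, _, iM, hM, hall⟩ := exists_maxTorus_all G0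
  have key : ∀ {T' : Over (Spec (CommRingCat.of k))} [GrpObj T'] (i' : T' ⟶ G), Red.IsMaximalTorus i' →
      topologicalKrullDim ↥T'.left = topologicalKrullDim ↥M.left := by
    intro T' _ i' hi'
    obtain ⟨j, -, hj⟩ := hio.isMaximalTorus_down i' hi'
    haveI := hj.1; haveI := hj.2.1
    have hj' := isMaxTorus_of_geomFibre j hj
    haveI := hj'.1; haveI := hj'.2.1; haveI := hM.1; haveI := hM.2.1
    obtain ⟨x, e, he⟩ := hall T' j hj'.2.2.1
    haveI : IsIso e := hj'.2.2.2 M (iM ≫ inner x⁻¹) e hM.2.2.1 (by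
      rw [← Category.assoc, he, Category.assoc, inner_inner, inv_mul_cancel, inner_one, Category.comp_id])
    haveI : IsIso e.left := inferInstanceAs (IsIso ((Over.forget _).map e))
    exact e.left.homeomorph.isHomeomorph.topologicalKrullDim_eq
  rw [key i₁ h₁, key i₂ h₂]

/-- A monomorphism of tori which does not raise the rank is an isomorphism. -/
theorem isIso_of_rank_le {T T' : Over (Spec (CommRingCat.of k))} [GrpObj T] [GrpObj T'] (f : T ⟶ T') [IsMonHom f]
    [Mono f] (hT' : Red.IsTorus T') {a b : ℕ} (q : T ⟶ Tor k a) [IsMonHom q] [IsIso q] (q' : T' ⟶ Tor k b)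
    [IsMonHom q'] [IsIso q'] (hT : Red.IsTorus T) (hab : b ≤ a) : IsIso f := by
  obtain ⟨h1, h2, h3, -, -⟩ := TorusBasic.torus_props hT'
  haveI := h1; haveI := h2
  haveI := torus_isClosedImmersion hT f
  haveI : IsReduced T'.left := GrpSchLib.isReduced_of_smooth_field T'.hom
  haveI : IsMonHom (inv q) := inferInstanceAs (IsMonHom (asIso q).inv)
  have hu : Set.range f.left = Set.univ :=
    torus_eq_univ hT' f.left.isClosedEmbedding.isClosed_range fun t ⟨m, hm, htm⟩ => by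
    obtain ⟨n, hn, htn⟩ := exists_invertible_order hT' hm htm
    haveI : NeZero n := ⟨fun h => hn (by simp [h])⟩
    by_contra hne
    obtain ⟨p, hpi, hpn⟩ := exists_torsion (k := k) (m := a) hn
    let P : Option (Fin a → Fin n) → (VecGrp.pt k k ⟶ T') := fun o => o.elim t fun e => p e ≫ inv q ≫ f
    have hP : Function.Injective P := by
      rintro (_ | e) (_ | e') h
      · rfl
      · exact absurd ⟨(p e' ≫ inv q).left (IsLocalRing.closedPoint k), by
          rw [← Scheme.Hom.comp_apply, ← Over.comp_left, Category.assoc]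
          exact congrArg (fun z : VecGrp.pt k k ⟶ T' => z.left (IsLocalRing.closedPoint k)) h.symm⟩ hne
      · exact absurd ⟨(p e ≫ inv q).left (IsLocalRing.closedPoint k), by
          rw [← Scheme.Hom.comp_apply, ← Over.comp_left, Category.assoc]
          exact congrArg (fun z : VecGrp.pt k k ⟶ T' => z.left (IsLocalRing.closedPoint k)) h⟩ hne
      · exact congrArg some (hpi ((cancel_mono (inv q ≫ f)).mp h))
    have hPn : ∀ o, P o ^ n = 1 := by
      rintro (_ | e)
      · exact htn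
      · show (p e ≫ inv q ≫ f) ^ n = 1
        rw [← MonObj.pow_comp]
        exact (congrArg (· ≫ inv q ≫ f) (hpn e)).trans (MonObj.one_comp _)
    have hcard := card_torsion_le (K := k) (n := n) (fun o => P o ≫ q') (fun o o' h => hP ((cancel_mono q').mp h))
      fun o => by rw [← MonObj.pow_comp, hPn, MonObj.one_comp]
    rw [Fintype.card_option, Fintype.card_fun, Fintype.card_fin, Fintype.card_fin] at hcard
    have := Nat.pow_le_pow_right (Nat.pos_of_ne_zero (NeZero.ne n)) hab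
    omega
  obtain ⟨l, hl⟩ := H23.RedSub.exists_lift_closed (𝟙 T'.left) f.left (by rw [hu]; exact Set.subset_univ _)
  let l' : T' ⟶ T := Over.homMk l (by rw [← Over.w f, reassoc_of% hl])
  have hl' : l' ≫ f = 𝟙 _ := Over.OverMorphism.ext hl
  exact ⟨l', (cancel_mono f).mp (by rw [Category.assoc, hl', Category.comp_id, Category.id_comp]), hl'⟩

omit [Field k] [IsAlgClosed k] in
set_option maxHeartbeats 2000000 in
/-- A split subtorus of the largest possible rank is a maximal torus. -/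
theorem isMaximalTorus_of_rank {S X : Scheme.{u}} (g : X ⟶ S) (G : Over S) [GrpObj G] [Smooth G.hom]
    [IsAffineHom G.hom] {r : ℕ} {T : Over X} [GrpObj T] (i : T ⟶ Red.bc g G) [IsMonHom i] [Mono i]
    (hT : Red.IsSplitTorusWith (Fin r → ℤ) T) (hr : ∀ x, SGA3x.HasRedRank G (g x) (r : WithBot ℕ∞)) :
    Red.IsMaximalTorus i := by
  have hTt : Red.IsTorus T := TorusBasic.isTorus_of_split hT
  refine ⟨inferInstance, inferInstance, hTt, fun x T'' _ j _ _ f hT'' hf => ?_⟩
  obtain ⟨ρ, hρ⟩ := exists_geomPt_lift g x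
  let Gt := Red.geomFibre (g x) G
  haveI : Smooth Gt.hom := inferInstanceAs (Smooth (pullback.snd G.hom _))
  haveI : QuasiCompact Gt.hom := inferInstanceAs (QuasiCompact (pullback.snd G.hom _))
  obtain ⟨Tt, _, it, hit, hdimt⟩ := hr x
  obtain ⟨M, _, iM, m, hiM, hdimM, hbound⟩ := exists_rank_bound Gt
  have hm : m = r := by
    have h := (dim_maxTorus_eq iM it hiM hit).symm.trans hdimM
    rw [hdimt] at h
    exact_mod_cast h.symm
  let K := AlgebraicClosure (X.residueField x)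
  obtain ⟨q1, q2, q3, q4, -⟩ := TorusBasic.torus_props hT''
  haveI := q1; haveI := q2; haveI := q3
  obtain ⟨r'', q'', hq''m, hq''i⟩ := exists_iso_tor hT''
  haveI := hq''m; haveI := hq''i
  haveI : IsMonHom (inv q'') := inferInstanceAs (IsMonHom (asIso q'').inv)
  obtain ⟨l, hl, hlK⟩ := exists_prime_ne_zero K
  haveI : NeZero l := ⟨hl.ne_zero⟩
  obtain ⟨p, hpi, hpn⟩ := exists_torsion (k := K) (m := r'') hlK
  let jt : T'' ⟶ Red.bc ρ Gt := j ≫ (fibreIso (a := Red.geomPt x) rfl G).hom ≫ (fibreIso hρ G).inv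
  haveI : IsMonHom jt := inferInstanceAs (IsMonHom (_ ≫ _ ≫ _))
  haveI : Mono jt := mono_comp _ _
  have hcard := hbound K ρ T'' jt (Fin r'' → Fin l) (fun e => p e ≫ inv q'') l hlK
    (fun e e' h => hpi ((cancel_mono (inv q'')).mp h))
    (fun e => by rw [← MonObj.pow_comp]; exact (congrArg (· ≫ inv q'') (hpn e)).trans (MonObj.one_comp _))
    fun e Y y => TorusBilin.comm_of_isTorus hT'' _ _ _
  rw [Fintype.card_fun, Fintype.card_fin, Fintype.card_fin, hm] at hcard
  have hle : r'' ≤ r := (Nat.pow_le_pow_iff_right hl.one_lt).mp hcard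
  -- the split model of the given torus
  obtain ⟨d⟩ := TorusBasic.isSplit_bc (Red.geomPt x) hT
  obtain ⟨dd⟩ := nonempty_DS_iso K (Fin r → ℤ)
  let eq : Grp.mk (Red.bc (Red.geomPt x) T) ≅ Grp.mk (sp K (Lau K r)) := d ≪≫ dd.symm
  haveI : IsMonHom eq.hom.hom.hom := eq.hom.hom.isMonHom_hom
  haveI : IsIso eq.hom.hom.hom := inferInstanceAs (IsIso ((Grp.forget _).map eq.hom))
  haveI : IsMonHom ((Over.pullback (Red.geomPt x)).map i) := inferInstance
  haveI : Mono ((Over.pullback (Red.geomPt x)).map i) := inferInstance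
  haveI : IsMonHom (f ≫ j) := hf.symm ▸ inferInstance
  haveI : IsMonHom f := isMonHom_of_comp f j
  haveI : Mono (f ≫ j) := hf.symm ▸ inferInstance
  haveI : Mono f := mono_of_mono f j
  exact isIso_of_rank_le f hT'' (a := r) eq.hom.hom.hom q'' (isTorus_bc _ hTt) hle

end Groth.Agent.RankLib
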