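import Groth.Agent.RankLib.LieWeights
import Groth.Agent.GModLib.CentreMultType
import Groth.Agent.GModLib.CharTorus
import Groth.Agent.LieSLib.Bracket
import Groth.Agent.S8361

/-!
# A group with nilpotent Lie algebra and trivial reductive centre contains no torus
-/

set_option autoImplicit false
set_option backward.isDefEq.respectTransparency false
set_option backward.isDefEq.respectTransparency.types false

universe u

open CategoryTheory Limits AlgebraicGeometry MonoidalCategory CartesianMonoidalCategory MonObj GrpObj WithConv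
open scoped TensorProduct

namespace Groth.Agent.RankLib.LieTangent

open GrpSchLib.AffineHopf GModLib GModLib.CentreWeights LieWeights

variable {k : Type u} [Field k]

theorem hom_eq_of_eq_id {X T : Scheme.{u}} (g : T ⟶ X) (f : X ⟶ X) (h : f = 𝟙 X) : (Over.mk (g ≫ f)).hom = g := by
  subst h
  exact Category.comp_id g

variable {f : Spec (CommRingCat.of k) ⟶ Spec (CommRingCat.of k)} (hf : f = 𝟙 _)

theorem base_hom_eq (hf : f = 𝟙 _) : (sp k k).hom = f := by
  show Spec.map (CommRingCat.ofHom (algebraMap k k)) = f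
  rw [hf, Algebra.algebraMap_self, CommRingCat.ofHom_id, Spec.map_id]

theorem obj_hom_eq (hf : f = 𝟙 _) (C : Type u) [CommRing C] [Algebra k C] : (LieSLib.obj f C).hom = (sp k C).hom :=
  hom_eq_of_eq_id _ f hf

/-- Points over the base in the two descriptions. -/
noncomputable def aC (C : Type u) [CommRing C] [Algebra k C] : sp k C ≅ LieSLib.obj f C :=
  Over.isoMk (Iso.refl (Spec (CommRingCat.of C))) ((Category.id_comp _).trans (obj_hom_eq hf C))

variable {A : Type u} [CommRing A] [HopfAlgebra k A] {G : Over (Spec (CommRingCat.of k))} [GrpObj G]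
  (ε : G ≅ sp k A) [IsMonHom ε.hom]

/-- Points of the group in the affine model. -/
noncomputable def toA {C : Type u} [CommRing C] [Algebra k C] (u : LieSLib.obj f C ⟶ G) : sp k C ⟶ sp k A :=
  (aC hf C).hom ≫ u ≫ ε.hom

theorem toA_mul {C : Type u} [CommRing C] [Algebra k C] (u v : LieSLib.obj f C ⟶ G) :
    toA hf ε (u * v) = toA hf ε u * toA hf ε v := by
  rw [toA, toA, toA, MonObj.mul_comp, MonObj.comp_mul]

theorem toA_one {C : Type u} [CommRing C] [Algebra k C] : toA hf ε (1 : LieSLib.obj f C ⟶ G) = 1 := by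
  rw [toA, MonObj.one_comp, MonObj.comp_one]

theorem toA_inv {C : Type u} [CommRing C] [Algebra k C] (u : LieSLib.obj f C ⟶ G) :
    toA hf ε u⁻¹ = (toA hf ε u)⁻¹ := by
  rw [toA, toA, GrpObj.inv_comp, GrpObj.comp_inv]

omit [IsMonHom ε.hom] [GrpObj G] in
theorem toA_mor {C C' : Type u} [CommRing C] [Algebra k C] [CommRing C'] [Algebra k C'] (φ : C →ₐ[k] C')
    (u : LieSLib.obj f C ⟶ G) :
    toA hf ε (LieSLib.mor f φ.toRingHom φ.comp_algebraMap ≫ u) = spMap φ ≫ toA hf ε u := by
  have h : (aC hf C').hom ≫ LieSLib.mor f φ.toRingHom φ.comp_algebraMap = spMap φ ≫ (aC hf C).hom :=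
    Over.OverMorphism.ext ((Category.id_comp _).trans (Category.comp_id _).symm)
  rw [toA, toA, Category.assoc, reassoc_of% h]

/-- Reading dual numbers along an element of square zero, as an algebra map. -/
noncomputable def theta {C : Type u} [CommRing C] [Algebra k C] (c : C) (hc : c * c = 0) : DualNumber k →ₐ[k] C :=
  { LieS.dualHom (algebraMap k C) c hc with
    commutes' := fun r => RingHom.congr_fun (LieS.dualHom_comp_algebraMap (algebraMap k C) c hc) r }

theorem theta_apply {C : Type u} [CommRing C] [Algebra k C] (c : C) (hc : c * c = 0) (x : DualNumber k) :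
    theta c hc x = algebraMap k C x.fst + algebraMap k C x.snd * c := rfl

/-- The tangent vector as an algebra map. -/
noncomputable def der (x : LieS.Lie G k f) : A →ₐ[k] DualNumber k :=
  (exists_eq_spMap (toA hf ε (x.1 : LieSLib.obj f (DualNumber k) ⟶ G))).choose

theorem der_spec (x : LieS.Lie G k f) :
    toA hf ε (x.1 : LieSLib.obj f (DualNumber k) ⟶ G) = spMap (der hf ε x) :=
  (exists_eq_spMap (toA hf ε (x.1 : LieSLib.obj f (DualNumber k) ⟶ G))).choose_spec

theorem toA_ev (x : LieS.Lie G k f) {C : Type u} [CommRing C] [Algebra k C] (c : C) (hc : c * c = 0) :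
    toA hf ε (LieSLib.ev x c hc) = spMap ((theta c hc).comp (der hf ε x)) := by
  rw [← spMap_comp, ← der_spec]
  exact toA_mor hf ε (theta c hc) _

theorem fst_der (x : LieS.Lie G k f) (a : A) : (der hf ε x a).fst = Coalgebra.counit (R := k) a := by
  have h : toA hf ε (LieSLib.mor f (TrivSqZeroExt.fstHom k k k).toRingHom (LieS.fstHom_comp_algebraMap k) ≫ x.1) =
      (1 : sp k k ⟶ sp k A) := by
    rw [LieSLib.zeroSec_comp, toA_one]
  erw [toA_mor hf ε (TrivSqZeroExt.fstHom k k k)] at h
  rw [der_spec, spMap_comp, ← spMap_counit] at h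
  exact AlgHom.congr_fun (spMap_injective h) a

theorem ev_apply (x : LieS.Lie G k f) {C : Type u} [CommRing C] [Algebra k C] (c : C) (hc : c * c = 0) (a : A) :
    (theta c hc).comp (der hf ε x) a =
      algebraMap k C (Coalgebra.counit (R := k) a) + algebraMap k C (der hf ε x a).snd * c := by
  rw [AlgHom.comp_apply, theta_apply, fst_der]

/-- A product of points that are the unit to complementary orders is additive on the augmentation ideal. -/
theorem conv_apply {C : Type u} [CommRing C] [Algebra k C] (α β : A →ₐ[k] C)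
    (h : ∀ a b : A, (α a - algebraMap k C (Coalgebra.counit (R := k) a)) *
      (β b - algebraMap k C (Coalgebra.counit (R := k) b)) = 0) (a : A) :
    (toConv α * toConv β).ofConv a = α a + β a - algebraMap k C (Coalgebra.counit (R := k) a) := by
  rw [AlgHom.convMul_apply]
  have key : ∀ z : A ⊗[k] A, Algebra.TensorProduct.lift α β (fun _ _ => Commute.all _ _) z =
      α (TensorProduct.rid k A ((Coalgebra.counit (R := k)).lTensor A z)) +
      β (TensorProduct.lid k A ((Coalgebra.counit (R := k)).rTensor A z)) -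
      algebraMap k C (TensorProduct.lid k k (TensorProduct.map (Coalgebra.counit (R := k)) (Coalgebra.counit (R := k)) z)) := by
    intro z
    induction z using TensorProduct.induction_on with
    | zero => simp only [map_zero, add_zero, sub_zero]
    | tmul p q =>
      simp only [Algebra.TensorProduct.lift_tmul, LinearMap.lTensor_tmul, LinearMap.rTensor_tmul,
        TensorProduct.rid_tmul, TensorProduct.lid_tmul, TensorProduct.map_tmul, map_smul, smul_eq_mul, map_mul,
        Algebra.smul_def, AlgHom.commutes]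
      linear_combination h p q
    | add z z' hz hz' => simp only [map_add, hz, hz']; ring
  have h3 : TensorProduct.lid k k (TensorProduct.map (Coalgebra.counit (R := k)) (Coalgebra.counit (R := k))
      (Coalgebra.comul (R := k) a)) = Coalgebra.counit (R := k) a := by
    have e : ∀ z : A ⊗[k] A, TensorProduct.lid k k (TensorProduct.map (Coalgebra.counit (R := k))
        (Coalgebra.counit (R := k)) z) =
        Coalgebra.counit (R := k) (TensorProduct.lid k A ((Coalgebra.counit (R := k)).rTensor A z)) := fun z => by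
      induction z using TensorProduct.induction_on with
      | zero => simp only [map_zero]
      | tmul p q => simp
      | add z z' hz hz' => simp only [map_add, hz, hz']
    rw [e, Coalgebra.rTensor_counit_comul, TensorProduct.lid_tmul, one_smul]
  refine (key _).trans ?_
  rw [h3, Coalgebra.lTensor_counit_comul, Coalgebra.rTensor_counit_comul, TensorProduct.rid_tmul,
    TensorProduct.lid_tmul, one_smul]

variable {N : Type} [AddCommGroup N] {tN : sp k (MonoidAlgebra k (Multiplicative N)) ⟶ sp k A} [IsMonHom tN]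
  {σ : A →ₐ[k] MonoidAlgebra A (Multiplicative N)}
  (hσ : ∀ (R' : Type u) [CommRing R'] [Algebra k R'] (χ : Multiplicative N →* R') (x : A →ₐ[k] R'),
    (pt k χ ≫ tN) * spMap x * (pt k χ ≫ tN)⁻¹ = spMap ((ev χ x).comp σ))

/-- The character of a tangent vector of the torus. -/
noncomputable def tangentChar (d : N →+ k) : Multiplicative N →* DualNumber k where
  toFun m := TrivSqZeroExt.inl 1 + TrivSqZeroExt.inr (d m.toAdd)
  map_one' := by ext <;> simp
  map_mul' a b := by ext <;> simp [add_comm]

include hσ in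
set_option maxHeartbeats 1600000 in
/-- A tangent vector of the torus acts on a weight vector by the weight. -/
theorem snd_der_br (v y : LieS.Lie G k f) (d : N →+ k)
    (hv : spMap (der hf ε v) = pt k (tangentChar d) ≫ tN) {b : A} {n : N} (hb : b ∈ aug k A)
    (hbn : σ b = MonoidAlgebra.single (Multiplicative.ofAdd n) b) :
    (der hf ε (LieSLib.br v y) b).snd = d n * (der hf ε y b).snd := by
  let s : LieS.D2 k := LieSLib.e2 k
  let t : LieS.D2 k := LieSLib.e1 k
  have hs : s * s = 0 := LieSLib.e2_sq k
  have ht : t * t = 0 := LieSLib.e1_sq k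
  have hts : t * s * (t * s) = 0 := LieSLib.e12_sq k
  have h := LieSLib.br_spec (B := k) v y
  rw [LieSLib.com, mul_inv_eq_iff_eq_mul] at h
  have h1 := congrArg (toA hf ε) h
  rw [toA_mul, toA_mul, toA_mul, toA_inv, toA_ev, toA_ev, toA_ev, ← spMap_comp, hv, ← Category.assoc, comp_pt, hσ,
    spMap_mul] at h1
  have h2 := AlgHom.congr_fun (spMap_injective h1) b
  rw [AlgHom.comp_apply, hbn, ev_single] at h2
  have hp : ∀ p q : A, ((theta (t * s) hts).comp (der hf ε (LieSLib.br v y)) p -
        algebraMap k (LieS.D2 k) (Coalgebra.counit (R := k) p)) *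
      ((theta t ht).comp (der hf ε y) q - algebraMap k (LieS.D2 k) (Coalgebra.counit (R := k) q)) = 0 := fun p q => by
    erw [ev_apply hf ε (LieSLib.br v y) (t * s) hts p, ev_apply hf ε y t ht q]
    rw [add_sub_cancel_left, add_sub_cancel_left]
    linear_combination (algebraMap k (LieS.D2 k) (der hf ε (LieSLib.br v y) p).snd *
      algebraMap k (LieS.D2 k) (der hf ε y q).snd * s) * ht
  have h3 := h2.trans (conv_apply _ _ hp b)
  erw [ev_apply hf ε (LieSLib.br v y) (t * s) hts b, ev_apply hf ε y t ht b] at h3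
  simp only [mem_aug.mp hb, map_zero, zero_add, sub_zero] at h3
  have h4 := congrArg (fun z : LieS.D2 k => z.snd.snd) h3
  simp [MonoidHom.comp_apply, theta_apply, tangentChar, t, s, LieSLib.e1, LieSLib.e2,
    TrivSqZeroExt.algebraMap_eq_inl', LieSLib.algebraMap_D2, LieS.toD2] at h4
  linear_combination -h4

theorem snd_der_one (a : A) : (der hf ε (1 : LieS.Lie G k f) a).snd = 0 := by
  have h := der_spec hf ε (1 : LieS.Lie G k f)
  have e : ((1 : LieS.Lie G k f).1 : LieSLib.obj f (DualNumber k) ⟶ G) = 1 := rfl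
  rw [e, toA_one, ← spMap_counit] at h
  rw [← AlgHom.congr_fun (spMap_injective h) a]
  simp [Algebra.ofId_apply, TrivSqZeroExt.algebraMap_eq_inl']

/-- Every algebra map to the dual numbers over the counit is a tangent vector. -/
theorem exists_der (w : A →ₐ[k] DualNumber k) (hw : ∀ a, (w a).fst = Coalgebra.counit (R := k) a) :
    ∃ x : LieS.Lie G k f, der hf ε x = w := by
  haveI : IsMonHom ε.inv := inferInstance
  let u : LieS.dpt k f ⟶ G := (aC hf (DualNumber k)).inv ≫ spMap w ≫ ε.inv
  have hu : u ∈ LieS.Lie G k f := by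
    rw [LieS.mem_Lie_iff]
    let b : LieS.pt k f ⟶ sp k k := Over.homMk (𝟙 (Spec (CommRingCat.of k))) ((Category.id_comp _).trans (base_hom_eq hf))
    have hb : LieS.zeroSec k f ≫ (aC hf (DualNumber k)).inv = b ≫ spMap (TrivSqZeroExt.fstHom k k k) :=
      Over.OverMorphism.ext ((Category.comp_id _).trans (Category.id_comp _).symm)
    have hfst : (TrivSqZeroExt.fstHom k k k).comp w = (Algebra.ofId k k).comp (Bialgebra.counitAlgHom k A) :=
      AlgHom.ext fun a => hw a
    show LieS.zeroSec k f ≫ (aC hf (DualNumber k)).inv ≫ spMap w ≫ ε.inv = 1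
    erw [reassoc_of% hb]
    rw [← Category.assoc (spMap (TrivSqZeroExt.fstHom k k k)), spMap_comp, hfst, spMap_counit, MonObj.one_comp,
      MonObj.comp_one]
  refine ⟨⟨u, hu⟩, spMap_injective ?_⟩
  rw [← der_spec]
  show (aC hf (DualNumber k)).hom ≫ ((aC hf (DualNumber k)).inv ≫ spMap w ≫ ε.inv) ≫ ε.hom = _
  simp only [Category.assoc, Iso.inv_hom_id, Category.comp_id, Iso.hom_inv_id_assoc]

include hσ hf ε in
set_option maxHeartbeats 1000000 in
/-- With a nilpotent Lie algebra the weights vanish on the tangent vectors of the torus. -/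
theorem weight_map_eq_zero (d : N →+ k) (L : Type u) [LieRing L] [LieAlgebra k L]
    (m : LieS.Model G k f L) (hL : LieRing.IsNilpotent L) {n : N} (hn : n ∈ cotWeights σ) : d n = 0 := by
  by_contra hdn
  obtain ⟨a, ha, hna⟩ := hn
  classical
  let b := (σ a).coeff (Multiplicative.ofAdd n)
  have hb : b ∈ aug k A := by
    rw [mem_aug, counit_coeff hσ, mem_aug.mp ha]
    simp
  have hbn : σ b = MonoidAlgebra.single (Multiplicative.ofAdd n) b := rho_coeff hσ a _
  obtain ⟨wv, hwv⟩ := exists_eq_spMap (pt k (tangentChar d) ≫ tN)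
  have hwv0 : ∀ c, (wv c).fst = Coalgebra.counit (R := k) c := by
    have h : spMap (TrivSqZeroExt.fstHom k k k) ≫ spMap wv = (1 : sp k k ⟶ sp k A) := by
      rw [← hwv, ← Category.assoc, comp_pt]
      rw [show ((TrivSqZeroExt.fstHom k k k : DualNumber k →ₐ[k] k) : DualNumber k →* k).comp (tangentChar d) =
        (1 : Multiplicative N →* k) from MonoidHom.ext fun q => by simp [tangentChar], pt_one, MonObj.one_comp]
    rw [spMap_comp, ← spMap_counit] at h
    exact fun c => AlgHom.congr_fun (spMap_injective h) c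
  obtain ⟨v, hv⟩ := exists_der hf ε wv hwv0
  have hvt : spMap (der hf ε v) = pt k (tangentChar d) ≫ tN := by rw [hv, hwv]
  obtain ⟨l, hlb, hl⟩ := Submodule.exists_le_ker_of_notMem (p := ((aug k A) ^ 2).restrictScalars k) (v := b) (fun h => hna ((Submodule.restrictScalars_mem k _ _).mp h))
  let lin : A →ₗ[k] k :=
    l ∘ₗ (LinearMap.id - (Algebra.linearMap k A).comp (Coalgebra.counit (R := k) (A := A)))
  have hlin : ∀ c, lin c = l (c - algebraMap k A (Coalgebra.counit (R := k) c)) := fun c => rfl
  let wy : A →ₐ[k] DualNumber k :=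
    AlgHom.ofLinearMap
      ((Algebra.linearMap k (DualNumber k)).comp (Coalgebra.counit (R := k) (A := A)) +
        (TrivSqZeroExt.inrHom k k).comp lin)
      (by ext <;> simp [hlin, TrivSqZeroExt.algebraMap_eq_inl'])
      (fun p q => by
        have e : l ((p - algebraMap k A (Coalgebra.counit (R := k) p)) *
            (q - algebraMap k A (Coalgebra.counit (R := k) q))) = 0 := by
          refine hl (show _ ∈ aug k A ^ 2 from ?_)
          rw [pow_two]
          refine Ideal.mul_mem_mul ?_ ?_ <;>
          · rw [mem_aug, map_sub, Bialgebra.counit_algebraMap, sub_self]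
        have e' : lin (p * q) = Coalgebra.counit (R := k) p * lin q + Coalgebra.counit (R := k) q * lin p := by
          rw [hlin, hlin, hlin, Bialgebra.counit_mul, map_mul]
          rw [show p * q - algebraMap k A (Coalgebra.counit (R := k) p) * algebraMap k A (Coalgebra.counit (R := k) q) =
            (p - algebraMap k A (Coalgebra.counit (R := k) p)) * (q - algebraMap k A (Coalgebra.counit (R := k) q)) +
            Coalgebra.counit (R := k) p • (q - algebraMap k A (Coalgebra.counit (R := k) q)) +
            Coalgebra.counit (R := k) q • (p - algebraMap k A (Coalgebra.counit (R := k) p)) by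
              simp only [Algebra.smul_def]; ring, map_add, map_add, e, map_smul, map_smul, zero_add]
          rfl
        ext <;> simp [TrivSqZeroExt.algebraMap_eq_inl', Bialgebra.counit_mul, e'] <;> ring)
  obtain ⟨y, hy⟩ := exists_der hf ε wy fun c => by simp [wy, TrivSqZeroExt.algebraMap_eq_inl']
  have hyb : (der hf ε y b).snd ≠ 0 := by
    rw [hy]
    simpa [wy, hlin, TrivSqZeroExt.algebraMap_eq_inl', mem_aug.mp hb] using hlb
  let φ : L → k := fun x => (der hf ε (m.e (Multiplicative.ofAdd x)) b).snd
  have hφ0 : φ 0 = 0 := by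
    show (der hf ε (m.e (Multiplicative.ofAdd 0)) b).snd = 0
    rw [ofAdd_zero, map_one]
    exact snd_der_one hf ε b
  let v' : L := (m.e.symm v).toAdd
  let y' : L := (m.e.symm y).toAdd
  have hstep : ∀ x : L, φ ⁅v', x⁆ = d n * φ x := fun x => by
    have e := Groth.Agent.S8361.result _ G k f _ _ _ _ (m.e_lie v' x) (LieSLib.isBracket_br _ _)
    show (der hf ε (m.e (Multiplicative.ofAdd ⁅v', x⁆)) b).snd = _
    rw [e, show m.e (Multiplicative.ofAdd v') = v from m.e.apply_symm_apply v]
    exact snd_der_br hf ε hσ v _ d hvt hb hbn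
  have hiter : ∀ j : ℕ, φ (((LieModule.toEnd k L L v') ^ j) y') = (d n) ^ j * φ y' := by
    intro j
    induction j with
    | zero => simp
    | succ j ih => rw [pow_succ', Module.End.mul_apply, LieModule.toEnd_apply_apply, hstep, ih, pow_succ']; ring
  haveI : LieModule.IsNilpotent L L := hL
  obtain ⟨j, hj⟩ := LieModule.isNilpotent_toEnd_of_isNilpotent k L L v'
  have h := hiter j
  rw [hj, LinearMap.zero_apply, hφ0] at h
  have hy' : φ y' = (der hf ε y b).snd := by
    show (der hf ε (m.e (Multiplicative.ofAdd (m.e.symm y).toAdd)) b).snd = _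
    rw [ofAdd_toAdd, MulEquiv.apply_symm_apply]
  rw [hy'] at h
  exact mul_ne_zero (pow_ne_zero j hdn) hyb h.symm

section Main

variable [IsAlgClosed k]

include hf in
set_option maxHeartbeats 1000000 in
/-- Nilpotent Lie algebra and trivial reductive centre: there is no non-trivial subtorus. -/
theorem hasNoSubtorus (G : Over (Spec (CommRingCat.of k))) [GrpObj G] [Smooth G.hom] [IsAffine G.left]
    [ConnectedSpace G.left]
    (hZ : ∀ (Z : Over (Spec (CommRingCat.of k))) [GrpObj Z] (z : Z ⟶ G) [IsMonHom z] [Mono z],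
      SGA3x.IsMultTypeFT Z →
      (∀ (X : Over (Spec (CommRingCat.of k))) (x : X ⟶ Z) (g : X ⟶ G), (x ≫ z) * g = g * (x ≫ z)) → Red.IsTrivialGrp Z)
    (L : Type u) [LieRing L] [LieAlgebra k L] (m : LieS.Model G k f L) (hL : LieRing.IsNilpotent L) :
    Red.HasNoSubtorus k G := by
  intro T _ iT _ _ hT
  obtain ⟨r, qT, hqm, hqi⟩ := exists_iso_tor hT
  haveI := hqm; haveI := hqi
  haveI : IsMonHom (inv qT) := inferInstanceAs (IsMonHom (asIso qT).inv)
  obtain ⟨A, _, _, ⟨eG⟩⟩ := exists_hopf G
  let ε : G ≅ sp k A := ((Grp.forget _).mapIso eG).symm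
  haveI : IsMonHom ε.hom := eG.inv.hom.isMonHom_hom
  haveI : IsMonHom ε.inv := eG.hom.hom.isMonHom_hom
  haveI : IsIso ε.inv.left := inferInstanceAs (IsIso ((Over.forget _).map ε.inv))
  haveI : Smooth (sp k A).hom := by rw [← Over.w ε.inv]; infer_instance
  haveI : Algebra.Smooth k A := RingHom.smooth_algebraMap.mp
    ((HasRingHomProperty.Spec_iff (P := @Smooth)).mp ‹Smooth (sp k A).hom›)
  haveI : Algebra.FiniteType k A := inferInstance
  haveI : AlgebraicGeometry.IsReduced (Spec (CommRingCat.of A)) := GrpSchLib.isReduced_of_smooth_field (sp k A).hom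
  haveI : _root_.IsReduced A := (affine_isReduced_iff (CommRingCat.of A)).mp inferInstance
  haveI : ConnectedSpace (PrimeSpectrum A) :=
    (ε.hom.left.surjective).connectedSpace ε.hom.left.continuous
  have hidem : ∀ e : A, IsIdempotentElem e → e = 0 ∨ e = 1 := fun e he => by
    have h := isClopen_iff.mp (PrimeSpectrum.isClopen_iff.mpr ⟨e, he, rfl⟩ : IsClopen
      (PrimeSpectrum.basicOpen e : Set (PrimeSpectrum A)))
    rcases h with h | h
    · left
      have : IsNilpotent e := (PrimeSpectrum.basicOpen_eq_bot_iff e).mp (TopologicalSpace.Opens.ext h)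
      exact IsNilpotent.eq_zero this
    · right
      have hu : IsUnit e := by
        by_contra hu
        obtain ⟨P, hP, heP⟩ := exists_max_ideal_of_mem_nonunits (mem_nonunits_iff.mpr hu)
        have hm : (⟨P, hP.isPrime⟩ : PrimeSpectrum A) ∈ (PrimeSpectrum.basicOpen e : Set (PrimeSpectrum A)) := by
          rw [h]; trivial
        exact hm heP
      exact hu.mul_left_cancel (by rw [he.eq, _root_.mul_one])
  haveI : IsDomain A := ComodLib.isDomain_of_connected k hidem
  haveI : IsNoetherianRing A := Algebra.FiniteType.isNoetherianRing k A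
  let tN : sp k (MonoidAlgebra k (Multiplicative (Fin r → ℤ))) ⟶ sp k A := inv qT ≫ iT ≫ ε.hom
  haveI : IsMonHom tN := inferInstanceAs (IsMonHom (inv qT ≫ iT ≫ ε.hom))
  haveI : Mono tN := inferInstanceAs (Mono (inv qT ≫ iT ≫ ε.hom))
  obtain ⟨σ, hσ⟩ := CentreWeights.exists_conj tN
  let Γ := AddSubgroup.closure (cotWeights σ)
  -- the kernel of all weights is central
  have hΓ : Γ = ⊤ := by
    let Q := (Fin r → ℤ) ⧸ Γ
    let π : (Fin r → ℤ) →+ Q := QuotientAddGroup.mk' Γ
    have hπs : Function.Surjective π := QuotientAddGroup.mk'_surjective Γ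
    have hQ : AddGroup.FG Q := by
      haveI : AddGroup.FG (Fin r → ℤ) := Module.Finite.iff_addGroup_fg.mp inferInstance
      exact AddGroup.fg_of_surjective hπs
    let πA : MonoidAlgebra k (Multiplicative (Fin r → ℤ)) →ₐc[k] MonoidAlgebra k (Multiplicative Q) :=
      MonoidAlgebra.mapDomainBialgHom k (AddMonoidHom.toMultiplicative π)
    have hπA : Function.Surjective πA := fun y => by
      induction y using MonoidAlgebra.induction_linear with
      | zero => exact ⟨0, map_zero _⟩
      | add a b ha hb => obtain ⟨a', rfl⟩ := ha; obtain ⟨b', rfl⟩ := hb; exact ⟨a' + b', map_add _ _ _⟩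
      | single m' c =>
        obtain ⟨n, hn⟩ := hπs m'.toAdd
        exact ⟨MonoidAlgebra.single (Multiplicative.ofAdd n) c, by
          show MonoidAlgebra.mapDomain _ _ = _
          rw [MonoidAlgebra.mapDomain_single]
          exact congrArg (MonoidAlgebra.single · c) (congrArg Multiplicative.ofAdd hn)⟩
    let H := sp k (MonoidAlgebra k (Multiplicative Q))
    let π' : H ⟶ sp k (MonoidAlgebra k (Multiplicative (Fin r → ℤ))) :=
      spMap (πA : MonoidAlgebra k (Multiplicative (Fin r → ℤ)) →ₐ[k] MonoidAlgebra k (Multiplicative Q))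
    haveI : IsClosedImmersion π'.left := IsClosedImmersion.spec_of_surjective _ hπA
    haveI : Mono π' := Over.mono_of_mono_left π'
    let u : H ⟶ sp k A := π' ≫ tN
    haveI : IsMonHom u := inferInstanceAs (IsMonHom (π' ≫ tN))
    haveI : Mono u := inferInstanceAs (Mono (π' ≫ tN))
    haveI : IsMonHom (u ≫ ε.inv) := inferInstance
    haveI : Mono (u ≫ ε.inv) := mono_comp _ _
    obtain ⟨dQ⟩ := nonempty_DS_iso k Q
    haveI : IsAffine (H ⊗ sp k A).left := inferInstanceAs (IsAffine (pullback H.hom (sp k A).hom))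
    obtain ⟨W, _, _, e, he⟩ := exists_sp_iso (H ⊗ sp k A)
    haveI := he
    have huniv : (fst H (sp k A) ≫ u) * snd _ _ = snd _ _ * (fst H (sp k A) ≫ u) := by
      rw [← cancel_epi e, MonObj.comp_mul, MonObj.comp_mul, ← Category.assoc]
      obtain ⟨h₀, hh₀⟩ := exists_eq_spMap (e ≫ fst H (sp k A))
      obtain ⟨x, hx⟩ := exists_eq_spMap (e ≫ snd H (sp k A))
      rw [hh₀, hx]
      let χ : Multiplicative (Fin r → ℤ) →* W := (MonoidAlgebra.lift k W (Multiplicative (Fin r → ℤ))).symm
        (h₀.comp (πA : MonoidAlgebra k (Multiplicative (Fin r → ℤ)) →ₐ[k] MonoidAlgebra k (Multiplicative Q)))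
      have hχ : spMap h₀ ≫ π' = CentreWeights.pt k χ := by
        show spMap h₀ ≫ spMap _ = spMap _
        rw [spMap_comp]
        exact congrArg spMap ((MonoidAlgebra.lift k W _).apply_symm_apply _).symm
      show (spMap h₀ ≫ π' ≫ tN) * _ = _ * (spMap h₀ ≫ π' ≫ tN)
      rw [← Category.assoc, hχ]
      refine commute_in_fibre hσ ⊥ (RingHom.id k) ((RingHom.injective_iff_ker_eq_bot _).mp Function.injective_id)
        (algebraMap k W) (RingHom.comp_id _) χ (fun n hn => ?_) x
      have hn' : n ∈ Γ := (AddSubgroup.closure_le _).mpr (weightSet_le hσ) hn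
      show h₀ (MonoidAlgebra.mapDomain _ (MonoidAlgebra.single (Multiplicative.ofAdd n) 1)) = 1
      rw [MonoidAlgebra.mapDomain_single,
        show AddMonoidHom.toMultiplicative π (Multiplicative.ofAdd n) = 1 from
          congrArg Multiplicative.ofAdd ((QuotientAddGroup.eq_zero_iff n).mpr hn'), ← MonoidAlgebra.one_def, map_one]
    have hcentral : ∀ (X : Over (Spec (CommRingCat.of k))) (x : X ⟶ H) (g : X ⟶ G),
        (x ≫ u ≫ ε.inv) * g = g * (x ≫ u ≫ ε.inv) := fun X x g => by
      have h1 := congrArg (lift x (g ≫ ε.hom) ≫ ·) huniv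
      simp only [MonObj.comp_mul, lift_fst_assoc, lift_snd] at h1
      rw [← cancel_mono ε.hom]
      simpa only [MonObj.mul_comp, Category.assoc, Iso.inv_hom_id, Category.comp_id] using h1
    have htriv : IsIso H.hom := hZ H (u ≫ ε.inv) (isMultTypeFT_of_iso_DS hQ dQ) hcentral
    have hbij : Function.Bijective (algebraMap k (MonoidAlgebra k (Multiplicative Q))) := by
      haveI : IsIso (Spec.map (CommRingCat.ofHom (algebraMap k (MonoidAlgebra k (Multiplicative Q))))) := htriv
      haveI : IsIso (Scheme.Spec.map (CommRingCat.ofHom (algebraMap k (MonoidAlgebra k (Multiplicative Q)))).op) := htriv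
      haveI : IsIso (CommRingCat.ofHom (algebraMap k (MonoidAlgebra k (Multiplicative Q)))).op :=
        isIso_of_reflects_iso _ Scheme.Spec
      haveI : IsIso (CommRingCat.ofHom (algebraMap k (MonoidAlgebra k (Multiplicative Q)))) :=
        (isIso_op_iff _).mp inferInstance
      exact (ConcreteCategory.isIso_iff_bijective _).mp this
    refine eq_top_iff.mpr fun n _ => (QuotientAddGroup.eq_zero_iff n).mp ?_
    obtain ⟨c, hc⟩ := hbij.2 (MonoidAlgebra.single (Multiplicative.ofAdd (π n)) 1)
    by_contra hne
    have hne' : (1 : Multiplicative Q) ≠ Multiplicative.ofAdd (π n) := fun h => hne (congrArg Multiplicative.toAdd h).symm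
    have h2 := congrArg (fun F : MonoidAlgebra k (Multiplicative Q) => F.coeff (Multiplicative.ofAdd (π n))) hc
    classical
    simp [MonoidAlgebra.coeff_single, Finsupp.single_apply, hne'] at h2
  -- no coordinate survives
  rcases Nat.eq_zero_or_pos r with hr | hr
  · subst hr
    have hb : Function.Bijective (algebraMap k (MonoidAlgebra k (Multiplicative (Fin 0 → ℤ)))) := by
      refine ⟨(algebraMap k _).injective, fun F => ⟨F.coeff 1, MonoidAlgebra.coeff_inj.mp (Finsupp.ext fun q => ?_)⟩⟩
      rw [Subsingleton.elim q 1]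
      simp [MonoidAlgebra.coeff_single]
    haveI : IsIso (CommRingCat.ofHom (algebraMap k (MonoidAlgebra k (Multiplicative (Fin 0 → ℤ))))) :=
      (ConcreteCategory.isIso_iff_bijective _).mpr hb
    haveI : IsIso (sp k (MonoidAlgebra k (Multiplicative (Fin 0 → ℤ)))).hom := inferInstanceAs (IsIso (Spec.map _))
    show IsIso T.hom
    haveI : IsIso qT.left := inferInstanceAs (IsIso ((Over.forget _).map qT))
    rw [← Over.w qT]
    infer_instance
  · exfalso
    let i₀ : Fin r := ⟨0, hr⟩
    let d : (Fin r → ℤ) →+ k := (Int.castAddHom k).comp (Pi.evalAddMonoidHom (fun _ => ℤ) i₀)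
    have h0 : ∀ n ∈ Γ, d n = 0 := fun n hn => by
      induction hn using AddSubgroup.closure_induction with
      | mem x hx => exact weight_map_eq_zero hf ε hσ d L m hL hx
      | zero => exact map_zero d
      | add x y _ _ hx hy => rw [map_add, hx, hy, add_zero]
      | neg x _ hx => rw [map_neg, hx, neg_zero]
    have h1 := h0 (Pi.single i₀ 1) (hΓ ▸ AddSubgroup.mem_top _)
    simp [d] at h1

end Main

end Groth.Agent.RankLib.LieTangent
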