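import Groth.Agent.GModLib.CentreWeights
import Groth.Agent.ComodLib.Rosenlicht
import Mathlib.RingTheory.Filtration

/-!
# The weights of the conjugation action are generated by those on the cotangent space at the unit
-/

set_option autoImplicit false
set_option backward.isDefEq.respectTransparency false
set_option backward.isDefEq.respectTransparency.types false

universe u

open CategoryTheory Limits AlgebraicGeometry MonoidalCategory CartesianMonoidalCategory MonObj GrpObj WithConv
open scoped TensorProduct
open MonoidAlgebra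

namespace Groth.Agent.RankLib.LieWeights

open GrpSchLib.AffineHopf GModLib GModLib.CentreWeights

variable {k : Type u} [Field k] {A : Type u} [CommRing A] [HopfAlgebra k A] {M : Type} [CommGroup M]
  {t : sp k (MonoidAlgebra k M) ⟶ sp k A} {ρ : A →ₐ[k] MonoidAlgebra A M}
  (hρ : ∀ (R' : Type u) [CommRing R'] [Algebra k R'] (χ : M →* R') (x : A →ₐ[k] R'),
    (pt k χ ≫ t) * spMap x * (pt k χ ≫ t)⁻¹ = spMap ((ev χ x).comp ρ))

variable (k A) in
/-- The augmentation ideal. -/
noncomputable def aug : Ideal A := RingHom.ker (Bialgebra.counitAlgHom k A)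

theorem mem_aug {a : A} : a ∈ aug k A ↔ Coalgebra.counit (R := k) a = 0 := RingHom.mem_ker

theorem spMap_counit {R' : Type u} [CommRing R'] [Algebra k R'] :
    spMap ((Algebra.ofId k R').comp (Bialgebra.counitAlgHom k A)) = (1 : sp k R' ⟶ sp k A) := by
  have h : spMap ((Algebra.ofId k R').comp (Bialgebra.counitAlgHom k A)) *
      spMap ((Algebra.ofId k R').comp (Bialgebra.counitAlgHom k A)) =
      spMap ((Algebra.ofId k R').comp (Bialgebra.counitAlgHom k A)) := by
    rw [spMap_mul]
    congr 1
    exact congrArg WithConv.ofConv (_root_.one_mul (1 : WithConv (A →ₐ[k] R')))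
  rwa [mul_eq_left] at h

include hρ in
/-- The conjugation fixes the unit. -/
theorem counit_coeff [DecidableEq M] (a : A) (m : M) :
    Coalgebra.counit (R := k) ((ρ a).coeff m) = if m = 1 then Coalgebra.counit (R := k) a else 0 := by
  let x : A →ₐ[k] MonoidAlgebra k M := (Algebra.ofId k _).comp (Bialgebra.counitAlgHom k A)
  have h := hρ (MonoidAlgebra k M) (MonoidAlgebra.of k M) x
  rw [spMap_counit, _root_.mul_one, mul_inv_cancel, ← spMap_counit (A := A)] at h
  have h1 := congrArg (fun f : A →ₐ[k] MonoidAlgebra k M => (f a).coeff m) (spMap_injective h)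
  have key : ∀ F : MonoidAlgebra A M, (ev (MonoidAlgebra.of k M) x F).coeff m = Coalgebra.counit (R := k) (F.coeff m) :=
    fun F => by
    induction F using MonoidAlgebra.induction_linear with
    | zero => simp
    | add F G hF hG => simp [hF, hG]
    | single n b =>
      rw [ev_single]
      simp only [x, AlgHom.comp_apply, Algebra.ofId_apply, MonoidAlgebra.of_apply,
        MonoidAlgebra.coe_algebraMap, Function.comp_apply, Bialgebra.counitAlgHom_apply, MonoidAlgebra.single_mul_single,
        _root_.one_mul, _root_.mul_one, MonoidAlgebra.coeff_single, Finsupp.single_apply, Algebra.algebraMap_self,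
        RingHom.id_apply]
      split_ifs with hn <;> simp
  simp only [AlgHom.comp_apply] at h1
  rw [key] at h1
  rw [← h1]
  simp [x, Algebra.ofId_apply, MonoidAlgebra.coeff_single, Finsupp.single_apply, eq_comm]

include hρ in
/-- The components are weight vectors. -/
theorem rho_coeff [IsMonHom t] (a : A) (m : M) : ρ ((ρ a).coeff m) = single m ((ρ a).coeff m) := by
  let R' := MonoidAlgebra (MonoidAlgebra A M) M
  let x : A →ₐ[k] R' :=
    (MonoidAlgebra.singleOneAlgHom (R := k) (A := MonoidAlgebra A M) (M := M)).comp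
      (MonoidAlgebra.singleOneAlgHom (R := k) (A := A) (M := M))
  let χ : M →* R' := (MonoidAlgebra.singleOneRingHom : MonoidAlgebra A M →+* R').toMonoidHom.comp (MonoidAlgebra.of A M)
  let χ' : M →* R' := MonoidAlgebra.of (MonoidAlgebra A M) M
  have h1 := hρ R' χ x
  have h2 := hρ R' χ' ((ev χ x).comp ρ)
  have h3 := hρ R' (χ' * χ) x
  rw [← h1] at h2
  rw [pt_mul, MonObj.mul_comp, _root_.mul_inv_rev] at h3
  have h4 : spMap ((ev χ' ((ev χ x).comp ρ)).comp ρ) = spMap ((ev (χ' * χ) x).comp ρ) := by
    rw [← h2, ← h3]; group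
  have h5 := congrArg (fun f : A →ₐ[k] R' => (f a).coeff m) (spMap_injective h4)
  have kin : ∀ G : MonoidAlgebra A M, ev χ x G = single 1 G := fun G => by
    induction G using MonoidAlgebra.induction_linear with
    | zero => simp
    | add F G hF hG => simp [hF, hG]
    | single n b =>
      rw [ev_single]
      show (single 1 (single 1 b) : R') * single 1 (single n 1) = _
      rw [MonoidAlgebra.single_mul_single, MonoidAlgebra.single_mul_single, _root_.one_mul, _root_.one_mul,
        _root_.mul_one]
  have k1 : ∀ F : MonoidAlgebra A M, (ev χ' ((ev χ x).comp ρ) F).coeff m = ρ (F.coeff m) := fun F => by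
    induction F using MonoidAlgebra.induction_linear with
    | zero => simp
    | add F G hF hG => rw [map_add, MonoidAlgebra.coeff_add, Finsupp.add_apply, hF, hG, MonoidAlgebra.coeff_add,
        Finsupp.add_apply, map_add]
    | single n b =>
      classical
      rw [ev_single, AlgHom.comp_apply, kin]
      show ((single 1 (ρ b) : R') * single n 1).coeff m = _
      rw [MonoidAlgebra.single_mul_single, _root_.one_mul, _root_.mul_one, MonoidAlgebra.coeff_single,
        MonoidAlgebra.coeff_single, Finsupp.single_apply, Finsupp.single_apply]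
      split_ifs with hn
      · rfl
      · rw [map_zero]
  have k2 : ∀ F : MonoidAlgebra A M, (ev (χ' * χ) x F).coeff m = single m (F.coeff m) := fun F => by
    induction F using MonoidAlgebra.induction_linear with
    | zero => simp
    | add F G hF hG => rw [map_add, MonoidAlgebra.coeff_add, Finsupp.add_apply, hF, hG, MonoidAlgebra.coeff_add,
        Finsupp.add_apply, MonoidAlgebra.single_add]
    | single n b =>
      classical
      rw [ev_single]
      show ((single 1 (single 1 b) : R') * (single n 1 * single 1 (single n 1))).coeff m = _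
      simp only [MonoidAlgebra.single_mul_single, _root_.one_mul, _root_.mul_one]
      rw [MonoidAlgebra.coeff_single, MonoidAlgebra.coeff_single, Finsupp.single_apply, Finsupp.single_apply]
      split_ifs with hn
      · rw [hn]
      · rw [MonoidAlgebra.single_zero]
  simp only [AlgHom.comp_apply] at h5
  rw [k1, k2] at h5
  exact h5

section Weights

variable {N : Type} [AddCommGroup N] {tN : sp k (MonoidAlgebra k (Multiplicative N)) ⟶ sp k A}
  {σ : A →ₐ[k] MonoidAlgebra A (Multiplicative N)}
  (hσ : ∀ (R' : Type u) [CommRing R'] [Algebra k R'] (χ : Multiplicative N →* R') (x : A →ₐ[k] R'),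
    (pt k χ ≫ tN) * spMap x * (pt k χ ≫ tN)⁻¹ = spMap ((ev χ x).comp σ))

/-- The weights on the cotangent space at the unit. -/
def cotWeights (σ : A →ₐ[k] MonoidAlgebra A (Multiplicative N)) : Set N :=
  {n | ∃ b ∈ aug k A, (σ b).coeff (Multiplicative.ofAdd n) ∉ aug k A ^ 2}

/-- Elements of `A[N]` of order at least `j`, and of order larger than `j` outside `Γ`. -/
def Graded (Γ : AddSubgroup N) (j : ℕ) (F : MonoidAlgebra A (Multiplicative N)) : Prop :=
  ∀ m : Multiplicative N, F.coeff m ∈ aug k A ^ j ∧ (m.toAdd ∉ Γ → F.coeff m ∈ aug k A ^ (j + 1))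

theorem Graded.add {Γ : AddSubgroup N} {j : ℕ} {F G : MonoidAlgebra A (Multiplicative N)}
    (hF : Graded (k := k) Γ j F) (hG : Graded (k := k) Γ j G) : Graded (k := k) Γ j (F + G) := fun m => by
  rw [MonoidAlgebra.coeff_add, Finsupp.add_apply]
  exact ⟨add_mem (hF m).1 (hG m).1, fun h => add_mem ((hF m).2 h) ((hG m).2 h)⟩

theorem Graded.mul {Γ : AddSubgroup N} {i j : ℕ} {F G : MonoidAlgebra A (Multiplicative N)}
    (hF : Graded (k := k) Γ i F) (hG : Graded (k := k) Γ j G) : Graded (k := k) Γ (i + j) (F * G) := fun m => by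
  classical
  rw [MonoidAlgebra.coeff_mul]
  simp only [Finsupp.sum, Finsupp.finsetSum_apply]
  have hterm : ∀ a b : Multiplicative N, a * b = m → F.coeff a * G.coeff b ∈ aug k A ^ (i + j) ∧
      (m.toAdd ∉ Γ → F.coeff a * G.coeff b ∈ aug k A ^ (i + j + 1)) := fun a b hab => by
    refine ⟨pow_add (aug k A) i j ▸ Ideal.mul_mem_mul (hF a).1 (hG b).1, fun hm => ?_⟩
    by_cases ha : a.toAdd ∈ Γ
    · have hb : b.toAdd ∉ Γ := fun hb => hm (hab ▸ Γ.add_mem ha hb)
      rw [_root_.add_assoc, pow_add]
      exact Ideal.mul_mem_mul (hF a).1 ((hG b).2 hb)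
    · rw [_root_.add_right_comm, pow_add]
      exact Ideal.mul_mem_mul ((hF a).2 ha) (hG b).1
  refine ⟨Ideal.sum_mem _ fun a _ => Ideal.sum_mem _ fun b _ => ?_,
    fun hm => Ideal.sum_mem _ fun a _ => Ideal.sum_mem _ fun b _ => ?_⟩
  all_goals
    split_ifs with hab
    · first | exact (hterm a b hab).1 | exact (hterm a b hab).2 hm
    · exact zero_mem _

include hσ in
theorem graded_base (Γ : AddSubgroup N) (hΓ : cotWeights σ ⊆ Γ) :
    (∀ a, Graded (k := k) Γ 0 (σ a)) ∧ ∀ a ∈ aug k A, Graded (k := k) Γ 1 (σ a) := by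
  classical
  refine ⟨fun a m => ⟨by rw [pow_zero, Ideal.one_eq_top]; trivial, fun hm => ?_⟩, fun a ha m => ⟨?_, fun hm => ?_⟩⟩
  · rw [zero_add, pow_one, mem_aug, counit_coeff hσ, if_neg]
    exact fun h => hm (by rw [h]; exact Γ.zero_mem)
  · rw [pow_one, mem_aug, counit_coeff hσ, mem_aug.mp ha]
    simp
  · by_contra hc
    exact hm (hΓ ⟨a, ha, hc⟩)

include hσ in
theorem graded_pow (Γ : AddSubgroup N) (hΓ : cotWeights σ ⊆ Γ) :
    ∀ (j : ℕ), ∀ x ∈ aug k A ^ j, Graded (k := k) Γ j (σ x)
  | 0 => fun x _ => (graded_base hσ Γ hΓ).1 x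
  | j + 1 => fun x hx => by
    rw [pow_succ] at hx
    induction hx using Submodule.mul_induction_on' with
    | mem_mul_mem a ha b hb =>
      rw [map_mul]
      exact (graded_pow Γ hΓ j a ha).mul ((graded_base hσ Γ hΓ).2 b hb)
    | add a _ b _ ha hb => rw [map_add]; exact ha.add hb

include hσ in
/-- On a connected smooth group all weights are generated by those on the cotangent space. -/
theorem weightSet_le [IsMonHom tN] [IsDomain A] [IsNoetherianRing A] :
    weightSet σ (⊥ : Ideal k) ⊆ AddSubgroup.closure (cotWeights σ) := by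
  rintro n ⟨a, Q, hQ, -⟩
  by_contra hn
  refine hQ ?_
  let c := (σ a).coeff (Multiplicative.ofAdd n)
  have hc : ∀ j, c ∈ aug k A ^ j := by
    intro j
    induction j with
    | zero => rw [pow_zero, Ideal.one_eq_top]; trivial
    | succ j ih =>
      have h := (graded_pow hσ _ AddSubgroup.subset_closure j c ih (Multiplicative.ofAdd n)).2 hn
      rw [rho_coeff hσ, MonoidAlgebra.coeff_single, Finsupp.single_eq_same] at h
      exact h
  have h0 : c = 0 := by
    have h : c ∈ ⨅ j, aug k A ^ j := Ideal.mem_iInf.mpr hc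
    rwa [Ideal.iInf_pow_eq_bot_of_isDomain (aug k A) (RingHom.ker_ne_top _), Ideal.mem_bot] at h
  show c ∈ Q.asIdeal
  rw [h0]
  exact zero_mem _

end Weights

end Groth.Agent.RankLib.LieWeights
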