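import Groth.Agent.RankLib.Weights
import Mathlib.RingTheory.Adjoin.Basic
import Mathlib.RingTheory.Polynomial.Basic

/-!
# The split torus through torsion points

The main algebraic statement: bounded weights turn the torsion points into a split torus near the fibre.
-/

set_option autoImplicit false
set_option backward.isDefEq.respectTransparency false
set_option backward.isDefEq.respectTransparency.types false

universe u

open TensorProduct Coalgebra WithConv

noncomputable section

namespace Groth.Agent.RankLib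

variable {R H : Type u} [CommRing R] [CommRing H] [HopfAlgebra R H]

section Step

variable {n : ℕ} [NeZero n] {A : Type u} [CommRing A] [Algebra R A] (P : StableSub R H) (ζ : GoodRoot A n) {r : ℕ}
  (ρ : Multiplicative (Fin r → ZMod n) →* WithConv (H →ₐ[R] A)) (φ : H →ₐ[R] Lau A r)

/-- The linear extension to the scalars. -/
def scal : A ⊗[R] H →ₐ[A] Lau A r :=
  Algebra.TensorProduct.lift (Algebra.ofId A (Lau A r)) φ fun _ _ => .all _ _

theorem scal_one_tmul (h : H) : scal φ (1 ⊗ₜ h) = φ h := by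
  simp [scal, ← MonoidAlgebra.one_def]

theorem scal_box {L : ℕ} (hφ : ∀ e : P.E, φ (e : H) ∈ Box A r L) (z : A ⊗[R] P.E) :
    scal φ (P.E.subtype.baseChange A z) ∈ Box A r L := by
  induction z using TensorProduct.induction_on with
  | zero => rw [map_zero, map_zero]; exact zero_mem _
  | add a b ha hb => rw [map_add, map_add]; exact add_mem ha hb
  | tmul a e =>
    rw [LinearMap.baseChange_tmul, show a ⊗ₜ[R] P.E.subtype e = a • ((1 : A) ⊗ₜ[R] (e : H)) by
      rw [TensorProduct.smul_tmul', smul_eq_mul, mul_one]; rfl, map_smul, scal_one_tmul]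
    exact Submodule.smul_mem _ _ (hφ e)

theorem ev_scal (hev : ∀ t h, ζ.ev t (φ h) = pt ρ t h) (t : Fin r → ZMod n) (z : A ⊗[R] P.E) :
    ζ.ev t (scal φ (P.E.subtype.baseChange A z)) = P.val A (P.op A (pt ρ t) z) := by
  induction z using TensorProduct.induction_on with
  | zero => simp
  | add a b ha hb => simp only [map_add, ha, hb]
  | tmul a e =>
    rw [LinearMap.baseChange_tmul, show a ⊗ₜ[R] P.E.subtype e = a • ((1 : A) ⊗ₜ[R] (e : H)) by
      rw [TensorProduct.smul_tmul', smul_eq_mul, mul_one]; rfl,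
      show a ⊗ₜ[R] e = a • ((1 : A) ⊗ₜ[R] e) by rw [TensorProduct.smul_tmul', smul_eq_mul, mul_one],
      map_smul, map_smul, map_smul, map_smul, scal_one_tmul, hev, P.val_op]

/-- A weight vector with invertible value gives a monomial in the image. -/
theorem single_mem_range {L : ℕ} (hL : 2 * L < n) (hφ : ∀ e : P.E, φ (e : H) ∈ Box A r L)
    (hev : ∀ t h, ζ.ev t (φ h) = pt ρ t h) {m : Ex r} (hm : m ∈ boxSet r L) (e : P.E)
    (hu : IsUnit (P.val A (proj P ζ ρ m (1 ⊗ₜ e)))) :
    MonoidAlgebra.single m (1 : A) ∈ (scal φ).range := by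
  obtain ⟨c, hc⟩ := hu
  refine ⟨(↑c⁻¹ : A) • P.E.subtype.baseChange A (proj P ζ ρ m (1 ⊗ₜ e)), ?_⟩
  show scal φ _ = _
  rw [map_smul]
  refine ζ.ext_box hL (Submodule.smul_mem _ _ (scal_box P φ hφ _)) (single_mem_box hm 1) fun t => ?_
  rw [map_smul, ev_scal P ζ ρ φ hev, op_proj, map_smul, GoodRoot.ev_single, ← hc, one_mul, smul_eq_mul, smul_eq_mul,
    mul_left_comm, Units.inv_mul, mul_one]

end Step

variable {k : Type u} [Field k] [Algebra R k] {r : ℕ}

/-- A finite amount of data controls the weights. -/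
theorem exists_data [IsNoetherianRing R] [Module.Flat R H] [Algebra.FiniteType R H] (ψ : H →ₐ[R] Lau k r) :
    ∃ (P : StableSub R H) (N : ℕ) (a : Fin N → P.E) (F : Finset (MvPolynomial (Fin N) R)) (L D : ℕ),
      Submodule.span R (Set.range a) = ⊤ ∧ Function.Surjective (MvPolynomial.aeval (R := R) fun l => (a l : H)) ∧
      Ideal.span (F : Set (MvPolynomial (Fin N) R)) = RingHom.ker (MvPolynomial.aeval (R := R) fun l => (a l : H)) ∧
      (∀ l, ψ (a l : H) ∈ Box k r L) ∧
      (∀ e ∈ Set.range a, P.coact e ∈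
        LinearMap.range ((((Box k r L).restrictScalars R).comap ψ.toLinearMap).subtype.lTensor P.E)) ∧
      (∀ F' ∈ F, ∀ (A : Type u) [CommRing A] [Algebra R A] (f : Fin N → Lau A r), (∀ i, f i ∈ Box A r L) →
        MvPolynomial.aeval f F' ∈ Box A r (D * L)) ∧
      (∀ l, ∃ S : Finset (MvPolynomial (Fin N) R × MvPolynomial (Fin N) R),
        comul (R := R) (a l : H) = ∑ p ∈ S, MvPolynomial.aeval (fun j => (a j : H)) p.1 ⊗ₜ[R]
          MvPolynomial.aeval (fun j => (a j : H)) p.2 ∧
        ∀ p ∈ S, ∀ (A : Type u) [CommRing A] [Algebra R A] (f : Fin N → Lau A r), (∀ i, f i ∈ Box A r L) →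
          MvPolynomial.aeval f p.1 ∈ Box A r (D * L) ∧ MvPolynomial.aeval f p.2 ∈ Box A r (D * L)) := by
  classical
  obtain ⟨s, hs⟩ := Algebra.FiniteType.out (R := R) (A := H)
  obtain ⟨P, hsP⟩ := exists_stableSub (R := R) s
  haveI := P.fin
  obtain ⟨N, a, ha⟩ := Module.Finite.exists_fin (R := R) (M := P.E)
  let π : MvPolynomial (Fin N) R →ₐ[R] H := MvPolynomial.aeval fun l => (a l : H)
  have hπ : Function.Surjective π := by
    rw [← AlgHom.range_eq_top, ← Algebra.adjoin_range_eq_range_aeval, ← top_le_iff, ← hs]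
    refine Algebra.adjoin_le fun x hx => ?_
    have hx' : (⟨x, hsP hx⟩ : P.E) ∈ Submodule.span R (Set.range a) := by rw [ha]; trivial
    have h2 := Submodule.apply_mem_span_image_of_mem_span P.E.subtype hx'
    refine (Algebra.span_le_adjoin R _) ?_
    rw [← Set.range_comp] at h2
    exact h2
  obtain ⟨F, hF⟩ := (inferInstance : IsNoetherianRing (MvPolynomial (Fin N) R)).noetherian (RingHom.ker π)
  choose SF hSF using fun l => TensorProduct.exists_finset (comul (R := R) (a l : H))
  choose g hg using hπ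
  let S : Fin N → Finset (MvPolynomial (Fin N) R × MvPolynomial (Fin N) R) := fun l =>
    (SF l).image fun p => (g p.1, g p.2)
  choose SC hSC using fun l => TensorProduct.exists_finset (P.coact (a l))
  choose Lb hLb using fun h : H => exists_box (ψ h)
  let L := (Finset.univ.sup fun l => Lb (a l : H)) ⊔ Finset.univ.sup fun l => (SC l).sup fun p => Lb p.2
  choose Db hDb using fun Q : MvPolynomial (Fin N) R => exists_degree_bound Q
  let D := F.sup Db ⊔ Finset.univ.sup fun l => (S l).sup fun p => Db p.1 ⊔ Db p.2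
  refine ⟨P, N, a, F, L, D, ha, fun h => ⟨g h, hg h⟩, hF, fun l => ?_, ?_, fun F' hF' A _ _ f hf => ?_,
    fun l => ⟨S l, ?_, fun p hp A _ _ f hf => ?_⟩⟩
  · exact box_mono ((Finset.le_sup (f := fun l => Lb (a l : H)) (Finset.mem_univ l)).trans le_sup_left) (hLb _)
  · rintro _ ⟨l, rfl⟩
    rw [hSC l]
    refine sum_mem fun p hp => ⟨p.1 ⊗ₜ ⟨p.2, ?_⟩, rfl⟩
    show ψ p.2 ∈ Box k r L
    exact box_mono ((Finset.le_sup (f := fun p : P.E × H => Lb p.2) hp).trans
      ((Finset.le_sup (f := fun l => (SC l).sup fun p => Lb p.2) (Finset.mem_univ l)).trans le_sup_right)) (hLb _)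
  · exact box_mono (Nat.mul_le_mul_right L ((Finset.le_sup hF').trans le_sup_left)) (hDb F' A r L f hf)
  · rw [hSF l, Finset.sum_image]
    · exact Finset.sum_congr rfl fun p _ => by rw [show MvPolynomial.aeval (fun j => (a j : H)) (g p.1) = p.1 from hg _,
        show MvPolynomial.aeval (fun j => (a j : H)) (g p.2) = p.2 from hg _]
    · intro p _ q _ e
      exact Prod.ext ((hg p.1).symm.trans ((congrArg π (congrArg Prod.fst e)).trans (hg q.1)))
        ((hg p.2).symm.trans ((congrArg π (congrArg Prod.snd e)).trans (hg q.2)))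
  · have hle : Db p.1 ⊔ Db p.2 ≤ D := (Finset.le_sup (f := fun p : _ × _ => Db p.1 ⊔ Db p.2) hp).trans
      ((Finset.le_sup (f := fun l => (S l).sup fun p => Db p.1 ⊔ Db p.2) (Finset.mem_univ l)).trans le_sup_right)
    exact ⟨box_mono (Nat.mul_le_mul_right L (le_sup_left.trans hle)) (hDb p.1 A r L f hf),
      box_mono (Nat.mul_le_mul_right L (le_sup_right.trans hle)) (hDb p.2 A r L f hf)⟩

set_option maxHeartbeats 2000000 in
/-- Torsion points of large order reducing to those of a split torus of the fibre come from a split torus. -/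
theorem exists_torus_nhd [IsNoetherianRing R] [Module.Flat R H] [Algebra.FiniteType R H] (ψ : H →ₐ[R] Lau k r)
    (hψ : Algebra.adjoin k (Set.range ψ) = ⊤) :
    ∃ n₀ : ℕ, ∀ (n : ℕ) [NeZero n], n₀ ≤ n → ∀ (A : Type u) [CommRing A] [Algebra R A] (ζ : GoodRoot A n)
      (ρ : Multiplicative (Fin r → ZMod n) →* WithConv (H →ₐ[R] A)) (τ : A →ₐ[R] k),
      (∀ t h, τ (pt ρ t h) = (ζ.map τ.toRingHom).ev t (ψ h)) →
      ∃ f : A, τ f ≠ 0 ∧ ∃ φ : Localization.Away f ⊗[R] H →ₐc[Localization.Away f] Lau (Localization.Away f) r,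
        Function.Surjective φ := by
  classical
  obtain ⟨P, N, a, F, L, D, ha, hπ, hF, hψL, hcoact, hFD, hSD⟩ := exists_data (R := R) ψ
  refine ⟨2 * (D * L + L) + 1, fun n _ hn A _ _ ζ ρ τ hk => ?_⟩
  have hL : 2 * L < n := by omega
  have hDL : 2 * (D * L) < n := by omega
  have hDL' : 2 * (D * L + L) < n := by omega
  obtain ⟨f₀, hf₀, hbound⟩ := exists_bound P ζ ρ ψ τ hk (Set.finite_range a) ha hcoact
  let ζk := ζ.map τ.toRingHom
  -- the weights of the generators
  let W : Finset (Fin N × Ex r) := (Finset.univ ×ˢ boxSet r L).filter fun q => ζk.cf q.2 (ψ (a q.1 : H)) ≠ 0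
  let c : Fin N × Ex r → A := fun q => P.val A (proj P ζ ρ q.2 (1 ⊗ₜ a q.1))
  have hc : ∀ q, τ (c q) = ζk.cf q.2 (ψ (a q.1 : H)) := fun q => by
    simp [c, val_proj, GoodRoot.cf, hk, GoodRoot.map_cst, GoodRoot.map_chi, Finset.mul_sum, ζk]
  let f := f₀ * ∏ q ∈ W, c q
  refine ⟨f, ?_, ?_⟩
  · rw [map_mul, map_prod]
    refine mul_ne_zero hf₀ (Finset.prod_ne_zero_iff.mpr fun q hq => ?_)
    rw [hc]
    exact (Finset.mem_filter.mp hq).2
  let A' := Localization.Away f
  let loc : A →ₐ[R] A' := IsScalarTower.toAlgHom R A A'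
  let ζ' := ζ.map (algebraMap A A')
  let ρ' : Multiplicative (Fin r → ZMod n) →* WithConv (H →ₐ[R] A') := (compPt loc).comp ρ
  have hρ' : ∀ t h, pt ρ' t h = algebraMap A A' (pt ρ t h) := fun _ _ => rfl
  have hfu : IsUnit (algebraMap A A' f) := IsLocalization.Away.algebraMap_isUnit f
  have hf₀u : IsUnit (algebraMap A A' f₀) := isUnit_of_dvd_unit (map_dvd _ (Dvd.intro _ rfl)) hfu
  -- the values of the generators
  choose g hg hgev using fun l => hbound (a l)
  let φgen : Fin N → Lau A' r := fun l => (↑hf₀u.unit⁻¹ : A') • lauMap (g l)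
  have hgen : ∀ l, φgen l ∈ Box A' r L := fun l => Submodule.smul_mem _ _ (lauMap_mem_box (hg l))
  let π : MvPolynomial (Fin N) R →ₐ[R] H := MvPolynomial.aeval fun l => (a l : H)
  let Φ : MvPolynomial (Fin N) R →ₐ[R] Lau A' r := MvPolynomial.aeval φgen
  have hevgen : ∀ t l, ζ'.ev t (φgen l) = pt ρ' t (a l : H) := fun t l => by
    rw [map_smul, ev_lauMap, hgev, hρ', map_mul, smul_eq_mul, ← mul_assoc, IsUnit.val_inv_mul hf₀u, one_mul]
  have hevΦ : ∀ t Q, ζ'.ev t (Φ Q) = pt ρ' t (π Q) := fun t Q => by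
    refine AlgHom.congr_fun (MvPolynomial.algHom_ext (f := ((ζ'.ev t).restrictScalars R).comp Φ)
      (g := (pt ρ' t).comp π) fun l => ?_) Q
    simp [Φ, π, hevgen]
  have hker : RingHom.ker π ≤ RingHom.ker Φ := by
    rw [← hF]
    refine Ideal.span_le.mpr fun Q hQ => ?_
    refine RingHom.mem_ker.mpr (ζ'.ext_box hDL (hFD Q hQ A' φgen hgen) (zero_mem _) fun t => ?_)
    have hπQ : π Q = 0 := RingHom.mem_ker.mp (hF ▸ Ideal.subset_span hQ)
    rw [map_zero, show MvPolynomial.aeval φgen Q = Φ Q from rfl, hevΦ, hπQ, map_zero]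
  let φ : H →ₐ[R] Lau A' r := (Ideal.Quotient.liftₐ (RingHom.ker π) Φ fun Q hQ => RingHom.mem_ker.mp (hker hQ)).comp
    (Ideal.quotientKerAlgEquivOfSurjective hπ).symm.toAlgHom
  have hφ : ∀ Q, φ (π Q) = Φ Q := fun Q => by
    simp only [φ, AlgHom.comp_apply]
    exact (congrArg _ ((AlgEquiv.symm_apply_eq _).mpr rfl :
      (Ideal.quotientKerAlgEquivOfSurjective hπ).symm (π Q) = Ideal.Quotient.mk _ Q)).trans rfl
  have hφa : ∀ l, φ (a l : H) = φgen l := fun l => by
    have e := hφ (MvPolynomial.X l)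
    simpa [π, Φ] using e
  have hev : ∀ t h, ζ'.ev t (φ h) = pt ρ' t h := fun t h => by
    obtain ⟨Q, rfl⟩ := hπ h
    rw [hφ, hevΦ]
  have hφE : ∀ e : P.E, φ (e : H) ∈ Box A' r L := fun e => by
    refine Submodule.span_induction (p := fun e _ => φ ((e : P.E) : H) ∈ Box A' r L) ?_ ?_ ?_ ?_
      (ha ▸ Submodule.mem_top : e ∈ Submodule.span R (Set.range a))
    · rintro _ ⟨l, rfl⟩
      rw [hφa]
      exact hgen l
    · rw [Submodule.coe_zero, map_zero]; exact zero_mem _
    · intro x y _ _ hx hy
      rw [Submodule.coe_add, map_add]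
      exact add_mem hx hy
    · intro s x _ hx
      rw [Submodule.coe_smul, map_smul]
      exact Submodule.smul_of_tower_mem _ s hx
  -- compatibility with the group laws
  have hcounit : ∀ x : Lau A' r, counit (R := A') x = ζ'.ev 0 x := fun x => by
    induction x using MonoidAlgebra.induction_linear with
    | zero => simp
    | add a b ha hb => simp only [map_add, ha, hb]
    | single m s => simp [GoodRoot.ev_single, GoodRoot.chi_zero]
  have hcomul : ∀ (t t' : Fin r → ZMod n) (x : Lau A' r),
      TensorProduct.lid A' A' (TensorProduct.map (ζ'.ev t).toLinearMap (ζ'.ev t').toLinearMap (comul (R := A') x)) =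
        ζ'.ev (t + t') x := fun t t' x => by
    induction x using MonoidAlgebra.induction_linear with
    | zero => simp
    | add a b ha hb => simp only [map_add, ha, hb]
    | single m s =>
      simp [GoodRoot.ev_single, GoodRoot.chi_add, mul_left_comm, mul_comm]
  have hC : (Bialgebra.counitAlgHom A' (Lau A' r)).comp (scal φ) = Bialgebra.counitAlgHom A' (A' ⊗[R] H) := by
    refine Algebra.TensorProduct.ext' fun s h => ?_
    show counit (R := A') (scal φ (s ⊗ₜ h)) = counit (R := A') (s ⊗ₜ[R] h)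
    rw [show s ⊗ₜ[R] h = s • ((1 : A') ⊗ₜ[R] h) by rw [TensorProduct.smul_tmul', smul_eq_mul, mul_one],
      map_smul, map_smul, map_smul, scal_one_tmul, hcounit, hev, TensorProduct.counit_tmul]
    congr 1
    rw [pt, ofAdd_zero, map_one]
    simp [AlgHom.convOne_apply, Algebra.algebraMap_eq_smul_one]
  have hM : (Algebra.TensorProduct.map (scal φ) (scal φ)).comp (Bialgebra.comulAlgHom A' (A' ⊗[R] H)) =
      (Bialgebra.comulAlgHom A' (Lau A' r)).comp (scal φ) := by
    let inc : MvPolynomial (Fin N) R →ₐ[R] A' ⊗[R] H := Algebra.TensorProduct.includeRight.comp π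
    have key : ((((Algebra.TensorProduct.map (scal φ) (scal φ)).comp (Bialgebra.comulAlgHom A' (A' ⊗[R] H))).restrictScalars R).comp inc) =
        ((((Bialgebra.comulAlgHom A' (Lau A' r)).comp (scal φ)).restrictScalars R).comp inc) := by
      refine MvPolynomial.algHom_ext fun l => ?_
      show Algebra.TensorProduct.map (scal φ) (scal φ) (comul (R := A') ((1 : A') ⊗ₜ[R] π (MvPolynomial.X l))) =
        comul (R := A') (scal φ ((1 : A') ⊗ₜ[R] π (MvPolynomial.X l)))
      rw [show π (MvPolynomial.X l) = (a l : H) by simp [π], scal_one_tmul, hφa]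
      obtain ⟨S, hS, hSb⟩ := hSD l
      have hlhs : Algebra.TensorProduct.map (scal φ) (scal φ) (comul (R := A') ((1 : A') ⊗ₜ[R] (a l : H))) =
          ∑ p ∈ S, Φ p.1 ⊗ₜ[A'] Φ p.2 := by
        rw [TensorProduct.comul_tmul, CommSemiring.comul_apply, hS, tmul_sum, map_sum, map_sum]
        refine Finset.sum_congr rfl fun p _ => ?_
        rw [TensorProduct.AlgebraTensorModule.tensorTensorTensorComm_tmul, Algebra.TensorProduct.map_tmul,
          scal_one_tmul, scal_one_tmul]
        exact congrArg₂ (· ⊗ₜ[A'] ·) (hφ p.1) (hφ p.2)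
      rw [hlhs]
      refine ζ'.ext_box2 hDL' ?_ (comul_mem_box2 (box_mono (Nat.le_add_left _ _) (hgen l))) fun t t' => ?_
      · exact sum_mem fun p hp => Submodule.subset_span
          ⟨_, box_mono (Nat.le_add_right _ _) (hSb p hp A' φgen hgen).1, _,
            box_mono (Nat.le_add_right _ _) (hSb p hp A' φgen hgen).2, rfl⟩
      rw [hcomul, hevgen, pt, ofAdd_add, map_mul]
      show _ = (ρ' (Multiplicative.ofAdd t) * ρ' (Multiplicative.ofAdd t')) (a l : H)
      rw [AlgHom.convMul_apply, hS]
      simp only [map_sum]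
      refine Finset.sum_congr rfl fun p _ => ?_
      simp only [TensorProduct.map_tmul, AlgHom.toLinearMap_apply, TensorProduct.lid_tmul, smul_eq_mul, hevΦ,
        Algebra.TensorProduct.map_tmul, Algebra.TensorProduct.lmul'_apply_tmul]
      rfl
    refine Algebra.TensorProduct.ext' fun s h => ?_
    obtain ⟨Q, rfl⟩ := hπ h
    rw [show s ⊗ₜ[R] π Q = s • ((1 : A') ⊗ₜ[R] π Q) by rw [TensorProduct.smul_tmul', smul_eq_mul, mul_one],
      map_smul, map_smul]
    exact congrArg (s • ·) (AlgHom.congr_fun key Q)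
  refine ⟨BialgHom.ofAlgHom (scal φ) hC hM, fun x => ?_⟩
  -- surjectivity
  suffices htop : (scal φ).range = ⊤ from (AlgHom.range_eq_top _).mp htop x
  let M₁ : Submonoid (Ex r) :=
    { carrier := {m | MonoidAlgebra.single m (1 : A') ∈ (scal φ).range}
      one_mem' := by
        show MonoidAlgebra.single (1 : Ex r) (1 : A') ∈ (scal φ).range
        rw [← MonoidAlgebra.one_def]
        exact one_mem _
      mul_mem' := fun {m m'} hm hm' => by
        show MonoidAlgebra.single (m * m') (1 : A') ∈ (scal φ).range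
        rw [← one_mul (1 : A'), ← MonoidAlgebra.single_mul_single]
        exact mul_mem hm hm' }
  have hW : ∀ q ∈ W, q.2 ∈ M₁ := fun q hq => by
    refine single_mem_range P ζ' ρ' φ hL hφE hev (Finset.mem_product.mp (Finset.mem_filter.mp hq).1).2 (a q.1) ?_
    have e : P.val A' (proj P ζ' ρ' q.2 (1 ⊗ₜ a q.1)) = algebraMap A A' (c q) := by
      simp [c, val_proj, hρ', ζ', GoodRoot.map_cst, GoodRoot.map_chi]
    rw [e]
    exact isUnit_of_dvd_unit (map_dvd _ ((Finset.dvd_prod_of_mem _ hq).trans (dvd_mul_left _ _))) hfu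
  let V : Submodule k (Lau k r) := Submodule.span k ((fun m => MonoidAlgebra.single m (1 : k)) '' (M₁ : Set (Ex r)))
  let Vs : Subalgebra k (Lau k r) := V.toSubalgebra
    (by rw [MonoidAlgebra.one_def]; exact Submodule.subset_span ⟨1, one_mem _, rfl⟩)
    (fun x y hx hy => by
      refine (Submodule.mul_le.mpr ?_ : V * V ≤ V) (Submodule.mul_mem_mul hx hy)
      intro x hx y hy
      induction hx using Submodule.span_induction with
      | mem x h =>
        obtain ⟨u, hu, rfl⟩ := h
        induction hy using Submodule.span_induction with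
        | mem y h' =>
          obtain ⟨v, hv, rfl⟩ := h'
          rw [MonoidAlgebra.single_mul_single, one_mul]
          exact Submodule.subset_span ⟨u * v, mul_mem hu hv, rfl⟩
        | zero => rw [mul_zero]; exact zero_mem _
        | add y y' _ _ h1 h2 => rw [mul_add]; exact add_mem h1 h2
        | smul d y _ h1 => rw [mul_smul_comm]; exact Submodule.smul_mem _ _ h1
      | zero => rw [zero_mul]; exact zero_mem _
      | add x x' _ _ h1 h2 => rw [add_mul]; exact add_mem h1 h2
      | smul d x _ h1 => rw [smul_mul_assoc]; exact Submodule.smul_mem _ _ h1)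
  have hVs : ⊤ ≤ Vs := by
    rw [← hψ]
    refine Algebra.adjoin_le ?_
    rintro _ ⟨h, rfl⟩
    obtain ⟨Q, rfl⟩ := hπ h
    induction Q using MvPolynomial.induction_on with
    | C s =>
      rw [MvPolynomial.algHom_C, ψ.commutes, IsScalarTower.algebraMap_apply R k (Lau k r)]
      exact Vs.algebraMap_mem _
    | add p q hp hq => rw [map_add, map_add]; exact add_mem hp hq
    | mul_X p l hp =>
      rw [map_mul, map_mul, MvPolynomial.aeval_X]
      refine mul_mem hp ?_
      show ψ (a l : H) ∈ V
      rw [ζk.expand hL (hψL l)]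
      refine sum_mem fun m hm => ?_
      by_cases h0 : ζk.cf m (ψ (a l : H)) = 0
      · rw [h0, zero_smul]; exact zero_mem _
      · exact Submodule.smul_mem _ _ (Submodule.subset_span
          ⟨m, hW (l, m) (Finset.mem_filter.mpr ⟨Finset.mem_product.mpr ⟨Finset.mem_univ l, hm⟩, h0⟩), rfl⟩)
  have hall : ∀ m, m ∈ M₁ := fun m => by
    by_contra hm
    have hv : MonoidAlgebra.single m (1 : k) ∈ V := hVs trivial
    have hzero : ∀ z ∈ V, z.coeff m = 0 := fun z hz => by
      induction hz using Submodule.span_induction with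
      | mem y hy =>
        obtain ⟨v, hv, rfl⟩ := hy
        rw [MonoidAlgebra.coeff_single, Finsupp.single_apply, if_neg fun e : v = m => hm (e ▸ hv)]
      | zero => simp
      | add u v _ _ hu hv => rw [MonoidAlgebra.coeff_add, Finsupp.add_apply, hu, hv, add_zero]
      | smul s u _ hu => rw [MonoidAlgebra.coeff_smul, Finsupp.smul_apply, hu, smul_zero]
    have h1 := hzero _ hv
    rw [MonoidAlgebra.coeff_single, Finsupp.single_eq_same] at h1
    exact one_ne_zero h1
  refine top_le_iff.mp fun z _ => ?_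
  induction z using MonoidAlgebra.induction_linear with
  | zero => exact zero_mem _
  | add u v hu hv => exact add_mem (hu trivial) (hv trivial)
  | single m s =>
    rw [show MonoidAlgebra.single m s = s • MonoidAlgebra.single m (1 : A') by simp]
    exact Subalgebra.smul_mem _ (hall m) s

end Groth.Agent.RankLib
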