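import Groth.Agent.RankLib.CentralizerFamily
import Groth.Agent.RankLib.Consequences
import Groth.Agent.GModLib.RedRankOpen

/-!
# The nilpotent rank is upper semicontinuous

The centralizer of a maximal torus of a geometric fibre spreads out as the centralizer of torsion sections. Near the
given point these lie in a maximal torus of the fibre, whose centralizer is therefore contained in the family.
-/

set_option autoImplicit false
set_option backward.isDefEq.respectTransparency false
set_option backward.isDefEq.respectTransparency.types false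

universe u

open CategoryTheory Limits AlgebraicGeometry MonoidalCategory CartesianMonoidalCategory MonObj GrpObj

namespace Groth.Agent.RankLib

open GrpSchLib GModLib

variable {S : Scheme.{u}}

/-- The dimension of the fibre at a point with values in a field. -/
theorem topologicalKrullDim_bc_point (X : Over S) [QuasiCompact X.hom] [LocallyOfFiniteType X.hom] {K : Type u}
    [Field K] (σ : Spec (CommRingCat.of K) ⟶ S) :
    topologicalKrullDim ↥(Red.bc σ X).left =
      topologicalKrullDim ↥(X.hom.base ⁻¹' {σ (IsLocalRing.closedPoint K)}) := by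
  let f' := pullback.snd X.hom σ
  let y' : ↥(Spec (CommRingCat.of K)) := IsLocalRing.closedPoint _
  have h := Groth.Agent.S9777.result X.hom σ f' (pullback.fst X.hom σ) (IsPullback.of_hasPullback X.hom σ) y'
  rw [(f'.fiberHomeo y').isHomeomorph.topologicalKrullDim_eq,
    (X.hom.fiberHomeo (σ y')).isHomeomorph.topologicalKrullDim_eq] at h
  have h1 : f' ⁻¹' {y'} = Set.univ :=
    Set.eq_univ_of_forall fun _ => Subsingleton.elim (α := PrimeSpectrum K) _ _
  rw [((Homeomorph.setCongr h1).trans (Homeomorph.Set.univ _)).isHomeomorph.topologicalKrullDim_eq] at h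
  exact h

/-- Inner automorphisms commute with homomorphisms. -/
theorem inner_comp {K : Type u} [Field K] {A B : Over (Spec (CommRingCat.of K))} [GrpObj A] [GrpObj B] (f : A ⟶ B)
    [IsMonHom f] (x : 𝟙_ (Over (Spec (CommRingCat.of K))) ⟶ A) :
    GModLib.inner x ≫ f = f ≫ GModLib.inner (x ≫ f) := by
  rw [comp_inner, ← Category.id_comp (GModLib.inner x), comp_inner, MonObj.mul_comp, MonObj.mul_comp,
    GrpObj.inv_comp, Category.assoc, Category.id_comp]

set_option maxHeartbeats 2000000 in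
/-- The set where some Cartan subgroup of the geometric fibre has dimension at most `n` is open. -/
theorem isOpen_nilRank_le (G : Over S) [GrpObj G] [IsAffineHom G.hom] [Smooth G.hom] (n : ℕ) :
    IsOpen {s : S | ∃ (C' : Over (Spec (CommRingCat.of (AlgebraicClosure (S.residueField s))))) (_ : GrpObj C')
      (c' : C' ⟶ Red.geomFibre s G),
      SGA3x.IsCartanOver (AlgebraicClosure (S.residueField s)) c' ∧ topologicalKrullDim ↥C'.left ≤ (n : WithBot ℕ∞)} := by
  rw [isOpen_iff_forall_mem_open]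
  rintro s ⟨C', _, c', ⟨-, -, T, _, i, hi, hcent⟩, hdim⟩
  haveI := hi.1; haveI := hi.2.1
  let k := AlgebraicClosure (S.residueField s)
  obtain ⟨Y, π, σ, hσ, C, _, c, hπ, hCs, hcm, hcc, hC, L, hL, hLc⟩ :=
    exists_family_sections G (Red.geomPt s) i hi.2.2.1
  haveI := hπ; haveI := hCs; haveI := hcm; haveI := hcc
  haveI : Mono c := Over.mono_of_mono_left c
  let GY := Red.bc π G
  haveI : Smooth GY.hom := inferInstanceAs (Smooth (pullback.snd G.hom π))
  haveI : IsAffineHom GY.hom := MorphismProperty.pullback_snd G.hom π ‹IsAffineHom G.hom›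
  haveI : IsAffineHom C.hom := by rw [← Over.w c]; infer_instance
  -- the dimension of the family
  obtain ⟨e, -⟩ := exists_iso_of_isCentralizerOf hC hcent
  haveI : IsIso e.hom.left := inferInstanceAs (IsIso ((Over.forget _).map e.hom))
  let σ₀ : Y := σ (IsLocalRing.closedPoint k)
  have hd₀ : topologicalKrullDim ↥(C.hom.base ⁻¹' {σ₀}) ≤ (n : WithBot ℕ∞) := by
    rw [← topologicalKrullDim_bc_point C σ, e.hom.left.homeomorph.isHomeomorph.topologicalKrullDim_eq]
    exact hdim
  have hd := Groth.Agent.S3022.result Y C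
  -- the sections lie in the neutral component near the given point
  obtain ⟨C0, _, io, hio, hC0s, hC0q, hC0sep, hC0c⟩ := exists_neutral C
  haveI := hio.isMonHom; haveI := hio.openImm; haveI := hC0s; haveI := hC0q
  haveI : Mono io := Over.mono_of_mono_left io
  haveI : IsMonHom (fibreHom hσ c) := hC.1
  haveI : Mono (fibreHom hσ c) := hC.2.1
  obtain ⟨i', hi'⟩ := (hC.2.2 T i).mpr fun X' x h => by
    rw [← MonObj.mul_comp, ← MonObj.mul_comp, TorusBilin.comm_of_isTorus hi.2.2.1]
  haveI : IsMonHom (i' ≫ fibreHom hσ c) := hi'.symm ▸ hi.1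
  haveI : IsMonHom i' := isMonHom_of_comp i' (fibreHom hσ c)
  haveI : LocallyOfFinitePresentation (Red.bc σ C).hom :=
    inferInstanceAs (LocallyOfFinitePresentation (pullback.snd C.hom σ))
  haveI := MultConjLib.smooth_of_isTorus hi.2.2.1
  obtain ⟨i₀, -, hi₀⟩ := (hio.bc σ).exists_factor (MultConjLib.neutralSet_eq_univ_of_isTorus hi.2.2.1) i'
  have hV : ∀ p : {p // p ∈ L}, ∃ V : Y.Opens, σ₀ ∈ V ∧ IsUnit (p.1.1 : Γ((V : Scheme.{u}), ⊤)) := fun p => by
    obtain ⟨V, hσV, hu⟩ := exists_open_isUnit σ p.1.1 (hL p.1 p.2).1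
    exact ⟨V, hσV ⟨_, rfl⟩, hu⟩
  choose V hσV hVu using hV
  haveI : Finite {p // p ∈ L} := L.finite_toSet.to_subtype
  let W : Set Y := {y | topologicalKrullDim ↥(C.hom.base ⁻¹' {y}) = topologicalKrullDim ↥(C.hom.base ⁻¹' {σ₀})} ∩
    ⋂ p : {p // p ∈ L}, (p.1.2.left.base ⁻¹' Set.range io.left ∩ (V p : Set Y))
  have hWo : IsOpen W := (hd.isOpen_fiber _).inter (isOpen_iInter_of_finite fun p =>
    (io.left.isOpenEmbedding.isOpen_range.preimage p.1.2.left.continuous).inter (V p).isOpen)
  have hσW : σ₀ ∈ W := by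
    refine ⟨rfl, Set.mem_iInter.mpr fun p => ⟨?_, hσV p⟩⟩
    obtain ⟨-, -, -, t, ht⟩ := hL p.1 p.2
    have h1 : σ ≫ p.1.2.left = ((t ≫ i₀).left ≫ pullback.fst C0.hom σ) ≫ io.left := by
      rw [← cancel_mono c.left]
      refine pullback.hom_ext ?_ ?_
      · simp only [Category.assoc]
        rw [← ht, ← hi', ← hi₀]
        simp only [Over.comp_left, Category.assoc, fibreHom_left_fst]
        congr 2
        show pullback.lift _ _ _ ≫ _ = _
        rw [pullback.lift_fst_assoc, Category.assoc]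
      · have hc' : c.left ≫ pullback.snd G.hom π = C.hom := Over.w c
        simp only [Category.assoc]
        rw [hc', Over.w io, Over.w p.1.2, pullback.condition]
        have hs : (t ≫ i₀).left ≫ pullback.snd C0.hom σ = (VecGrp.pt k k).hom := Over.w (t ≫ i₀)
        rw [reassoc_of% hs, show (VecGrp.pt k k).hom = 𝟙 _ from Spec.map_id _, Category.id_comp]
        exact Category.comp_id _
    have h2 : (σ ≫ p.1.2.left) (IsLocalRing.closedPoint k) ∈ Set.range io.left := by
      rw [h1, Scheme.Hom.comp_apply]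
      exact ⟨_, rfl⟩
    exact h2
  refine ⟨π.base '' W, ?_, π.isOpenMap _ hWo, ⟨σ₀, hσW, ?_⟩⟩
  swap
  · show π (σ (IsLocalRing.closedPoint k)) = s
    rw [← Scheme.Hom.comp_apply, hσ]
    exact Scheme.fromSpecResidueField_apply s _
  rintro _ ⟨y, ⟨hyd, hy⟩, rfl⟩
  let K := AlgebraicClosure (Y.residueField y)
  let yb := Red.geomPt y
  have hyb : yb (IsLocalRing.closedPoint K) = y := Scheme.fromSpecResidueField_apply y _
  let Gy := Red.bc yb GY
  haveI : Smooth Gy.hom := inferInstanceAs (Smooth (pullback.snd GY.hom yb))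
  haveI : IsAffineHom Gy.hom := MorphismProperty.pullback_snd GY.hom yb ‹IsAffineHom GY.hom›
  let H := Red.bc yb C0
  haveI : Smooth H.hom := inferInstanceAs (Smooth (pullback.snd C0.hom yb))
  haveI : ConnectedSpace H.left := connectedSpace_point hC0c yb
  let ioy := (Over.pullback yb).map io
  have hioy : IsNeutral ioy := hio.bc yb
  haveI := hioy.isMonHom
  haveI hioc : IsClosedImmersion ioy.left := hioy.isClosedImmersion_field
  haveI : Mono ioy := Over.mono_of_mono_left _
  haveI : IsAffineHom (Red.bc yb C).hom := MorphismProperty.pullback_snd C.hom yb ‹IsAffineHom C.hom›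
  haveI : IsAffine (Red.bc yb C).left := isAffine_of_isAffineHom (Red.bc yb C).hom
  haveI : IsAffine H.left := isAffine_of_isAffineHom ioy.left
  let cy := (Over.pullback yb).map c
  haveI : IsMonHom cy := inferInstanceAs (IsMonHom ((Over.pullback yb).map c))
  haveI : IsClosedImmersion cy.left := MorphismProperty.baseChange_map (P := @IsClosedImmersion) yb c ‹_›
  haveI : Mono cy := Over.mono_of_mono_left _
  obtain ⟨TH, _, iH, hTH⟩ := exists_maxTorus H
  haveI := hTH.1; haveI := hTH.2.1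
  -- the sections in the maximal torus
  have hz : ∀ p : {p // p ∈ L}, ∃ t : VecGrp.pt K K ⟶ TH,
      toPt (𝟙_ (Over (Spec (CommRingCat.of K)))) ≫ t ≫ iH ≫ ioy = secBC yb p.1.2 := by
    intro p
    obtain ⟨-, hgn, hgc, -⟩ := hL p.1 p.2
    obtain ⟨hyr, hyV⟩ := Set.mem_iInter.mp hy p
    obtain ⟨lz, hlz⟩ : ∃ lz, lz ≫ io.left = yb ≫ p.1.2.left := ⟨IsOpenImmersion.lift io.left _ (by
      rintro _ ⟨w, rfl⟩
      rw [Scheme.Hom.comp_apply, @Subsingleton.elim (PrimeSpectrum K) _ w (IsLocalRing.closedPoint K), hyb]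
      exact hyr), IsOpenImmersion.lift_fac _ _ _⟩
    let z₀ : 𝟙_ (Over (Spec (CommRingCat.of K))) ⟶ H := Over.homMk (pullback.lift lz (𝟙 _) (by
      rw [← Over.w io, reassoc_of% hlz, Over.w p.1.2]
      exact (Category.comp_id yb).trans (Category.id_comp yb).symm)) (pullback.lift_snd _ _ _)
    have hz₀ : z₀ ≫ ioy = secBC yb p.1.2 := by
      refine bc_hom_ext ?_
      show (pullback.lift lz _ _ ≫ pullback.lift _ _ _) ≫ _ = pullback.lift _ _ _ ≫ _
      rw [Category.assoc, pullback.lift_fst, pullback.lift_fst_assoc, hlz, pullback.lift_fst]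
    let z : VecGrp.pt K K ⟶ H := toUnit _ ≫ z₀
    have hne : (p.1.1 : K) ≠ 0 := fun h0 => by
      have h1 := isUnit_natCast_of_hom (IsOpenImmersion.lift (V p).ι yb (by
        rintro _ ⟨w, rfl⟩
        rw [Scheme.Opens.range_ι, @Subsingleton.elim (PrimeSpectrum K) _ w (IsLocalRing.closedPoint K), hyb]
        exact hyV)) (hVu p)
      exact not_isUnit_zero (h0 ▸ h1)
    obtain ⟨t, ht⟩ := central_point_mem iH hTH z hne (by
      show (toUnit _ ≫ z₀) ^ p.1.1 = 1
      rw [← cancel_mono ioy, MonObj.pow_comp, Category.assoc, hz₀, MonObj.one_comp]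
      refine (DSPtsLib.theta_bijective (H := C) yb).1 ?_
      show thetaHom yb _ ((toUnit _ ≫ secBC yb p.1.2) ^ p.1.1) = thetaHom yb _ 1
      rw [_root_.map_pow, _root_.map_one]
      show (DSPtsLib.theta yb (toUnit _ ≫ secBC yb p.1.2)) ^ p.1.1 = 1
      rw [theta_secBC, ← MonObj.comp_pow, hgn, MonObj.comp_one]) (fun X g => by
      show (toPt X ≫ toUnit _ ≫ z₀) * g = g * (toPt X ≫ toUnit _ ≫ z₀)
      rw [comp_toUnit_assoc, ← cancel_mono ioy, MonObj.mul_comp, MonObj.mul_comp, Category.assoc, hz₀]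
      exact ((theta_commute yb p.1.2 (g ≫ ioy)).mpr (hgc _ _)).symm)
    refine ⟨t, ?_⟩
    rw [reassoc_of% ht, ← hz₀]
    show toPt _ ≫ (toUnit _ ≫ z₀) ≫ ioy = _
    rw [Category.assoc, comp_toUnit_assoc, toUnit_unique (toUnit _) (𝟙 _), Category.id_comp]
  -- a maximal torus of the fibre through them
  obtain ⟨G0, _, ig, hig, hG0s, hG0q, -, hG0c⟩ := exists_neutral Gy
  haveI := hG0s; haveI := hG0q; haveI := hig.isMonHom
  haveI : ConnectedSpace G0.left := connectedSpace_iff_univ.mpr (by
    have h := hG0c (IsLocalRing.closedPoint K)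
    rwa [show G0.hom.base ⁻¹' {IsLocalRing.closedPoint K} = Set.univ from
      Set.eq_univ_of_forall fun z => @Subsingleton.elim (PrimeSpectrum K) _ _ _] at h)
  let j : TH ⟶ Gy := iH ≫ ioy ≫ cy
  haveI : IsMonHom j := inferInstanceAs (IsMonHom (_ ≫ _ ≫ _))
  haveI : Mono j := mono_comp _ _
  haveI : LocallyOfFinitePresentation Gy.hom := inferInstance
  haveI := MultConjLib.smooth_of_isTorus hTH.2.2.1
  obtain ⟨j₀, hj₀m, hj₀⟩ := hig.exists_factor (MultConjLib.neutralSet_eq_univ_of_isTorus hTH.2.2.1) j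
  haveI := hj₀m
  haveI : Mono (j₀ ≫ ig) := hj₀.symm ▸ ‹Mono j›
  haveI : Mono j₀ := mono_of_mono j₀ ig
  obtain ⟨M, _, iM, hM, hall⟩ := exists_maxTorus_all G0
  obtain ⟨x, f, hf⟩ := hall TH j₀ hTH.2.2.1
  haveI : IsMonHom (asIso (GModLib.inner (x ≫ ig)⁻¹)).hom := inferInstanceAs (IsMonHom (GModLib.inner (x ≫ ig)⁻¹))
  let iM' : M ⟶ Gy := (iM ≫ ig) ≫ (asIso (GModLib.inner (x ≫ ig)⁻¹)).hom
  have hiM' : Red.IsMaximalTorus iM' :=
    isMaximalTorus_of_iso _ _ (hig.isMaximalTorus_up iM (isMaximalTorus_of_isMaxTorus hM))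
  have hfj : f ≫ iM' = j := by
    show f ≫ (iM ≫ ig) ≫ GModLib.inner (x ≫ ig)⁻¹ = j
    rw [Category.assoc, reassoc_of% hf, ← hj₀, reassoc_of% (inner_comp ig x), inner_inner, inv_mul_cancel,
      inner_one, Category.comp_id]
  obtain ⟨C'', _, c'', hc'', hc''c, hc''C, -⟩ := exists_centralizer_maxTorus iM' hiM'
  haveI := hc''.2.1; haveI := hc''c
  obtain ⟨l, hl⟩ := (BC.exists_factor_iff (j := c) yb c'').mpr (hLc _ _ fun p hp => by
    obtain ⟨t, ht⟩ := hz ⟨p, hp⟩
    refine (theta_commute yb (p.2 ≫ c) c'').mp ?_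
    rw [← secBC_map, ← ht]
    have h := (hc''.2.2 C'' c'').mp ⟨𝟙 C'', Category.id_comp _⟩ C'' (𝟙 C'')
      (toUnit C'' ≫ toPt _ ≫ t ≫ f)
    rw [Category.id_comp] at h
    simp only [Category.assoc, hfj] at h ⊢
    exact h)
  haveI : IsClosedImmersion (l.left ≫ cy.left) := by rw [← Over.comp_left, hl]; exact hc''c
  haveI : IsClosedImmersion l.left := IsClosedImmersion.of_comp l.left cy.left
  have hdim'' : topologicalKrullDim ↥C''.left ≤ (n : WithBot ℕ∞) := by
    refine (l.left.isClosedEmbedding.isInducing.topologicalKrullDim_le).trans ?_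
    rw [topologicalKrullDim_bc_point C yb, hyb, hyd]
    exact hd₀
  -- over the algebraic closure of the residue field below
  let Gt := Red.geomFibre (π y) G
  haveI : Smooth Gt.hom := inferInstanceAs (Smooth (pullback.snd G.hom _))
  haveI : QuasiCompact Gt.hom := inferInstanceAs (QuasiCompact (pullback.snd G.hom _))
  haveI : IsSeparated Gt.hom := inferInstanceAs (IsSeparated (pullback.snd G.hom _))
  obtain ⟨Tt, _, it, _, hit, -, -⟩ := exists_rank_bound Gt
  haveI := hit.1
  obtain ⟨Ct, _, ct, hct, hctc, hctC, -⟩ := exists_centralizer_maxTorus it hit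
  haveI := hctc
  haveI : QuasiCompact Ct.hom := by rw [← Over.w ct]; infer_instance
  haveI : Smooth Ct.hom := hctC.2.2.1
  refine ⟨Ct, inferInstance, ct, ⟨hct.1, hct.2.1, Tt, inferInstance, it, hit, hct⟩, ?_⟩
  obtain ⟨ρ, hρ⟩ := exists_geomPt_lift π y
  haveI : Smooth (Red.bc ρ Gt).hom := inferInstanceAs (Smooth (pullback.snd Gt.hom ρ))
  haveI : QuasiCompact (Red.bc ρ Gt).hom := inferInstanceAs (QuasiCompact (pullback.snd Gt.hom ρ))
  let β : Gy ≅ Red.bc ρ Gt := fibreIso (a := yb) rfl G ≪≫ (fibreIso hρ G).symm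
  haveI : IsMonHom β.hom := inferInstanceAs (IsMonHom ((fibreIso _ G).hom ≫ (fibreIso hρ G).inv))
  haveI := hc''.1
  have hc₁ := isCentralizerOf_of_iso (i' := iM' ≫ β.hom) (c' := c'' ≫ β.hom) (Iso.refl _) (Iso.refl _) β
    (by simp) (by simp) hc''
  rw [← topologicalKrullDim_bc Ct ρ, dim_centralizer_eq _ _ (isMaximalTorus_bc it hit ρ)
    (isMaximalTorus_of_iso β iM' hiM') _ _ (BC.isCentralizerOf_bc ρ hct) hc₁]
  exact hdim''

end Groth.Agent.RankLib
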