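import Groth.Agent.RankLib.RedCentreField
import Groth.Agent.GrpSchLib.AdjointCentre
import Groth.Agent.GrpSchLib.HomUnitLocus

/-!
# Groups of multiplicative type in connected nilpotent groups

Every homomorphism from a group of multiplicative type to a connected nilpotent affine algebraic group is central, hence
such a group has a largest subgroup of multiplicative type, namely its reductive centre.
-/

set_option autoImplicit false
set_option backward.isDefEq.respectTransparency false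
set_option backward.isDefEq.respectTransparency.types false

universe u

open CategoryTheory Limits AlgebraicGeometry MonoidalCategory CartesianMonoidalCategory MonObj GrpObj

namespace Groth.Agent.RankLib

open scoped commutatorElement

open GrpSchLib GModLib

/-- A morphism which is multiplicative on points is a homomorphism. -/
theorem isMonHom_of_mul_points {S : Scheme.{u}} {X Y : Over S} [GrpObj X] [GrpObj Y] (v : X ⟶ Y)
    (h : ∀ (T : Over S) (a b : T ⟶ X), (a * b) ≫ v = (a ≫ v) * (b ≫ v)) : IsMonHom v where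
  one_hom := by
    have h1 := h _ (1 : 𝟙_ (Over S) ⟶ X) 1
    rw [_root_.mul_one, left_eq_mul, Hom.one_def, Hom.one_def, toUnit_unique (toUnit _) (𝟙 _), Category.id_comp,
      Category.id_comp] at h1
    exact h1
  mul_hom := by
    have h1 := h _ (fst X X) (snd X X)
    rw [Hom.mul_def, Hom.mul_def, lift_fst_snd, Category.id_comp] at h1
    rw [h1]
    congr 1

theorem map_lowerCentralSeries_top_le {A B : Type*} [Group A] [Group B] (φ : A →* B) :
    ∀ n, ((⊤ : Subgroup A).lowerCentralSeries n).map φ ≤ (⊤ : Subgroup B).lowerCentralSeries n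
  | 0 => le_top
  | n + 1 => by
    rw [Subgroup.lowerCentralSeries_succ, Subgroup.lowerCentralSeries_succ, Subgroup.map_commutator]
    exact Subgroup.commutator_mono (map_lowerCentralSeries_top_le φ n) le_top

variable {S : Scheme.{u}}

/-- Composition with a morphism as a homomorphism of point groups. -/
noncomputable def precompHom {G X X' : Over S} [GrpObj G] (c : X' ⟶ X) : (X ⟶ G) →* (X' ⟶ G) :=
  MonoidHom.mk' (c ≫ ·) fun a b => MonObj.comp_mul c a b

variable {k : Type u} [Field k]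

/-- The point groups of a quotient inherit nilpotency. -/
theorem lowerCentralSeries_quot {G Q : Over (Spec (CommRingCat.of k))} [GrpObj G] [GrpObj Q] (q : G ⟶ Q) [IsMonHom q]
    [Flat q.left] [Surjective q.left] :
    ∀ (n : ℕ) (X : Over (Spec (CommRingCat.of k))) (a : X ⟶ Q), a ∈ (⊤ : Subgroup (X ⟶ Q)).lowerCentralSeries n →
      ∀ (X' : Over (Spec (CommRingCat.of k))) (c : X' ⟶ X), ∃ (X'' : Over (Spec (CommRingCat.of k))) (d : X'' ⟶ X')
        (b : X'' ⟶ G), Epi d ∧ b ∈ (⊤ : Subgroup (X'' ⟶ G)).lowerCentralSeries n ∧ b ≫ q = d ≫ c ≫ a := by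
  intro n
  induction n with
  | zero =>
    intro X a _ X' c
    obtain ⟨X'', d, b, hd, hb⟩ := GrpSchLib.exists_lift_of_flat q X' (c ≫ a)
    exact ⟨X'', d, b, hd, Subgroup.mem_top _, hb⟩
  | succ n ih =>
    intro X a ha
    rw [Subgroup.lowerCentralSeries_succ, Subgroup.commutator_def] at ha
    induction ha using Subgroup.closure_induction with
    | mem a ha =>
      obtain ⟨p, hp, r, -, rfl⟩ := ha
      intro X' c
      obtain ⟨X₁, d₁, b₁, hd₁, hb₁, e₁⟩ := ih X p hp X' c
      obtain ⟨X₂, d₂, b₂, hd₂, e₂⟩ := GrpSchLib.exists_lift_of_flat q X₁ (d₁ ≫ c ≫ r)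
      refine ⟨X₂, d₂ ≫ d₁, ⁅d₂ ≫ b₁, b₂⁆, epi_comp _ _, ?_, ?_⟩
      · exact Subgroup.commutator_mem_commutator
          (map_lowerCentralSeries_top_le (precompHom d₂) n ⟨b₁, hb₁, rfl⟩) (Subgroup.mem_top _)
      · simp only [commutatorElement_def, MonObj.mul_comp, GrpObj.inv_comp, MonObj.comp_mul, GrpObj.comp_inv,
          Category.assoc, e₁, e₂]
    | one =>
      intro X' c
      exact ⟨X', 𝟙 _, 1, inferInstance, one_mem _, by rw [MonObj.one_comp, MonObj.comp_one, MonObj.comp_one]⟩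
    | mul a a' _ _ h h' =>
      intro X' c
      obtain ⟨X₁, d₁, b₁, hd₁, hb₁, e₁⟩ := h X' c
      obtain ⟨X₂, d₂, b₂, hd₂, hb₂, e₂⟩ := h' X₁ (d₁ ≫ c)
      refine ⟨X₂, d₂ ≫ d₁, (d₂ ≫ b₁) * b₂, epi_comp _ _,
        mul_mem (map_lowerCentralSeries_top_le (precompHom d₂) (n + 1) ⟨b₁, hb₁, rfl⟩) hb₂, ?_⟩
      simp only [MonObj.mul_comp, MonObj.comp_mul, Category.assoc, e₁, e₂]
    | inv a _ h =>
      intro X' c
      obtain ⟨X₁, d₁, b₁, hd₁, hb₁, e₁⟩ := h X' c
      exact ⟨X₁, d₁, b₁⁻¹, hd₁, inv_mem hb₁, by simp only [GrpObj.inv_comp, GrpObj.comp_inv, e₁]⟩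

set_option maxHeartbeats 1000000 in
/-- Every homomorphism from a group of multiplicative type to a connected nilpotent group is central. -/
theorem isCentralHom_of_nilpotent (n : ℕ) :
    ∀ (G : Over (Spec (CommRingCat.of k))) [GrpObj G] [LocallyOfFiniteType G.hom] [QuasiCompact G.hom]
      [ConnectedSpace G.left],
      (∀ X : Over (Spec (CommRingCat.of k)), (⊤ : Subgroup (X ⟶ G)).lowerCentralSeries n = ⊥) →
      ∀ (M : Over (Spec (CommRingCat.of k))) [GrpObj M], SGA3x.IsMultTypeFT M →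
        ∀ (u : M ⟶ G) [IsMonHom u], IsCentralHom u := by
  induction n with
  | zero =>
    intro G _ _ _ _ h M _ _ u _ X x g
    have h1 : ∀ a : X ⟶ G, a = 1 := fun a => by
      have : a ∈ (⊤ : Subgroup (X ⟶ G)).lowerCentralSeries 0 := Subgroup.mem_top a
      rwa [h X, Subgroup.mem_bot] at this
    rw [h1 g, _root_.mul_one, _root_.one_mul]
  | succ n ih =>
    intro G _ _ _ _ h M _ hM u _
    obtain ⟨C, _, i, him, -, hC, Q, _, q, hqm, hQa, hQl, hQq, hqf, hqs, hker⟩ := GrpSchLib.Adjoint.exists_centre_quot G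
    haveI := him; haveI := hqm; haveI := hQl; haveI := hQq; haveI := hqf; haveI := hqs
    haveI : ConnectedSpace Q.left :=
      { toPreconnectedSpace := (q.left.surjective.denseRange).preconnectedSpace q.left.continuous
        toNonempty := ⟨q.left (Classical.arbitrary G.left)⟩ }
    have hkill : ∀ (X : Over (Spec (CommRingCat.of k))) (y : X ⟶ G),
        y ∈ (⊤ : Subgroup (X ⟶ G)).lowerCentralSeries n → y ≫ q = 1 := fun X y hy => by
      obtain ⟨z, hz⟩ := (hC.2.2 X y).mpr fun X' x g => by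
        have hy' := map_lowerCentralSeries_top_le (precompHom x) n ⟨y, hy, rfl⟩
        have hc : ⁅x ≫ y, g ≫ 𝟙 G⁆ ∈ (⊤ : Subgroup (X' ⟶ G)).lowerCentralSeries (n + 1) :=
          Subgroup.commutator_mem_commutator hy' (Subgroup.mem_top _)
        rw [h X', Subgroup.mem_bot, commutatorElement_eq_one_iff_mul_comm] at hc
        exact hc
      rw [← hz, Category.assoc, hker.w, ← Category.assoc, Hom.one_def, toUnit_unique (z ≫ toUnit C) (toUnit X)]
    have hQ : ∀ X : Over (Spec (CommRingCat.of k)), (⊤ : Subgroup (X ⟶ Q)).lowerCentralSeries n = ⊥ := fun X => by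
      refine (Subgroup.eq_bot_iff_forall _).mpr fun a ha => ?_
      obtain ⟨X'', d, b, hd, hb, e⟩ := lowerCentralSeries_quot q n X a ha X (𝟙 X)
      rw [Category.id_comp, hkill _ b hb] at e
      rw [← cancel_epi d, ← e, MonObj.comp_one]
    have huq := ih Q hQ M hM (u ≫ q)
    have hcentre : ∀ (X : Over (Spec (CommRingCat.of k))) (x : X ⟶ M) (g : X ⟶ G) (a : X ⟶ G),
        (g * (x ≫ u) * g⁻¹ * (x ≫ u)⁻¹) * a = a * (g * (x ≫ u) * g⁻¹ * (x ≫ u)⁻¹) := fun X x g a => by
      have h1 : (g * (x ≫ u) * g⁻¹ * (x ≫ u)⁻¹) ≫ q = toUnit X ≫ η[Q] := by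
        simp only [MonObj.mul_comp, GrpObj.inv_comp, Category.assoc]
        rw [← huq X x (g ≫ q), ← Hom.one_def]
        group
      have h2 := (hC.2.2 X _).mp ⟨hker.lift _ (toUnit X) h1, hker.lift_fst _ _ _⟩ X (𝟙 X) a
      rwa [Category.id_comp, Category.comp_id] at h2
    -- the family of homomorphisms parametrized by `G`
    let f := G.hom
    let gg : ∀ Y : Over G.left, (Over.map f).obj Y ⟶ G := fun Y => Over.homMk Y.hom rfl
    have hgg : ∀ {Y Y' : Over G.left} (a : Y ⟶ Y'), (Over.map f).map a ≫ gg Y' = gg Y :=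
      fun a => Over.OverMorphism.ext (Over.w a)
    let m₀ : (Over.map f).obj (Red.bc f M) ⟶ M := DSPtsLib.theta f (𝟙 _)
    obtain ⟨v, hv⟩ := (DSPtsLib.theta_bijective (H := G) (Y := Red.bc f M) f).2
      (gg _ * (m₀ ≫ u) * (gg _)⁻¹ * (m₀ ≫ u)⁻¹)
    have hpt : ∀ {Y : Over G.left} (a : Y ⟶ Red.bc f M), DSPtsLib.theta f (a ≫ v) =
        gg Y * (DSPtsLib.theta f a ≫ u) * (gg Y)⁻¹ * (DSPtsLib.theta f a ≫ u)⁻¹ := fun {Y} a => by
      have e : (Over.map f).map a ≫ m₀ = DSPtsLib.theta f a := by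
        rw [← DSPtsLib.theta_comp, Category.comp_id]
      rw [DSPtsLib.theta_comp, hv]
      simp only [MonObj.comp_mul, GrpObj.comp_inv, hgg, reassoc_of% e]
    haveI : IsMonHom v := isMonHom_of_mul_points v fun Y a b => by
      refine (DSPtsLib.theta_bijective f).1 ?_
      rw [DSPtsLib.theta_mul, hpt, hpt, hpt, DSPtsLib.theta_mul, MonObj.mul_comp]
      have e := hcentre _ (DSPtsLib.theta f b) (gg Y) (DSPtsLib.theta f a ≫ u)
      generalize gg Y = g, DSPtsLib.theta f a ≫ u = x, DSPtsLib.theta f b ≫ u = y at e ⊢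
      calc g * (x * y) * g⁻¹ * (x * y)⁻¹ = (g * x * g⁻¹) * ((g * y * g⁻¹ * y⁻¹) * x⁻¹) := by group
        _ = _ := by
          have e' : (g * y * g⁻¹ * y⁻¹) * x⁻¹ = x⁻¹ * (g * y * g⁻¹ * y⁻¹) :=
            ((Commute.inv_right (show Commute (g * y * g⁻¹ * y⁻¹) x from e))).eq
          rw [e']; group
    haveI : LocallyOfFiniteType (Red.bc f G).hom := inferInstanceAs (LocallyOfFiniteType (pullback.snd G.hom f))
    haveI := AntiAffine.isSeparated_grp G
    haveI : IsSeparated (Red.bc f G).hom := inferInstanceAs (IsSeparated (pullback.snd G.hom f))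
    obtain ⟨U, hUc, hU, hUt⟩ :=
      HomUnitLocus.main (u := v) (MultTypeBC.isMultTypeFT_bc f hM) (Or.inr inferInstance)
    have hunit : η[G].left (IsLocalRing.closedPoint k) ∈ U := (hU _).mpr
      ((HomUnitLocus.triv_iff_of_field η[G].left).mp fun Y p x => by
        refine (DSPtsLib.theta_bijective f).1 ?_
        have e : gg Y = 1 := Over.OverMorphism.ext (by
          show Y.hom = _
          rw [Hom.one_def, Over.comp_left, ← Over.w p]
          show p.left ≫ η[G].left = (Y.hom ≫ f) ≫ η[G].left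
          rw [← Over.w p, Category.assoc]
          show p.left ≫ η[G].left = (p.left ≫ η[G].left ≫ f)  ≫ η[G].left
          rw [show η[G].left ≫ f = 𝟙 _ from Over.w η[G]]
          exact congrArg (· ≫ η[G].left) (Category.comp_id p.left).symm)
        rw [hpt, HomUnitLocus.theta_one, e]
        group)
    have huniv : (U : Set G.left) = Set.univ := IsClopen.eq_univ ⟨hUc, U.2⟩ ⟨_, hunit⟩
    have hv1 : v = 1 := by
      have hr : Set.range (Red.bc f M).hom ⊆ Set.range U.ι := by
        rw [Scheme.Opens.range_ι, huniv]; exact Set.subset_univ _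
      have h1 := hUt _ (Over.homMk (IsOpenImmersion.lift U.ι (Red.bc f M).hom hr) (IsOpenImmersion.lift_fac _ _ _)) (𝟙 _)
      rwa [Category.id_comp] at h1
    intro X x g
    let Y : Over G.left := Over.mk g.left
    let e : X ⟶ (Over.map f).obj Y := Over.homMk (𝟙 X.left) (by
      show 𝟙 _ ≫ g.left ≫ G.hom = X.hom
      rw [Category.id_comp, Over.w g])
    let e' : (Over.map f).obj Y ⟶ X := Over.homMk (𝟙 X.left) (by
      show 𝟙 _ ≫ X.hom = g.left ≫ G.hom
      rw [Category.id_comp, Over.w g])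
    obtain ⟨a, ha⟩ := (DSPtsLib.theta_bijective (H := M) (Y := Y) f).2 (e' ≫ x)
    have h1 := congrArg (e ≫ ·) (hpt a)
    rw [hv1, MonObj.comp_one, HomUnitLocus.theta_one] at h1
    have hee : e ≫ e' = 𝟙 X := Over.OverMorphism.ext (Category.id_comp _)
    have heg : e ≫ gg Y = g := Over.OverMorphism.ext (Category.id_comp _)
    simp only [MonObj.comp_one, MonObj.comp_mul, GrpObj.comp_inv, heg, ha, Category.assoc, reassoc_of% hee] at h1
    rw [eq_comm, mul_inv_eq_one, mul_inv_eq_iff_eq_mul] at h1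
    exact h1.symm

/-- A connected nilpotent affine algebraic group has a largest subgroup of multiplicative type, and it is central. -/
theorem exists_largest_multType (G : Over (Spec (CommRingCat.of k))) [GrpObj G] [IsAffine G.left]
    [LocallyOfFiniteType G.hom] [ConnectedSpace G.left]
    (hnil : ∃ n : ℕ, ∀ X : Over (Spec (CommRingCat.of k)), (⊤ : Subgroup (X ⟶ G)).lowerCentralSeries n = ⊥) :
    ∃ (M : Over (Spec (CommRingCat.of k))) (_ : GrpObj M) (m : M ⟶ G), IsMonHom m ∧ IsClosedImmersion m.left ∧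
      SGA3x.IsMultTypeFT M ∧
      (∀ (M' : Over (Spec (CommRingCat.of k))) [GrpObj M'] (m' : M' ⟶ G) [IsMonHom m'] [Mono m'],
        SGA3x.IsMultTypeFT M' → ∃ f : M' ⟶ M, f ≫ m = m') ∧
      IsCentralHom m := by
  obtain ⟨n, hn⟩ := hnil
  haveI : IsAffineHom G.hom := inferInstance
  obtain ⟨Z, _, z, hz, hzmo, hZ, hzc, hzu⟩ := exists_redCentre_field G
  haveI := hz; haveI := hzmo
  refine ⟨Z, inferInstance, z, hz, MultConjLib.isClosedImmersion_of_mono (MultConjLib.isLocDS_of_multTypeFT hZ) z, hZ,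
    fun M' _ m' _ _ hM' => ?_, hzc⟩
  obtain ⟨w, hw⟩ := hzu _ (𝟙 _) (Red.bc (𝟙 _) M') ((Over.pullback (𝟙 _)).map m')
    (MultTypeBC.isMultTypeFT_bc _ hM') ((isCentralHom_of_nilpotent n G hn M' hM' m').bc _)
  let e : M' ⟶ (Over.map (𝟙 (Spec (CommRingCat.of k)))).obj (Red.bc (𝟙 _) M') :=
    Over.homMk (pullback.lift (𝟙 _) M'.hom (by simp)) (by
      show _ ≫ pullback.snd M'.hom _ ≫ 𝟙 _ = M'.hom
      rw [pullback.lift_snd_assoc]
      exact Category.comp_id _)
  refine ⟨e ≫ DSPtsLib.theta (𝟙 _) w, ?_⟩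
  rw [Category.assoc, ← BC.theta_map, hw]
  refine Over.OverMorphism.ext ?_
  show pullback.lift (𝟙 _) M'.hom _ ≫ ((Over.pullback (𝟙 _)).map m').left ≫ pullback.fst G.hom _ = m'.left
  rw [show ((Over.pullback (𝟙 (Spec (CommRingCat.of k)))).map m').left ≫ pullback.fst G.hom _ =
      pullback.fst M'.hom _ ≫ m'.left from pullback.lift_fst _ _ _, pullback.lift_fst_assoc, Category.id_comp]

end Groth.Agent.RankLib
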