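import Groth.Agent.RankLib.ExtDiag
import Groth.Agent.RankLib.CentreTorus
import Groth.Agent.S8042
import Groth.Agent.S14545
import Groth.Agent.S0346
import Groth.Agent.GrpSchLib.HomUnitLocus
import Groth.Agent.SrcDescent.SchemeFppf
import Groth.Agent.SplitTorLib.QuotBC

/-!
# The quotient by the reductive centre has trivial reductive centre
-/

set_option autoImplicit false
set_option backward.isDefEq.respectTransparency false
set_option backward.isDefEq.respectTransparency.types false

universe u

open CategoryTheory Limits AlgebraicGeometry MonoidalCategory CartesianMonoidalCategory MonObj GrpObj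

namespace Groth.Agent.RankLib

open GrpSchLib GModLib

variable {k : Type u} [Field k] [IsAlgClosed k]

set_option maxHeartbeats 1000000 in
/-- Over an algebraically closed field, a central homomorphism from a group of multiplicative type into the quotient by
the universal central subgroup of multiplicative type is trivial. -/
theorem eq_one_quot_field {G Z G' H : Over (Spec (CommRingCat.of k))} [GrpObj G] [GrpObj Z] [GrpObj G'] [GrpObj H]
    [IsAffine G.left] [LocallyOfFiniteType G.hom] [ConnectedSpace G.left]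
    (z : Z ⟶ G) [IsMonHom z] [Mono z] (hZ : SGA3x.IsMultTypeFT Z) (hzc : IsCentralHom z)
    (huniv : ∀ (P : Over (Spec (CommRingCat.of k))) [GrpObj P] (a : P ⟶ G) [IsMonHom a],
      SGA3x.IsMultTypeFT P → IsCentralHom a → ∃ w : P ⟶ Z, w ≫ z = a)
    (q : G ⟶ G') [IsMonHom q] (hq : RedSub.IsQuotient z q) (hH : SGA3x.IsMultTypeFT H) (v : H ⟶ G') [IsMonHom v]
    (hv : IsCentralHom v) : v = 1 := by
  haveI := GrpSchLib.AntiAffine.isSeparated_grp G'
  haveI : Surjective q.left := hq.1
  haveI : Flat q.left := hq.2.1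
  haveI : IsAffineHom G.hom := inferInstance
  haveI : QuasiCompact q.left := by
    haveI : QuasiCompact (q.left ≫ G'.hom) := by rw [Over.w q]; infer_instance
    exact QuasiCompact.of_comp q.left G'.hom
  haveI : IsAffineHom Z.hom := MultConjLib.isAffineHom_of_locDS (MultConjLib.isLocDS_of_multTypeFT hZ)
  haveI : IsAffineHom H.hom := MultConjLib.isAffineHom_of_locDS (MultConjLib.isLocDS_of_multTypeFT hH)
  haveI : IsAffine Z.left := isAffine_of_isAffineHom Z.hom
  haveI : IsAffine H.left := isAffine_of_isAffineHom H.hom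
  haveI : LocallyOfFiniteType Z.hom := MultTypeLft.lft hZ
  haveI : LocallyOfFiniteType H.hom := MultTypeLft.lft hH
  have hHc : ∀ {U : Over (Spec (CommRingCat.of k))} (x y : U ⟶ H), x * y = y * x := fun x y =>
    MultConjLib.points_comm (MultConjLib.isLocDS_of_multTypeFT hH) x y
  let j : H ⟶ G' ⊗ H := lift v (𝟙 H)
  let Ψ : G ⊗ H ⟶ G' ⊗ H := lift (fst G H ≫ q) (snd G H)
  haveI : IsMonHom j := inferInstance
  haveI : IsMonHom Ψ := inferInstance
  haveI : Mono j := ⟨fun x y h => by simpa [j] using congrArg (· ≫ snd G' H) h⟩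
  haveI : IsClosedImmersion j.left := by
    haveI : IsSeparated (snd G' H).left := by
      show IsSeparated (pullback.snd G'.hom H.hom)
      infer_instance
    haveI : IsClosedImmersion (j.left ≫ (snd G' H).left) := by
      rw [← Over.comp_left, lift_snd]; exact inferInstanceAs (IsClosedImmersion (𝟙 H.left))
    exact IsClosedImmersion.of_comp j.left (snd G' H).left
  obtain ⟨P, iP, a, b, ham, hbm, hamono, hsqL, hsq⟩ := exists_preimage_subgroup Ψ j
  haveI := ham; haveI := hbm; haveI := hamono
  haveI : IsClosedImmersion a.left := MorphismProperty.of_isPullback (P := @IsClosedImmersion) hsqL.flip ‹_›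
  haveI : IsAffine (G ⊗ H).left := inferInstanceAs (IsAffine (pullback G.hom H.hom))
  haveI : LocallyOfFiniteType (G ⊗ H).hom := inferInstanceAs (LocallyOfFiniteType (pullback.fst G.hom H.hom ≫ G.hom))
  haveI : IsAffine P.left := isAffine_of_isAffineHom a.left
  haveI : LocallyOfFiniteType P.hom := by rw [← Over.w a]; infer_instance
  let A : P ⟶ G := a ≫ fst G H
  haveI : IsMonHom A := inferInstance
  have hb : a ≫ snd G H = b := by
    have h := congrArg (· ≫ snd G' H) hsq.w
    simpa [Ψ, j] using h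
  have hAq : A ≫ q = b ≫ v := by
    have h := congrArg (· ≫ fst G' H) hsq.w
    simpa [Ψ, j, A] using h
  have hjm : ∀ {U : Over (Spec (CommRingCat.of k))} (x y : U ⟶ P), x ≫ A = y ≫ A → x ≫ b = y ≫ b → x = y :=
    fun x y h₁ h₂ => by
      rw [← cancel_mono a]
      refine CartesianMonoidalCategory.hom_ext _ _ ?_ ?_
      · simpa [A] using h₁
      · simpa [hb] using h₂
  have hlift : ∀ {U : Over (Spec (CommRingCat.of k))} (g : U ⟶ G) (h : U ⟶ H), g ≫ q = h ≫ v →
      ∃ x : U ⟶ P, x ≫ A = g ∧ x ≫ b = h := fun g h e => by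
    have w : lift g h ≫ Ψ = h ≫ j := by
      apply CartesianMonoidalCategory.hom_ext <;> simp [Ψ, j, e]
    refine ⟨hsq.lift (lift g h) h w, ?_, hsq.lift_snd _ _ _⟩
    show _ ≫ a ≫ fst G H = g
    rw [← Category.assoc, hsq.lift_fst, lift_fst]
  have hsqP : IsPullback A b q v :=
    ⟨⟨hAq⟩, ⟨PullbackCone.IsLimit.mk _ (fun s => (hlift s.fst s.snd s.condition).choose)
      (fun s => (hlift s.fst s.snd s.condition).choose_spec.1) (fun s => (hlift s.fst s.snd s.condition).choose_spec.2)
      fun s m h₁ h₂ => hjm _ _ (h₁.trans (hlift s.fst s.snd s.condition).choose_spec.1.symm)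
        (h₂.trans (hlift s.fst s.snd s.condition).choose_spec.2.symm)⟩⟩
  have hsqP' := (IsPullback.map (Over.forget _) hsqP).flip
  haveI : Surjective b.left := MorphismProperty.of_isPullback (P := @Surjective) hsqP'.flip hq.1
  haveI : Flat b.left := MorphismProperty.of_isPullback (P := @Flat) hsqP'.flip hq.2.1
  haveI : QuasiCompact b.left := MorphismProperty.of_isPullback (P := @QuasiCompact) hsqP'.flip ‹_›
  -- the kernel of the projection
  have hkz := Groth.Agent.S14545.isKernel_of_isQuotient z q hq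
  have hzq : z ≫ q = 1 := by rw [hkz.w, Hom.one_def]
  obtain ⟨iN, hiA, hib⟩ := hlift z (1 : Z ⟶ H) (by rw [hzq, MonObj.one_comp])
  haveI : IsMonHom iN :=
    { one_hom := hjm _ _
        (by rw [Category.assoc, hiA, IsMonHom.one_hom z, IsMonHom.one_hom A])
        (by rw [Category.assoc, hib, MonObj.comp_one, IsMonHom.one_hom b, Hom.one_def,
          toUnit_unique (toUnit _) (𝟙 _), Category.id_comp])
      mul_hom := hjm _ _
        (by rw [Category.assoc, hiA, IsMonHom.mul_hom z, Category.assoc, IsMonHom.mul_hom A,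
          ← Category.assoc (_ ⊗ₘ _), MonoidalCategory.tensorHom_comp_tensorHom, hiA])
        (by rw [Category.assoc, hib, MonObj.comp_one, Category.assoc, IsMonHom.mul_hom b,
          ← Category.assoc (_ ⊗ₘ _), MonoidalCategory.tensorHom_comp_tensorHom, hib]
            show _ = lift (fst Z Z ≫ 1) (snd Z Z ≫ 1) ≫ μ[H]
            rw [← Hom.mul_def, MonObj.comp_one, MonObj.comp_one, _root_.one_mul]) }
  haveI : Mono iN := ⟨fun x y h => by
    rw [← cancel_mono z, ← hiA, ← Category.assoc, h, Category.assoc]⟩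
  haveI : IsClosedImmersion iN.left :=
    MultConjLib.isClosedImmersion_of_mono (MultConjLib.isLocDS_of_multTypeFT hZ) iN
  have hker : AlgGrp.IsKernel iN b := by
    refine ⟨⟨by rw [hib, Hom.one_def]⟩, ⟨PullbackCone.IsLimit.mk _
      (fun s => hkz.lift (s.fst ≫ A) (toUnit _) ?_) (fun s => hjm _ _ ?_ ?_) (fun s => toUnit_unique _ _)
      fun s m h₁ _ => ?_⟩⟩
    · rw [Category.assoc, hAq, ← Category.assoc, s.condition, Category.assoc, IsMonHom.one_hom v,
        toUnit_unique s.snd (toUnit _)]
    · rw [Category.assoc, hiA, hkz.lift_fst]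
    · rw [Category.assoc, hib, MonObj.comp_one, s.condition, toUnit_unique s.snd (toUnit _), Hom.one_def]
    · rw [← cancel_mono z, hkz.lift_fst, ← h₁, Category.assoc, hiA]
  -- conjugation
  let g₀ : G ⊗ P ⟶ G := fst G P
  obtain ⟨act, hactA, hactb⟩ := hlift (g₀ * (snd G P ≫ A) * g₀⁻¹) (snd G P ≫ b) (by
    rw [MonObj.mul_comp, MonObj.mul_comp, GrpObj.inv_comp, Category.assoc, hAq, ← Category.assoc,
      ← hv _ _ (g₀ ≫ q)]
    group)
  have hactA' : ∀ {U : Over (Spec (CommRingCat.of k))} (g : U ⟶ G) (x : U ⟶ P),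
      (lift g x ≫ act) ≫ A = g * (x ≫ A) * g⁻¹ := fun g x => by
    rw [Category.assoc, hactA, MonObj.comp_mul, MonObj.comp_mul, GrpObj.comp_inv, lift_fst, ← Category.assoc,
      lift_snd]
  have hactb' : ∀ {U : Over (Spec (CommRingCat.of k))} (g : U ⟶ G) (x : U ⟶ P), (lift g x ≫ act) ≫ b = x ≫ b :=
    fun g x => by rw [Category.assoc, hactb, ← Category.assoc, lift_snd]
  let ac : AlgGrp.Action G P :=
    { act := act
      one_act := by
        have e : (η[G] ▷ P) = lift (fst _ _ ≫ η[G]) (snd _ _) := by ext1 <;> simp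
        rw [e, toUnit_unique (fst (𝟙_ _) P) (toUnit _), ← Hom.one_def, leftUnitor_hom]
        exact hjm _ _ (by rw [hactA']; group) (hactb' _ _)
      mul_act := by
        have e1 : (μ[G] ▷ P) = lift (fst _ _ ≫ μ[G]) (snd _ _) := by ext1 <;> simp
        have e2 : (α_ G G P).hom ≫ (G ◁ act) =
            lift (fst _ _ ≫ fst G G) (lift (fst _ _ ≫ snd G G) (snd _ _) ≫ act) := by
          ext1
          · simp
          · simp only [Category.assoc, whiskerLeft_snd, lift_snd]
            rw [← Category.assoc]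
            congr 1
            ext1 <;> simp
        rw [e1, reassoc_of% e2]
        refine hjm _ _ ?_ ?_
        · rw [hactA', hactA', hactA', show μ[G] = fst G G * snd G G by rw [Hom.mul_def, lift_fst_snd, Category.id_comp],
            MonObj.comp_mul]
          group
        · rw [hactb', hactb', hactb'] }
  have hfix : ∀ {U : Over (Spec (CommRingCat.of k))} (g : U ⟶ G) (x : U ⟶ P), g * (x ≫ A) = (x ≫ A) * g := fun g x => by
    have h := Groth.Agent.S8042.result k G P Z H iN (fun T h n => hjm _ _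
        (by rw [MonObj.mul_comp, MonObj.mul_comp, Category.assoc n, hiA]; exact (hzc T n (h ≫ A)).symm)
        (by rw [MonObj.mul_comp, MonObj.mul_comp]; exact hHc _ _))
      b hker hZ hH ac
      (fun T g h h' => hjm _ _
        (by rw [MonObj.mul_comp, hactA', hactA', hactA', MonObj.mul_comp]; group)
        (by rw [MonObj.mul_comp, hactb', hactb', hactb', MonObj.mul_comp]))
      (fun T g n => ⟨n, hjm _ _
        (by rw [hactA', Category.assoc, hiA, ← hzc T n g]; group)
        (hactb' _ _)⟩) _ g x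
    have h' := congrArg (· ≫ A) h
    rw [show ac.act = act from rfl, hactA', mul_inv_eq_iff_eq_mul] at h'
    exact h'
  have hP : SGA3x.IsMultTypeFT P := isMultTypeFT_of_extension iN b hker hZ hH fun X x y => hjm _ _
    (by rw [MonObj.mul_comp, MonObj.mul_comp]; exact hfix _ _)
    (by rw [MonObj.mul_comp, MonObj.mul_comp]; exact hHc _ _)
  obtain ⟨w, hw⟩ := huniv P A hP fun X x g => (hfix g x).symm
  haveI := (FpqcDescLib.covers_of_isCovering (FpqcDescLib.isCovering_of_quasiCompact b.left)).over_epi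
  rw [← cancel_epi b, MonObj.comp_one, ← hAq, ← hw, Category.assoc, hzq, MonObj.comp_one]

omit [IsAlgClosed k] in
/-- Naturality of the identification of iterated fibres. -/
theorem map_map_fibreIso {S S' U : Scheme.{u}} {a : U ⟶ S'} {g : S' ⟶ S} {b : U ⟶ S} (h : a ≫ g = b) {Z G : Over S}
    [GrpObj Z] [GrpObj G] (z : Z ⟶ G) :
    (Over.pullback a).map ((Over.pullback g).map z) ≫ (fibreIso h G).hom =
      (fibreIso h Z).hom ≫ (Over.pullback b).map z := by
  rw [← fibreHom_eq']
  refine bc_hom_ext ?_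
  rw [fibreHom_left_fst]
  have e1 : ∀ {T : Scheme.{u}} (t : T ⟶ S), ((Over.pullback t).map z).left ≫ pullback.fst G.hom t =
      pullback.fst Z.hom t ≫ z.left := fun t => pullback.lift_fst _ _ _
  rw [Over.comp_left, Category.assoc, e1, e1, ← fibreHom_id, ← Category.assoc (fibreHom h (𝟙 _)).left,
    fibreHom_left_fst, Over.id_left, Category.id_comp, Category.assoc]

set_option maxHeartbeats 1000000 in
omit [IsAlgClosed k] in
/-- The quotient of a group with connected fibres by its reductive centre has trivial reductive centre. -/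
theorem eq_one_quot {S : Scheme.{u}} {G : Over S} [GrpObj G] [Smooth G.hom] [IsAffineHom G.hom]
    (hconn : ∀ s : S, _root_.IsConnected (G.hom.base ⁻¹' {s})) {Z : Over S} [GrpObj Z] {z : Z ⟶ G} (hz : IsRedCentre z)
    {G' : Over S} [GrpObj G'] (q : G ⟶ G') [IsMonHom q] (hq : RedSub.IsQuotient z q) {S' : Scheme.{u}} (f : S' ⟶ S)
    {H : Over S'} [GrpObj H] (v : H ⟶ Red.bc f G') [IsMonHom v] (hH : SGA3x.IsMultTypeFT H) (hv : IsCentralHom v) :
    v = 1 := by
  obtain ⟨hzm, hzmo, hZ, hzc, hzu⟩ := hz
  haveI := hzm; haveI := hzmo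
  let G₁ := Red.bc f G
  let Z₁ := Red.bc f Z
  let G₁' := Red.bc f G'
  let z₁ : Z₁ ⟶ G₁ := (Over.pullback f).map z
  let q₁ : G₁ ⟶ G₁' := (Over.pullback f).map q
  have hq₁ : RedSub.IsQuotient z₁ q₁ := SplitTorLib.isQuotient_bc f z q hq
  haveI : Smooth G₁.hom := inferInstanceAs (Smooth (pullback.snd G.hom f))
  haveI : IsAffineHom G₁.hom := MorphismProperty.pullback_snd G.hom f ‹IsAffineHom G.hom›
  haveI : IsMonHom z₁ := inferInstanceAs (IsMonHom ((Over.pullback f).map z))
  haveI : IsMonHom q₁ := inferInstanceAs (IsMonHom ((Over.pullback f).map q))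
  haveI : Mono z₁ := inferInstanceAs (Mono ((Over.pullback f).map z))
  haveI : Surjective q₁.left := hq₁.1
  haveI : Flat q₁.left := hq₁.2.1
  haveI : LocallyOfFinitePresentation q₁.left := hq₁.2.2.1
  have hZ₁ : SGA3x.IsMultTypeFT Z₁ := MultTypeBC.isMultTypeFT_bc f hZ
  haveI : IsClosedImmersion z₁.left :=
    MultConjLib.isClosedImmersion_of_mono (MultConjLib.isLocDS_of_multTypeFT hZ₁) z₁
  -- the quotient is separated and locally of finite type
  haveI : IsSeparated G₁'.hom := by
    rw [(Groth.Agent.S0346.result S' G₁').1]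
    exact (FpqcDescLib.covers_of_isCovering (FpqcDescLib.isCovering_of_lfp q₁.left)).isClosedImmersion η[G₁'].left
      z₁.left _ (IsPullback.map (Over.forget _) (Groth.Agent.S14545.isKernel_of_isQuotient z₁ q₁ hq₁))
  haveI : LocallyOfFiniteType G₁'.hom := by
    haveI : LocallyOfFiniteType (q₁.left ≫ G₁'.hom) := by rw [Over.w q₁]; infer_instance
    exact SrcDescent.locallyOfFiniteType_of_fppf_comp q₁.left G₁'.hom
  obtain ⟨U, -, hU, hUt⟩ := HomUnitLocus.main (u := v) hH (Or.inr inferInstance)
  have hall : ∀ s : S', s ∈ U := fun s => (hU s).mpr (by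
    let σ := Red.geomPt s
    haveI : Smooth (Red.geomFibre s G₁).hom := inferInstanceAs (Smooth (pullback.snd G₁.hom σ))
    haveI : IsAffineHom (Red.geomFibre s G₁).hom := MorphismProperty.pullback_snd G₁.hom σ ‹IsAffineHom G₁.hom›
    haveI : IsAffine (Red.geomFibre s G₁).left := isAffine_of_isAffineHom (Red.geomFibre s G₁).hom
    haveI : ConnectedSpace (Red.geomFibre s G₁).left := connectedSpace_geomFibre (isConnected_fibres_bc hconn f) s
    have h1 : (Over.pullback σ).map v = 1 := by
      refine eq_one_quot_field ((Over.pullback σ).map z₁) (MultTypeBC.isMultTypeFT_bc σ hZ₁)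
        ((IsCentralHom.bc hzc f).bc σ) (fun P _ a _ hP ha => ?_) ((Over.pullback σ).map q₁)
        (SplitTorLib.isQuotient_bc σ z₁ q₁ hq₁) (MultTypeBC.isMultTypeFT_bc σ hH) _ (hv.bc σ)
      let r := σ ≫ f
      haveI : IsMonHom (a ≫ (fibreIso (rfl : σ ≫ f = r) G).hom) := inferInstance
      obtain ⟨w, hw⟩ := hzu _ r P (a ≫ (fibreIso (rfl : σ ≫ f = r) G).hom) hP (ha.comp_iso _)
      refine ⟨w ≫ (fibreIso (rfl : σ ≫ f = r) Z).inv, ?_⟩
      rw [← cancel_mono (fibreIso (rfl : σ ≫ f = r) G).hom, ← hw]
      simp only [Category.assoc, z₁]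
      rw [map_map_fibreIso, Iso.inv_hom_id_assoc]
    let ψ : Spec (CommRingCat.of (AlgebraicClosure (S'.residueField s))) ⟶ Spec (S'.residueField s) :=
      Spec.map (CommRingCat.ofHom (algebraMap (S'.residueField s) (AlgebraicClosure (S'.residueField s))))
    exact HomUnitLocus.Triv.of_covers ψ (HomUnitLocus.covers_field _) (HomUnitLocus.triv_of_map_eq_one h1))
  have hrange : Set.range H.hom ⊆ Set.range U.ι := by
    rw [Scheme.Opens.range_ι]; exact fun s _ => hall s
  have h := hUt H (Over.homMk (IsOpenImmersion.lift U.ι H.hom hrange) (IsOpenImmersion.lift_fac _ _ _)) (𝟙 H)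
  rwa [Category.id_comp] at h

end Groth.Agent.RankLib
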