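import Groth.Agent.RankLib.ExtDiag
import Groth.Agent.RankLib.CentreTorus
import Groth.Agent.GrpSchLib.UniPartDiag
import Groth.Agent.TransLib.Centralizer

/-!
# The reductive centre of an affine algebraic group over a field

It is the largest subgroup of multiplicative type of the centre: the unipotent quotient of the centre receives no
non-trivial homomorphism from a group of multiplicative type, over any base.
-/

set_option autoImplicit false
set_option backward.isDefEq.respectTransparency false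
set_option backward.isDefEq.respectTransparency.types false

universe u

open CategoryTheory Limits AlgebraicGeometry MonoidalCategory CartesianMonoidalCategory MonObj GrpObj WithConv
open TensorProduct

namespace Groth.Agent.RankLib

open GrpSchLib GrpSchLib.AffineHopf GModLib

/-- An additive function vanishes on a split piece of a group of multiplicative type. -/
theorem comp_theta_eq_one_of_split {S S' U : Scheme.{u}} (f : S' ⟶ S) (q : U ⟶ S') {H : Over S'} [GrpObj H]
    {M : Type} [AddCommGroup M] (E : Grp.mk (Red.bc q H) ≅ Grp.mk (Red.DS U M))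
    (w : (Over.map f).obj H ⟶ Red.Ga S)
    (hw : ∀ (Y : Over S') (a b : Y ⟶ H),
      (Over.map f).map (a * b) ≫ w = ((Over.map f).map a ≫ w) * ((Over.map f).map b ≫ w)) :
    (Over.map f).map (DSPtsLib.theta q (𝟙 (Red.bc q H))) ≫ w = 1 := by
  haveI : IsMonHom E.inv.hom.hom := E.inv.hom.isMonHom_hom
  let c : ∀ X : Over U, (Over.map (q ≫ f)).obj X ⟶ (Over.map f).obj ((Over.map q).obj X) :=
    fun X => Over.homMk (𝟙 X.left) (by
      show 𝟙 _ ≫ (X.hom ≫ q) ≫ f = X.hom ≫ q ≫ f
      rw [Category.id_comp, Category.assoc])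
  have hc : ∀ {X Y : Over U} (y : Y ⟶ X), (Over.map (q ≫ f)).map y ≫ c X = c Y ≫ (Over.map f).map ((Over.map q).map y) :=
    fun y => Over.OverMorphism.ext ((Category.comp_id _).trans (Category.id_comp _).symm)
  have h1 : c _ ≫ (Over.map f).map (DSPtsLib.theta q E.inv.hom.hom) ≫ w = 1 := by
    refine DSPtsLib.eq_one_of_additive _ fun Y a b => ?_
    have hn : ∀ y : Y ⟶ Red.DS U M, (Over.map (q ≫ f)).map y ≫ c _ ≫
        (Over.map f).map (DSPtsLib.theta q E.inv.hom.hom) ≫ w =
        c Y ≫ (Over.map f).map (DSPtsLib.theta q (y ≫ E.inv.hom.hom)) ≫ w := fun y => by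
      rw [reassoc_of% (hc y), DSPtsLib.theta_comp, Functor.map_comp, Category.assoc]
    rw [hn, hn, hn, MonObj.mul_comp, DSPtsLib.theta_mul, hw, MonObj.comp_mul]
  have e5 : E.hom.hom.hom ≫ E.inv.hom.hom = 𝟙 (Red.bc q H) := congrArg (fun φ => φ.hom.hom) E.hom_inv_id
  haveI : IsIso (c (Red.bc q H)) := by
    haveI : IsIso ((Over.forget _).map (c (Red.bc q H))) := inferInstanceAs (IsIso (𝟙 (Red.bc q H).left))
    exact isIso_of_reflects_iso _ (Over.forget _)
  rw [← cancel_epi (c (Red.bc q H)), MonObj.comp_one, ← e5, DSPtsLib.theta_comp, Functor.map_comp, Category.assoc,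
    ← reassoc_of% (hc E.hom.hom.hom), h1, MonObj.comp_one]

/-- An additive function on a group of multiplicative type vanishes. -/
theorem eq_one_of_multType_ga_rel {S S' : Scheme.{u}} (f : S' ⟶ S) {H : Over S'} [GrpObj H] (hH : SGA3x.IsMultTypeFT H)
    (w : (Over.map f).obj H ⟶ Red.Ga S)
    (hw : ∀ (Y : Over S') (a b : Y ⟶ H),
      (Over.map f).map (a * b) ≫ w = ((Over.map f).map a ≫ w) * ((Over.map f).map b ≫ w)) : w = 1 := by
  obtain ⟨V, g, hfl, hfs, hqc, hloc⟩ := hH
  haveI := hfl; haveI := hfs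
  choose U hsU M iM _ hiso using hloc
  let θ : (Over.map g).obj (Red.bc g H) ⟶ H := DSPtsLib.theta g (𝟙 _)
  have hk : FpqcDescLib.Covers ((Over.map f).map θ).left := by
    show FpqcDescLib.Covers (𝟙 (pullback H.hom g) ≫ pullback.fst H.hom g)
    rw [Category.id_comp]
    exact (FpqcDescLib.covers_of_isCovering (FpqcDescLib.isCovering_of_flat g hqc)).pullback H.hom
      _ (pullback.snd H.hom g) (IsPullback.of_hasPullback H.hom g)
  haveI := hk.over_epi
  rw [← cancel_epi ((Over.map f).map θ), MonObj.comp_one]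
  have hU : TopologicalSpace.IsOpenCover U := TopologicalSpace.Opens.ext (Set.eq_univ_of_forall fun z => by
    simp only [TopologicalSpace.Opens.coe_iSup, Set.mem_iUnion]
    exact ⟨z, hsU z⟩)
  have key : ∀ (s : V) (m : pullback H.hom ((U s).ι ≫ g) ⟶ pullback H.hom g),
      m ≫ pullback.fst H.hom g = pullback.fst H.hom ((U s).ι ≫ g) →
      m ≫ pullback.snd H.hom g = pullback.snd H.hom ((U s).ι ≫ g) ≫ (U s).ι →
      m ≫ ((Over.map f).map θ ≫ w).left = m ≫ (1 : (Over.map f).obj ((Over.map g).obj (Red.bc g H)) ⟶ Red.Ga S).left := by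
    intro s m hm₁ hm₂
    obtain ⟨E⟩ := hiso s
    let mm : (Over.map f).obj ((Over.map ((U s).ι ≫ g)).obj (Red.bc ((U s).ι ≫ g) H)) ⟶
        (Over.map f).obj ((Over.map g).obj (Red.bc g H)) := Over.homMk m (by
      show m ≫ (pullback.snd H.hom g ≫ g) ≫ f = (pullback.snd H.hom _ ≫ (U s).ι ≫ g) ≫ f
      simp only [← Category.assoc]
      rw [hm₂])
    have e : mm ≫ (Over.map f).map θ = (Over.map f).map (DSPtsLib.theta ((U s).ι ≫ g) (𝟙 _)) := by
      refine Over.OverMorphism.ext ?_
      show m ≫ 𝟙 (pullback H.hom g) ≫ pullback.fst H.hom g = 𝟙 (pullback H.hom _) ≫ pullback.fst H.hom _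
      rw [Category.id_comp, Category.id_comp, hm₁]
    show (mm ≫ (Over.map f).map θ ≫ w).left = (mm ≫ 1).left
    rw [reassoc_of% e, comp_theta_eq_one_of_split f _ E w hw, MonObj.comp_one]
  exact Over.OverMorphism.ext
    (Scheme.Cover.hom_ext (Scheme.Pullback.openCoverOfRight (V.openCoverOfIsOpenCover U hU) H.hom g) _ _ fun s =>
      key s _ ((pullback.lift_fst _ _ _).trans (Category.comp_id _)) (pullback.lift_snd _ _ _))

variable {k : Type u} [Field k]

theorem toSpecΓ_specInv (R : CommRingCat.{u}) :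
    (Spec R).toSpecΓ ≫ Spec.map (Scheme.ΓSpecIso R).inv = 𝟙 (Spec R) := by
  rw [← Scheme.isoSpec_Spec_inv, Scheme.toSpecΓ_isoSpec_inv]

/-- The functions on a scheme over a field as an algebra. -/
@[reducible] noncomputable def algGlobal (Y : Over (Spec (CommRingCat.of k))) : Algebra k Γ(Y.left, ⊤) :=
  ((Y.hom.appTop).hom.comp (Scheme.ΓSpecIso (CommRingCat.of k)).inv.hom).toAlgebra

/-- The affinization. -/
noncomputable def toAff (Y : Over (Spec (CommRingCat.of k))) :
    letI := algGlobal Y; Y ⟶ sp k Γ(Y.left, ⊤) :=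
  letI := algGlobal Y
  Over.homMk Y.left.toSpecΓ (by
    show _ ≫ Spec.map ((Scheme.ΓSpecIso (CommRingCat.of k)).inv ≫ Y.hom.appTop) = _
    rw [Spec.map_comp, ← Scheme.toSpecΓ_naturality_assoc, toSpecΓ_specInv, Category.comp_id])

section Value

variable {A : Type u} [CommRing A] [Bialgebra k A]

/-- The values of the functions at a point. -/
noncomputable def val {Y : Over (Spec (CommRingCat.of k))} (y : Y ⟶ sp k A) :
    letI := algGlobal Y; A →ₐ[k] Γ(Y.left, ⊤) :=
  letI := algGlobal Y
  { (y.left.appTop).hom.comp (Scheme.ΓSpecIso (CommRingCat.of A)).inv.hom with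
    commutes' := fun r => by
      show y.left.appTop ((Scheme.ΓSpecIso (CommRingCat.of A)).inv (algebraMap k A r)) =
        Y.hom.appTop ((Scheme.ΓSpecIso (CommRingCat.of k)).inv r)
      have e := congrArg (fun ψ => (ConcreteCategory.hom ψ) r)
        (Scheme.ΓSpecIso_inv_naturality (CommRingCat.ofHom (algebraMap k A)))
      simp only [CommRingCat.hom_comp, RingHom.comp_apply, CommRingCat.hom_ofHom] at e
      rw [e, ← Over.w y]
      rfl }

theorem toAff_spMap_val {Y : Over (Spec (CommRingCat.of k))} (y : Y ⟶ sp k A) :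
    letI := algGlobal Y; toAff Y ≫ spMap (val y) = y := by
  letI := algGlobal Y
  refine Over.OverMorphism.ext ?_
  show Y.left.toSpecΓ ≫ Spec.map ((Scheme.ΓSpecIso (CommRingCat.of A)).inv ≫ y.left.appTop) = y.left
  rw [Spec.map_comp, ← Scheme.toSpecΓ_naturality_assoc]
  exact (congrArg (y.left ≫ ·) (toSpecΓ_specInv (CommRingCat.of A))).trans (Category.comp_id _)

theorem val_toAff_spMap {Y : Over (Spec (CommRingCat.of k))} :
    letI := algGlobal Y; ∀ α : A →ₐ[k] Γ(Y.left, ⊤), val (toAff Y ≫ spMap α) = α := by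
  letI := algGlobal Y
  refine fun α => AlgHom.ext fun x => ?_
  show (Y.left.toSpecΓ ≫ Spec.map (CommRingCat.ofHom α.toRingHom)).appTop
    ((Scheme.ΓSpecIso (CommRingCat.of A)).inv x) = α x
  have e := congrArg (fun ψ => (ConcreteCategory.hom ψ) x)
    (Scheme.ΓSpecIso_inv_naturality (CommRingCat.ofHom α.toRingHom))
  simp only [CommRingCat.hom_comp, RingHom.comp_apply, CommRingCat.hom_ofHom] at e
  rw [Scheme.Hom.comp_appTop, CommRingCat.comp_apply, Scheme.toSpecΓ_appTop]
  refine (congrArg _ e.symm).trans ?_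
  exact (Scheme.ΓSpecIso (CommRingCat.of Γ(Y.left, ⊤))).inv_hom_id_apply _

theorem val_mul {Y : Over (Spec (CommRingCat.of k))} (a b : Y ⟶ sp k A) :
    letI := algGlobal Y; val (a * b) = (toConv (val a) * toConv (val b)).ofConv := by
  letI := algGlobal Y
  rw [← val_toAff_spMap (toConv (val a) * toConv (val b)).ofConv]
  congr 1
  rw [← spMap_mul, MonObj.comp_mul, toAff_spMap_val, toAff_spMap_val]

theorem val_comp {Y Y' : Over (Spec (CommRingCat.of k))} (c : Y' ⟶ Y) (y : Y ⟶ sp k A) (x : A) :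
    val (c ≫ y) x = c.left.appTop (val y x) := rfl

theorem gaFn_ptOfFn_val {Y : Over (Spec (CommRingCat.of k))} (y : Y ⟶ sp k A) (x : A) :
    Red.gaFn (y ≫ GaPts.ptOfFn ((Scheme.ΓSpecIso (CommRingCat.of A)).inv x)) = val y x := by
  rw [GaPts.gaFn_comp, GaPts.gaFn_ptOfFn]
  rfl

end Value

open GrpSchLib.UniPart Groth.Agent.ComodLib

set_option maxHeartbeats 1000000 in
/-- Homomorphisms from groups of multiplicative type are trivial on the conilpotent functions. -/
theorem val_eq_counit {A : Type u} [CommRing A] [HopfAlgebra k A] {S' : Scheme.{u}} (f : S' ⟶ Spec (CommRingCat.of k))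
    {H : Over S'} [GrpObj H] (hH : SGA3x.IsMultTypeFT H) (u : (Over.map f).obj H ⟶ sp k A)
    (hu : ∀ (Y : Over S') (a b : Y ⟶ H),
      (Over.map f).map (a * b) ≫ u = ((Over.map f).map a ≫ u) * ((Over.map f).map b ≫ u)) :
    letI := algGlobal ((Over.map f).obj H)
    ∀ (n : ℕ) (b : A), b ∈ Bn k A n → val u b = algebraMap k _ (Coalgebra.counit (R := k) b) := by
  letI := algGlobal ((Over.map f).obj H)
  intro n
  induction n with
  | zero => intro b hb; rw [(Submodule.mem_bot k).mp hb, map_zero, map_zero, map_zero]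
  | succ n ih =>
    intro b hb
    let x : A := b - algebraMap k A (Coalgebra.counit (R := k) b)
    let w : (Over.map f).obj H ⟶ Red.Ga (Spec (CommRingCat.of k)) :=
      u ≫ GaPts.ptOfFn ((Scheme.ΓSpecIso (CommRingCat.of A)).inv x)
    have hw : w = 1 := by
      refine eq_one_of_multType_ga_rel f hH w fun Y a a' => GaPts.gaFn_injective ?_
      letI := algGlobal ((Over.map f).obj Y)
      show Red.gaFn _ = Red.gaFn _
      simp only [w, ← Category.assoc]
      rw [GaPts.gaFn_mul, hu, gaFn_ptOfFn_val, gaFn_ptOfFn_val, gaFn_ptOfFn_val, val_mul]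
      let α := val ((Over.map f).map a ≫ u)
      let α' := val ((Over.map f).map a' ≫ u)
      show (toConv α * toConv α').ofConv x = α x + α' x
      obtain ⟨z, hz⟩ : Coalgebra.comul (R := k) b - b ⊗ₜ[k] (1 : A) ∈
          LinearMap.range ((Bn k A n).subtype.rTensor A) :=
        (mem_range_rTensor_subtype_iff _ _).mpr fun φ => by
          rw [map_sub, slice_tmul]
          exact (mem_Bn_succ k A n b).mp hb φ
      have hα : ∀ y : Bn k A n, α y = algebraMap k _ (Coalgebra.counit (R := k) (y : A)) := fun y => by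
        show val ((Over.map f).map a ≫ u) (y : A) = _
        rw [val_comp, ih y y.2]
        show ((Over.map f).map a).left.appTop (((Over.map f).obj H).hom.appTop _) =
          ((Over.map f).obj Y).hom.appTop _
        rw [← Over.w ((Over.map f).map a)]
        rfl
      have hL : ∀ t : Bn k A n ⊗[k] A, Algebra.TensorProduct.lift α α' (fun _ _ => Commute.all _ _)
          ((Bn k A n).subtype.rTensor A t) =
          α' (TensorProduct.lid k A ((Coalgebra.counit (R := k)).rTensor A ((Bn k A n).subtype.rTensor A t))) := by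
        intro t
        induction t using TensorProduct.induction_on with
        | zero => simp only [map_zero]
        | tmul y c =>
          simp only [LinearMap.rTensor_tmul, Submodule.coe_subtype, Algebra.TensorProduct.lift_tmul, hα,
            TensorProduct.lid_tmul, map_smul]
          exact (Algebra.smul_def _ _).symm
        | add t t' ht ht' => simp only [map_add, ht, ht']
      have h1 := hL z
      rw [hz, map_sub, map_sub, Coalgebra.rTensor_counit_comul, map_sub, LinearMap.rTensor_tmul,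
        TensorProduct.lid_tmul, TensorProduct.lid_tmul, Algebra.TensorProduct.lift_tmul] at h1
      simp only [one_smul, map_sub, map_smul, map_one, _root_.mul_one] at h1
      have h2 : (toConv α * toConv α').ofConv b = α b + (α' b - Coalgebra.counit (R := k) b • 1) := by
        rw [AlgHom.convMul_apply]
        exact sub_eq_iff_eq_add'.mp h1
      simp only [x, map_sub, AlgHom.commutes, h2, Algebra.smul_def, _root_.mul_one]
      ring
    have h := congrArg Red.gaFn hw
    rw [GaPts.gaFn_one, gaFn_ptOfFn_val, map_sub, AlgHom.commutes, sub_eq_zero] at h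
    exact h

/-- A Hopf algebra that becomes diagonalizable over a faithfully flat extension gives a group of multiplicative type. -/
theorem isMultTypeFT_sp_of_const {A : Type u} [CommRing A] [HopfAlgebra k A] [Algebra.FiniteType k A]
    (h : SGA3b.IsMultTypeConst k A) : SGA3x.IsMultTypeFT (sp k A) := by
  obtain ⟨R, _, _, hR, M, _, ⟨e⟩⟩ := h
  haveI := hR
  haveI : Nontrivial R := (TensorProduct.rid k R).symm.toEquiv.nontrivial
  haveI : Algebra.FiniteType R (MonoidAlgebra R M) := Algebra.FiniteType.equiv inferInstance (e : R ⊗[k] A ≃ₐ[R] _)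
  haveI : Monoid.FG M := MonoidAlgebra.fg_of_finiteType (R := R)
  obtain ⟨N, iN, hN, ⟨eN⟩⟩ := MultConjLib.exists_small_model M
  obtain ⟨d⟩ := MultConjLib.nonempty_bialgEquiv_of_mulEquiv R eN
  let g : Spec (CommRingCat.of R) ⟶ Spec (CommRingCat.of k) := Spec.map (CommRingCat.ofHom (algebraMap k R))
  obtain ⟨e₃⟩ := nonempty_bc_sp (R := k) R A
  obtain ⟨e₄⟩ := nonempty_DS_iso R N
  haveI : Flat g := (HasRingHomProperty.Spec_iff (P := @Flat)).mpr (RingHom.flat_algebraMap_iff.mpr inferInstance)
  haveI : Surjective g := ⟨fun y => ⟨Classical.arbitrary _, @Subsingleton.elim (PrimeSpectrum k) _ _ _⟩⟩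
  haveI : IsAffineHom g := isAffineHom_of_isAffine g
  obtain ⟨hfl, hcov⟩ := SubgroupEqLocus.flat_hcov_of_isCovering (FpqcDescLib.isCovering_of_quasiCompact g)
  refine ⟨_, g, hfl, inferInstance, hcov, fun s => ⟨⊤, trivial, N, iN, hN, ?_⟩⟩
  obtain ⟨e₁⟩ := MultTypeBC.bc_bc (⊤ : (Spec (CommRingCat.of R)).Opens).ι g (sp k A)
  obtain ⟨e₅⟩ := MultTypeBC.bc_iso (⊤ : (Spec (CommRingCat.of R)).Opens).ι (e₃ ≪≫ spIso (e.trans d).symm ≪≫ e₄)
  obtain ⟨e₆⟩ := MultTypeBC.bc_DS (⊤ : (Spec (CommRingCat.of R)).Opens).ι N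
  exact ⟨e₁.symm ≪≫ e₅ ≪≫ e₆⟩

set_option maxHeartbeats 1000000 in
/-- An affine algebraic group over a field has a reductive centre. -/
theorem exists_redCentre_field (G : Over (Spec (CommRingCat.of k))) [GrpObj G] [IsAffine G.left]
    [LocallyOfFiniteType G.hom] :
    ∃ (Z : Over (Spec (CommRingCat.of k))) (_ : GrpObj Z) (z : Z ⟶ G), IsRedCentre z := by
  obtain ⟨C, _, zc, hzm, hzcl, hzkey⟩ := TransLib.exists_centralizer (𝟙 G)
  haveI := hzm; haveI := hzcl
  haveI : Mono zc := Over.mono_of_mono_left zc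
  have hzc : Red.IsCentre zc := ⟨hzm, inferInstance, fun X g => hzkey X g⟩
  haveI : IsAffine C.left := isAffine_of_isAffineHom zc.left
  haveI : LocallyOfFiniteType C.hom := by rw [← Over.w zc]; infer_instance
  obtain ⟨A, _, _, ⟨e⟩⟩ := exists_hopf C
  let ε : sp k A ≅ C := (Grp.forget _).mapIso e
  haveI : IsMonHom ε.hom := e.hom.hom.isMonHom_hom
  haveI : IsMonHom ε.inv := e.inv.hom.isMonHom_hom
  haveI : IsIso ε.hom.left := inferInstanceAs (IsIso ((Over.forget _).map ε.hom))
  haveI : LocallyOfFiniteType (sp k A).hom := by rw [← Over.w ε.hom]; infer_instance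
  haveI : Algebra.FiniteType k A := RingHom.finiteType_algebraMap.mp
    ((HasRingHomProperty.Spec_iff (P := @LocallyOfFiniteType)).mp ‹LocallyOfFiniteType (sp k A).hom›)
  have hcomm : ∀ (X : Over (Spec (CommRingCat.of k))) (a b : X ⟶ sp k A), a * b = b * a := fun X a b => by
    rw [← cancel_mono (ε.hom ≫ zc), MonObj.mul_comp, MonObj.mul_comp]
    have h := (hzc.2.2 X (a ≫ ε.hom ≫ zc)).mp ⟨a ≫ ε.hom, Category.assoc _ _ _⟩ X (𝟙 X) (b ≫ ε.hom ≫ zc)
    rwa [Category.id_comp, Category.comp_id] at h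
  haveI : Coalgebra.IsCocomm k A := isCocomm_of_comm hcomm
  haveI := UniPart.isHopfIdeal_J (k := k) (A := A)
  let m : sp k (A ⧸ UniPart.J k A) ⟶ sp k A :=
    spMap (↑(Bialgebra.Quotient.mkBialgHom (R := k) (UniPart.J k A)) : A →ₐ[k] A ⧸ UniPart.J k A)
  haveI : IsMonHom m := isMonHom_spMap _
  haveI : IsClosedImmersion m.left := IsClosedImmersion.spec_of_surjective _ Ideal.Quotient.mk_surjective
  haveI : Mono m := Over.mono_of_mono_left m
  haveI : Algebra.FiniteType k (A ⧸ UniPart.J k A) :=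
    Algebra.FiniteType.of_surjective (Ideal.Quotient.mkₐ k (UniPart.J k A)) Ideal.Quotient.mk_surjective
  refine ⟨sp k (A ⧸ UniPart.J k A), inferInstance, m ≫ ε.hom ≫ zc, inferInstance, mono_comp _ _,
    isMultTypeFT_sp_of_const UniPart.isMultTypeConst_quot, fun X x g => ?_, fun S' f H _ v _ hH hv => ?_⟩
  · have h := (hzc.2.2 X ((x ≫ m ≫ ε.hom) ≫ zc)).mp ⟨_, rfl⟩ X (𝟙 X) g
    simpa only [Category.id_comp, Category.comp_id, Category.assoc] using h
  obtain ⟨q, hq⟩ := ((BC.isCentralizerOf_bc f hzc).2.2 H v).mpr fun X' x h => by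
    rw [CategoryTheory.Functor.map_id, Category.comp_id]; exact hv X' x h
  haveI : IsMonHom (q ≫ (Over.pullback f).map zc) := hq.symm ▸ ‹IsMonHom v›
  haveI : IsMonHom q := isMonHom_of_mono_comp q ((Over.pullback f).map zc)
  let u : (Over.map f).obj H ⟶ sp k A := DSPtsLib.theta f q ≫ ε.inv
  have hu : ∀ (Y : Over S') (a b : Y ⟶ H),
      (Over.map f).map (a * b) ≫ u = ((Over.map f).map a ≫ u) * ((Over.map f).map b ≫ u) := fun Y a b => by
    simp only [u, ← Category.assoc, ← DSPtsLib.theta_comp, MonObj.mul_comp, DSPtsLib.theta_mul]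
  letI := algGlobal ((Over.map f).obj H)
  have hJ : ∀ x ∈ UniPart.J k A, val u x = 0 := fun x hx => by
    have hle : UniPart.J k A ≤ RingHom.ker (val u) := Ideal.span_le.mpr fun b hb => by
      obtain ⟨n, hn⟩ := (mem_Bs k A b).mp hb.1
      show val u b = 0
      rw [val_eq_counit f hH u hu n b hn, hb.2, map_zero]
    exact hle hx
  let r : (Over.map f).obj H ⟶ sp k (A ⧸ UniPart.J k A) :=
    toAff _ ≫ spMap (Ideal.Quotient.liftₐ (UniPart.J k A) (val u) hJ)
  have hr : r ≫ m = u := by
    show (_ ≫ spMap _) ≫ spMap _ = _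
    rw [Category.assoc, spMap_comp]
    conv_rhs => rw [← toAff_spMap_val u]
    rfl
  obtain ⟨w, hw⟩ := (DSPtsLib.theta_bijective (H := sp k (A ⧸ UniPart.J k A)) f).2 r
  refine ⟨w, (DSPtsLib.theta_bijective f).1 ?_⟩
  rw [BC.theta_map, hw, reassoc_of% hr]
  simp only [u, Category.assoc, Iso.inv_hom_id_assoc]
  rw [← BC.theta_map, hq]

end Groth.Agent.RankLib
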