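import Groth.Agent.RankLib.LieTangent
import Groth.Agent.ComodLib.GradedAug
import Groth.Agent.CotTLib.SmoothField
import Mathlib.LinearAlgebra.FreeModule.Finite.Matrix

/-!
# The cotangent space of a smooth group with a split torus and enough root vectors

If a split torus with `r`-dimensional character group and root vectors for `q` distinct non-zero characters
exhaust the dimension, then the only weights on the cotangent space at the unit are zero and these characters.
-/

set_option autoImplicit false
set_option backward.isDefEq.respectTransparency false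
set_option backward.isDefEq.respectTransparency.types false

universe u

open CategoryTheory Limits AlgebraicGeometry MonoidalCategory CartesianMonoidalCategory MonObj GrpObj WithConv
open scoped TensorProduct
open MonoidAlgebra

namespace Groth.Agent.RankLib.RootCotangent

open GrpSchLib.AffineHopf GModLib GModLib.CentreWeights LieWeights LieTangent

variable {k : Type u} [Field k] {A : Type u} [CommRing A] [HopfAlgebra k A]

/-- An algebra map to the dual numbers over the counit. -/
def IsTangent (w : A →ₐ[k] DualNumber k) : Prop := ∀ a, (w a).fst = Coalgebra.counit (R := k) a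

/-- The linear form of an algebra map to the dual numbers. -/
noncomputable def form (w : A →ₐ[k] DualNumber k) : A →ₗ[k] k :=
  (TrivSqZeroExt.sndHom k k).comp w.toLinearMap

theorem form_apply (w : A →ₐ[k] DualNumber k) (a : A) : form w a = (w a).snd := rfl

theorem form_mul {w : A →ₐ[k] DualNumber k} (hw : IsTangent w) (a b : A) :
    form w (a * b) = Coalgebra.counit (R := k) a * form w b + Coalgebra.counit (R := k) b * form w a := by
  rw [form_apply, map_mul, TrivSqZeroExt.snd_mul, hw, hw, form_apply, form_apply]
  simp [mul_comm]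

/-- An ε-derivation as an algebra map to the dual numbers. -/
theorem exists_of_deriv (L : A →ₗ[k] k)
    (hL : ∀ a b, L (a * b) = Coalgebra.counit (R := k) a * L b + Coalgebra.counit (R := k) b * L a) :
    ∃ w : A →ₐ[k] DualNumber k, IsTangent w ∧ ∀ a, form w a = L a := by
  have h1 : L 1 = 0 := by
    have h := hL 1 1
    simp only [_root_.mul_one, Bialgebra.counit_one, _root_.one_mul] at h
    exact (add_eq_left.mp h.symm)
  refine ⟨AlgHom.ofLinearMap
    ((Algebra.linearMap k (DualNumber k)).comp (Coalgebra.counit (R := k) (A := A)) +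
      (TrivSqZeroExt.inrHom k k).comp L) ?_ (fun a b => ?_), fun a => ?_, fun a => ?_⟩
  · ext <;> simp [h1, TrivSqZeroExt.algebraMap_eq_inl']
  · ext <;> simp [TrivSqZeroExt.algebraMap_eq_inl', Bialgebra.counit_mul, hL] <;> ring
  · simp [TrivSqZeroExt.algebraMap_eq_inl']
  · simp [form_apply, TrivSqZeroExt.algebraMap_eq_inl']

/-- An ε-derivation killing a system of generators of the local ring at the unit vanishes, so there are at
most `dim A` independent ones. -/
theorem card_le_dim [Algebra.Smooth k A] {κ : Type} [Fintype κ] (w : κ → (A →ₐ[k] DualNumber k))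
    (hw : ∀ i, IsTangent (w i)) (hli : LinearIndependent k fun i => form (w i)) :
    ((Fintype.card κ : ℕ) : WithBot ℕ∞) ≤ ringKrullDim A := by
  classical
  haveI : IsNoetherianRing A := Algebra.FiniteType.isNoetherianRing k A
  let m : Ideal A := aug k A
  haveI : m.IsPrime := RingHom.ker_isPrime _
  haveI : IsRegularLocalRing (Localization.AtPrime m) := CotTLib.isRegularLocalRing_of_isSmoothAt (k := k) m
  let R := Localization.AtPrime m
  -- the tangent vectors extend to the local ring
  have hunit : ∀ (i : κ) (y : m.primeCompl), IsUnit (w i y) := fun i y => by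
    rw [TrivSqZeroExt.isUnit_iff_isUnit_fst, hw]
    exact isUnit_iff_ne_zero.mpr fun h => y.2 (mem_aug.mpr h)
  let W : κ → (R →+* DualNumber k) := fun i =>
    IsLocalization.lift (M := m.primeCompl) (g := (w i).toRingHom) (hunit i)
  have hW : ∀ i a, W i (algebraMap A R a) = w i a := fun i a => IsLocalization.lift_eq _ a
  have hw' : ∀ i a, (w i a).fst = Coalgebra.counit (R := k) a := hw
  obtain ⟨s, hs, hspan⟩ :=
    Submodule.FG.exists_span_set_encard_eq_spanFinrank (IsNoetherian.noetherian (IsLocalRing.maximalIdeal R))
  have hsfin : s.Finite := Set.finite_of_encard_eq_coe hs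
  haveI := hsfin.fintype
  let Φ : (κ → k) →ₗ[k] (s → k) :=
    LinearMap.pi fun g : s => ∑ i, (LinearMap.proj i : (κ → k) →ₗ[k] k).smulRight (W i (g : R)).snd
  have hΦ : Function.Injective Φ := by
    rw [injective_iff_map_eq_zero]
    intro c hc
    refine funext fun i => Fintype.linearIndependent_iff.mp hli c (LinearMap.ext fun a => ?_) i
    have hfst : ∀ i, ∀ x ∈ IsLocalRing.maximalIdeal R, (W i x).fst = 0 := fun i x hx => by
      by_contra hne
      obtain ⟨a, y, rfl⟩ := IsLocalization.exists_mk'_eq m.primeCompl x
      have ha : a ∈ m := by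
        by_contra ha
        exact (IsLocalRing.mem_maximalIdeal _).mp hx
          (IsLocalization.AtPrime.isUnit_mk'_iff R m a y |>.mpr ha)
      refine hne ?_
      have h1 := congrArg (fun z => (W i z).fst) (IsLocalization.mk'_spec R a y)
      simp only [map_mul, TrivSqZeroExt.fst_mul, hW, hw', mem_aug.mp ha] at h1
      exact (mul_eq_zero.mp h1).resolve_right fun h => y.2 (mem_aug.mpr h)
    have hker : ∀ x ∈ IsLocalRing.maximalIdeal R, ∑ i, c i * (W i x).snd = 0 := by
      intro x hx
      rw [← hspan] at hx
      induction hx using Submodule.span_induction with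
      | mem g hg =>
        have := congrFun hc ⟨g, hg⟩
        simpa [Φ, smul_eq_mul] using this
      | zero => simp
      | add p q _ _ hp hq => simp only [map_add, TrivSqZeroExt.snd_add, mul_add, Finset.sum_add_distrib, hp, hq, add_zero]
      | smul r p hp hp0 =>
        have hconst : ∀ i j, (W i r).fst = (W j r).fst := fun i j => by
          obtain ⟨a, y, rfl⟩ := IsLocalization.exists_mk'_eq m.primeCompl r
          have key : ∀ i, (W i (IsLocalization.mk' R a y)).fst =
              Coalgebra.counit (R := k) a / Coalgebra.counit (R := k) (y : A) := fun i => by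
            have h1 := congrArg (fun z => (W i z).fst) (IsLocalization.mk'_spec R a y)
            simp only [map_mul, TrivSqZeroExt.fst_mul, hW, hw'] at h1
            rw [← h1, mul_div_cancel_right₀]
            exact fun h => y.2 (mem_aug.mpr h)
          rw [key, key]
        rcases isEmpty_or_nonempty κ with hκ | ⟨⟨i₀⟩⟩
        · simp
        rw [smul_eq_mul]
        calc ∑ i, c i * (W i (r * p)).snd = ∑ i, (W i₀ r).fst * (c i * (W i p).snd) :=
              Finset.sum_congr rfl fun i _ => by
                have hp' : (W i p).fst = 0 := hfst i p (hspan ▸ hp)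
                rw [map_mul, TrivSqZeroExt.snd_mul, hconst i i₀, hp']
                simp
                ring
          _ = 0 := by rw [← Finset.mul_sum, hp0, mul_zero]
    have hmem : algebraMap A R (a - algebraMap k A (Coalgebra.counit (R := k) a)) ∈ IsLocalRing.maximalIdeal R :=
      (IsLocalization.AtPrime.to_map_mem_maximal_iff R m _).mpr (by
        rw [mem_aug, map_sub, Bialgebra.counit_algebraMap, sub_self])
    have h2 := hker _ hmem
    simp only [hW, map_sub, TrivSqZeroExt.snd_sub, AlgHom.commutes, TrivSqZeroExt.algebraMap_eq_inl',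
      TrivSqZeroExt.snd_inl, sub_zero] at h2
    simpa [form_apply] using h2
  have h1 : Fintype.card κ ≤ Fintype.card s := by
    simpa [Module.finrank_pi] using LinearMap.finrank_le_finrank_of_injective hΦ
  have h2 : (Fintype.card s : ℕ) = (IsLocalRing.maximalIdeal R).spanFinrank := by
    have : s.encard = (Fintype.card s : ℕ∞) := by rw [Set.encard_eq_coe_toFinset_card, Set.toFinset_card]
    exact_mod_cast this.symm.trans hs
  calc ((Fintype.card κ : ℕ) : WithBot ℕ∞) ≤ (((IsLocalRing.maximalIdeal R).spanFinrank : ℕ) : WithBot ℕ∞) := by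
        exact_mod_cast h1.trans h2.le
    _ = ringKrullDim R := (isRegularLocalRing_iff _).mp inferInstance
    _ = m.height := IsLocalization.AtPrime.ringKrullDim_eq_height m R
    _ ≤ ringKrullDim A := Ideal.height_le_ringKrullDim_of_ne_top Ideal.IsPrime.ne_top'

variable {M : Type} [AddCommGroup M] {tN : sp k (MonoidAlgebra k (Multiplicative M)) ⟶ sp k A} [IsMonHom tN]
  {σ : A →ₐ[k] MonoidAlgebra A (Multiplicative M)}
  (hσ : ∀ (R' : Type u) [CommRing R'] [Algebra k R'] (χ : Multiplicative M →* R') (x : A →ₐ[k] R'),
    (pt k χ ≫ tN) * spMap x * (pt k χ ≫ tN)⁻¹ = spMap ((ev χ x).comp σ))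

/-- The weight of a tangent vector: the conjugation rescales it by a character. -/
def HasWeight (σ : A →ₐ[k] MonoidAlgebra A (Multiplicative M)) (w : A →ₐ[k] DualNumber k) (n : M) : Prop :=
  ∀ (a : A) (m : M), [DecidableEq M] → form w ((σ a).coeff (Multiplicative.ofAdd m)) = if m = n then form w a else 0

theorem ev_of_coeff {D : Type u} [CommRing D] [Algebra k D] {N : Type} [CommGroup N] (w : A →ₐ[k] D)
    (F : MonoidAlgebra A N) (m : N) :
    (ev (MonoidAlgebra.of D N) ((MonoidAlgebra.singleOneAlgHom (R := k) (A := D) (M := N)).comp w) F).coeff m =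
      w (F.coeff m) := by
  induction F using MonoidAlgebra.induction_linear with
  | zero => simp
  | add F G hF hG => simp [hF, hG]
  | single n b =>
    classical
    rw [ev_single]
    simp only [AlgHom.comp_apply, MonoidAlgebra.singleOneAlgHom_apply, MonoidAlgebra.of_apply,
      MonoidAlgebra.single_mul_single, _root_.one_mul, _root_.mul_one, MonoidAlgebra.coeff_single, Finsupp.single_apply]
    split_ifs with hn <;> simp

include hσ in
/-- A tangent vector moved to its rescaling by the conjugation has a weight. -/
theorem hasWeight_of_scale (w : A →ₐ[k] DualNumber k) (hw : IsTangent w) (n : M)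
    (h : ∀ c : MonoidAlgebra (DualNumber k) (Multiplicative M),
      ∀ hc : c * c = 0, c = MonoidAlgebra.single (Multiplicative.ofAdd n) (DualNumber.eps : DualNumber k) →
      (pt k (MonoidAlgebra.of (DualNumber k) (Multiplicative M)) ≫ tN) *
        spMap ((MonoidAlgebra.singleOneAlgHom (R := k) (A := DualNumber k) (M := Multiplicative M)).comp w) *
        (pt k (MonoidAlgebra.of (DualNumber k) (Multiplicative M)) ≫ tN)⁻¹ = spMap ((theta c hc).comp w)) :
    HasWeight σ w n := by
  intro a m _
  let c : MonoidAlgebra (DualNumber k) (Multiplicative M) :=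
    MonoidAlgebra.single (Multiplicative.ofAdd n) (DualNumber.eps : DualNumber k)
  have hc : c * c = 0 := by rw [MonoidAlgebra.single_mul_single, DualNumber.eps_mul_eps, MonoidAlgebra.single_zero]
  have h1 := h c hc rfl
  rw [hσ] at h1
  have h2 := congrArg (fun f : A →ₐ[k] MonoidAlgebra (DualNumber k) (Multiplicative M) =>
    ((f a).coeff (Multiplicative.ofAdd m)).snd) (spMap_injective h1)
  simp only [AlgHom.comp_apply] at h2
  rw [ev_of_coeff, theta_apply, hw] at h2
  rw [form_apply, form_apply, h2]
  simp only [c, MonoidAlgebra.coeff_add, Finsupp.add_apply, MonoidAlgebra.coe_algebraMap, Function.comp_apply,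
    MonoidAlgebra.coeff_single, MonoidAlgebra.single_mul_single, _root_.one_mul, Finsupp.single_apply,
    TrivSqZeroExt.snd_add]
  by_cases hm : m = n
  · subst hm
    rw [if_pos rfl, if_pos rfl]
    split_ifs <;> simp [TrivSqZeroExt.algebraMap_eq_inl']
  · rw [if_neg hm, if_neg (fun e => hm (Multiplicative.ofAdd.injective e).symm)]
    split_ifs <;> simp [TrivSqZeroExt.algebraMap_eq_inl']

/-- The tangent vector of the torus in the direction of a linear form. -/
theorem exists_torus_tangent (d : M →+ k) :
    ∃ w : A →ₐ[k] DualNumber k, IsTangent w ∧ spMap w = pt k (tangentChar d) ≫ tN := by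
  obtain ⟨w, hw⟩ := exists_eq_spMap (pt k (tangentChar d) ≫ tN)
  refine ⟨w, fun a => ?_, hw.symm⟩
  have h : spMap (TrivSqZeroExt.fstHom k k k) ≫ spMap w = (1 : sp k k ⟶ sp k A) := by
    rw [← hw, ← Category.assoc, comp_pt]
    rw [show ((TrivSqZeroExt.fstHom k k k : DualNumber k →ₐ[k] k) : DualNumber k →* k).comp (tangentChar d) =
      (1 : Multiplicative M →* k) from MonoidHom.ext fun q => by simp [tangentChar], pt_one, MonObj.one_comp]
  rw [spMap_comp, ← spMap_counit] at h
  exact AlgHom.congr_fun (spMap_injective h) a

include hσ in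
/-- The tangent vectors of the torus have weight zero. -/
theorem hasWeight_torus (d : M →+ k) (w : A →ₐ[k] DualNumber k) (hw : IsTangent w)
    (hwt : spMap w = pt k (tangentChar d) ≫ tN) : HasWeight σ w 0 := by
  refine hasWeight_of_scale hσ w hw 0 fun c hc hc' => ?_
  have e : (MonoidAlgebra.singleOneAlgHom (R := k) (A := DualNumber k) (M := Multiplicative M)).comp w =
      (theta c hc).comp w := by
    congr 1
    refine DualNumber.algHom_ext ?_
    rw [theta_apply, hc']
    simp [MonoidAlgebra.singleOneAlgHom_apply]
  rw [← e, ← spMap_comp, hwt, ← Category.assoc, comp_pt, mul_inv_eq_iff_eq_mul, ← MonObj.mul_comp, ← MonObj.mul_comp,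
    ← pt_mul, ← pt_mul]
  refine congrArg (fun χ => pt k χ ≫ tN) (MonoidHom.ext fun x => ?_)
  change (MonoidAlgebra.of _ _ x : MonoidAlgebra (DualNumber k) (Multiplicative M)) *
    MonoidAlgebra.singleOneAlgHom (R := k) (tangentChar d x) =
    MonoidAlgebra.singleOneAlgHom (R := k) (tangentChar d x) * MonoidAlgebra.of _ _ x
  exact CommMonoid.mul_comm (M := MonoidAlgebra (DualNumber k) (Multiplicative M)) _ _

include hσ in
/-- The dimension count leaves no room for further weights. -/
theorem cotWeights_subset [Algebra.Smooth k A] [Module.Free ℤ M] [Module.Finite ℤ M] {idx : Type} [Fintype idx]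
    (α : idx → M) (hα : Function.Injective α) (hα0 : ∀ a, α a ≠ 0)
    (δ : idx → (A →ₐ[k] DualNumber k)) (hδ : ∀ a, IsTangent (δ a)) (hδw : ∀ a, HasWeight σ (δ a) (α a))
    (hδ0 : ∀ a, form (δ a) ≠ 0)
    (htN : ∀ χ : Multiplicative M →* DualNumber k, pt k χ ≫ tN = 1 → χ = 1)
    (hdim : ringKrullDim A ≤ ((Module.finrank ℤ M + Fintype.card idx : ℕ) : WithBot ℕ∞)) :
    cotWeights σ ⊆ insert 0 (Set.range α) := by
  classical
  rintro n ⟨a₀, ha₀, hna₀⟩
  by_contra hn
  simp only [Set.mem_insert_iff, Set.mem_range, not_or, not_exists] at hn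
  let b := (σ a₀).coeff (Multiplicative.ofAdd n)
  have hb : b ∈ aug k A := by
    rw [mem_aug, counit_coeff hσ, mem_aug.mp ha₀]
    simp
  have hbn : σ b = MonoidAlgebra.single (Multiplicative.ofAdd n) b := rho_coeff hσ a₀ _
  have hkill : ∀ (w : A →ₐ[k] DualNumber k) (m : M), HasWeight σ w m → n ≠ m → form w b = 0 := fun w m hw hne => by
    have h := hw b n
    rwa [hbn, MonoidAlgebra.coeff_single, Finsupp.single_eq_same, if_neg hne] at h
  obtain ⟨l, hlb, hl⟩ := Submodule.exists_le_ker_of_notMem (p := ((aug k A) ^ 2).restrictScalars k) (v := b)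
    (fun h => hna₀ ((Submodule.restrictScalars_mem k _ _).mp h))
  let lin : A →ₗ[k] k :=
    l ∘ₗ (LinearMap.id - (Algebra.linearMap k A).comp (Coalgebra.counit (R := k) (A := A)))
  have hlin : ∀ c, lin c = l (c - algebraMap k A (Coalgebra.counit (R := k) c)) := fun c => rfl
  obtain ⟨w₀, hw₀, hw₀'⟩ := exists_of_deriv lin fun p q => by
    have e : l ((p - algebraMap k A (Coalgebra.counit (R := k) p)) *
        (q - algebraMap k A (Coalgebra.counit (R := k) q))) = 0 := by
      refine hl (show _ ∈ aug k A ^ 2 from ?_)
      rw [pow_two]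
      refine Ideal.mul_mem_mul ?_ ?_ <;>
      · rw [mem_aug, map_sub, Bialgebra.counit_algebraMap, sub_self]
    rw [hlin, hlin, hlin, Bialgebra.counit_mul, map_mul]
    rw [show p * q - algebraMap k A (Coalgebra.counit (R := k) p) * algebraMap k A (Coalgebra.counit (R := k) q) =
      (p - algebraMap k A (Coalgebra.counit (R := k) p)) * (q - algebraMap k A (Coalgebra.counit (R := k) q)) +
      Coalgebra.counit (R := k) p • (q - algebraMap k A (Coalgebra.counit (R := k) q)) +
      Coalgebra.counit (R := k) q • (p - algebraMap k A (Coalgebra.counit (R := k) p)) by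
        simp only [Algebra.smul_def]; ring, map_add, map_add, e, map_smul, map_smul, zero_add]
    rfl
  -- torus directions
  let B := Module.Free.chooseBasis ℤ M
  let d : Module.Free.ChooseBasisIndex ℤ M → (M →+ k) := fun j =>
    (Int.castAddHom k).comp ((Finsupp.applyAddHom j).comp B.repr.toLinearMap.toAddMonoidHom)
  choose wT hwT hwT' using fun j => exists_torus_tangent (tN := tN) (d j)
  have hwTw : ∀ j, HasWeight σ (wT j) 0 := fun j => hasWeight_torus hσ _ _ (hwT j) (hwT' j)
  let fam : (Module.Free.ChooseBasisIndex ℤ M ⊕ idx) ⊕ Unit → (A →ₐ[k] DualNumber k) :=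
    Sum.elim (Sum.elim wT δ) fun _ => w₀
  have hfam : ∀ i, IsTangent (fam i) := by rintro ((j | a) | _) <;> simp [fam, hwT, hδ, hw₀]
  have hli : LinearIndependent k fun i => form (fam i) := by
    rw [Fintype.linearIndependent_iff]
    intro c hc
    have heval : ∀ z : A, ∑ j, c (.inl (.inl j)) * form (wT j) z + ∑ a, c (.inl (.inr a)) * form (δ a) z +
        c (.inr ()) * form w₀ z = 0 := fun z => by
      simpa [Fintype.sum_sum_type, fam, LinearMap.sum_apply] using LinearMap.congr_fun hc z
    have hu : c (.inr ()) = 0 := by
      have h := heval b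
      rw [Finset.sum_eq_zero fun j _ => by rw [hkill _ _ (hwTw j) hn.1, mul_zero],
        Finset.sum_eq_zero fun a _ => by rw [hkill _ _ (hδw a) (Ne.symm (hn.2 a)), mul_zero], zero_add, zero_add,
        hw₀', hlin, mem_aug.mp hb, map_zero, sub_zero] at h
      exact (mul_eq_zero.mp h).resolve_right hlb
    have ha : ∀ a, c (.inl (.inr a)) = 0 := fun a => by
      obtain ⟨z, hz⟩ : ∃ z, form (δ a) z ≠ 0 := by
        by_contra h
        exact hδ0 a (LinearMap.ext fun z => not_not.mp fun h' => h ⟨z, h'⟩)
      have h := heval ((σ z).coeff (Multiplicative.ofAdd (α a)))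
      rw [Finset.sum_eq_zero fun j _ => by rw [hwTw j z (α a), if_neg (hα0 a), mul_zero],
        Finset.sum_eq_single a (fun a' _ hne => by rw [hδw a' z (α a), if_neg (fun e => hne (hα e).symm), mul_zero])
          (fun h => absurd (Finset.mem_univ a) h), hu, hδw a z (α a), if_pos rfl, zero_mul, add_zero, zero_add] at h
      exact (mul_eq_zero.mp h).resolve_right hz
    have hsum : ∀ z, ∑ j, c (.inl (.inl j)) * form (wT j) z = 0 := fun z => by
      simpa [ha, hu] using heval z
    -- the combined direction
    let D : M →+ k := ∑ j, (AddMonoidHom.mulLeft (c (.inl (.inl j)))).comp (d j)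
    obtain ⟨wD, hwD, hwD'⟩ := exists_torus_tangent (tN := tN) D
    have hlinD : ∀ (s : Finset (Module.Free.ChooseBasisIndex ℤ M)) (w : A →ₐ[k] DualNumber k),
        spMap w = pt k (tangentChar (∑ j ∈ s, (AddMonoidHom.mulLeft (c (.inl (.inl j)))).comp (d j))) ≫ tN →
          IsTangent w → ∀ z, form w z = ∑ j ∈ s, c (.inl (.inl j)) * form (wT j) z := by
      intro s
      induction s using Finset.induction with
      | empty =>
        intro w hw hw' z
        have e : tangentChar (∑ j ∈ (∅ : Finset (Module.Free.ChooseBasisIndex ℤ M)),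
            (AddMonoidHom.mulLeft (c (.inl (.inl j)))).comp (d j)) = 1 :=
          MonoidHom.ext fun q => by ext <;> simp [tangentChar]
        rw [e, pt_one, MonObj.one_comp, ← spMap_counit] at hw
        rw [form_apply, ← AlgHom.congr_fun (spMap_injective hw).symm z]
        simp [Algebra.ofId_apply, TrivSqZeroExt.algebraMap_eq_inl']
      | insert j s hj ih =>
        intro w hw hw' z
        let cj := c (.inl (.inl j))
        have hcc : (TrivSqZeroExt.inr cj : DualNumber k) * TrivSqZeroExt.inr cj = 0 := TrivSqZeroExt.inr_mul_inr _ _ _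
        obtain ⟨ws, hws, hws'⟩ := exists_torus_tangent (tN := tN)
          (∑ j ∈ s, (AddMonoidHom.mulLeft (c (.inl (.inl j)))).comp (d j))
        let wj : A →ₐ[k] DualNumber k := (theta (TrivSqZeroExt.inr cj) hcc).comp (wT j)
        have hwj : spMap wj = pt k (tangentChar ((AddMonoidHom.mulLeft cj).comp (d j))) ≫ tN := by
          rw [← spMap_comp, hwT', ← Category.assoc, comp_pt]
          congr 2
          refine MonoidHom.ext fun q => ?_
          ext <;> simp [theta_apply, tangentChar, TrivSqZeroExt.algebraMap_eq_inl', mul_comm]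
        have hwjt : IsTangent wj := fun y => by
          simp [wj, theta_apply, hwT j y, TrivSqZeroExt.algebraMap_eq_inl']
        have e : tangentChar (∑ j ∈ insert j s, (AddMonoidHom.mulLeft (c (.inl (.inl j)))).comp (d j)) =
            tangentChar ((AddMonoidHom.mulLeft cj).comp (d j)) *
              tangentChar (∑ j ∈ s, (AddMonoidHom.mulLeft (c (.inl (.inl j)))).comp (d j)) := by
          rw [Finset.sum_insert hj]
          refine MonoidHom.ext fun q => ?_
          ext <;> simp [tangentChar, cj, add_comm]
        rw [e, pt_mul, MonObj.mul_comp, ← hwj, ← hws', spMap_mul] at hw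
        rw [Finset.sum_insert hj, ← ih ws hws' hws z, form_apply, spMap_injective hw, conv_apply wj ws (fun p q => by
          ext <;> simp [hwjt p, hws q, TrivSqZeroExt.algebraMap_eq_inl']) z]
        simp [wj, form_apply, theta_apply, cj, TrivSqZeroExt.algebraMap_eq_inl', mul_comm]
    have hD1 : tangentChar D = (1 : Multiplicative M →* DualNumber k) := by
      refine htN _ ?_
      rw [← hwD', ← spMap_counit]
      congr 1
      refine AlgHom.ext fun z => TrivSqZeroExt.ext ?_ ?_
      · rw [hwD z]; simp [Algebra.ofId_apply, TrivSqZeroExt.algebraMap_eq_inl']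
      · rw [← form_apply, hlinD _ wD hwD' hwD z, hsum]
        simp [Algebra.ofId_apply, TrivSqZeroExt.algebraMap_eq_inl']
    rintro ((j | a) | _)
    · have h := congrArg (fun χ : Multiplicative M →* DualNumber k => (χ (Multiplicative.ofAdd (B j))).snd) hD1
      simp [tangentChar, D, d, Finsupp.single_apply, AddMonoidHom.finset_sum_apply] at h
      exact h
    · exact ha a
    · exact hu
  have h := (card_le_dim fam hfam hli).trans hdim
  rw [Fintype.card_sum, Fintype.card_sum, Fintype.card_unit, ← Module.finrank_eq_card_basis B] at h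
  have h' : Module.finrank ℤ M + Fintype.card idx + 1 ≤ Module.finrank ℤ M + Fintype.card idx := by exact_mod_cast h
  omega

end Groth.Agent.RankLib.RootCotangent
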