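import Groth.Agent.RankLib.SplitRedFibre
import Groth.Agent.S5247
import Groth.Agent.GModLib.BorelRelative
import Groth.Agent.GModLib.CentreMultType
import Groth.Agent.GModLib.ReductiveSelfCent

/-!
# The centre of a split reductive group is the intersection of the kernels of the roots
-/

set_option autoImplicit false
set_option backward.isDefEq.respectTransparency false
set_option backward.isDefEq.respectTransparency.types false

universe u

open CategoryTheory Limits AlgebraicGeometry MonoidalCategory CartesianMonoidalCategory MonObj GrpObj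

namespace Groth.Agent.RankLib.SplitRedCentre

open GrpSchLib GrpSchLib.AffineHopf H23 GModLib SplitRedPts

variable {S : Scheme.{u}} {G : Over S} [GrpObj G]

/-- A subgroup whose centralizer agrees with it on the geometric fibres of a reductive group is its own
centralizer. -/
theorem isCentralizerOf_self {T : Over S} [GrpObj T] {i : T ⟶ G} (hi : Red.IsMaximalTorus i)
    (hG : Red.IsReductive G) [Flat T.hom] [LocallyOfFinitePresentation T.hom] (hT : SGA3x.IsMultTypeFT T)
    (hcomm : ∀ (X : Over S) (a b : X ⟶ T), a * b = b * a) : Red.IsCentralizerOf i i := by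
  haveI := hi.1; haveI := hi.2.1
  obtain ⟨hGa, hGs, hGf⟩ := hG
  obtain ⟨C, _, c, hc, hcc, hcs⟩ := Groth.Agent.S5247.result T G hT hGs hGa i
  haveI := hc.1; haveI := hc.2.1; haveI := hcs
  obtain ⟨v, hv⟩ := (hc.2.2 T i).mpr fun X x h => by
    rw [← MonObj.mul_comp, ← MonObj.mul_comp, hcomm]
  haveI : IsMonHom v := isMonHom_of_mul_points v fun X a b => by
    rw [← cancel_mono c, Category.assoc, hv, MonObj.mul_comp, MonObj.mul_comp, Category.assoc, Category.assoc, hv]
  haveI : IsIso v := isIso_of_geomFibres v fun s => by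
    obtain ⟨ha, hs, hn, hred⟩ := hGf s
    haveI := ha; haveI := hs; haveI := hn
    haveI : IsAffine (Red.bc (Red.geomPt s) G).left := ha
    haveI : Smooth (Red.bc (Red.geomPt s) G).hom := hs
    haveI : ConnectedSpace (Red.bc (Red.geomPt s) G).left := hn
    have hmax : AGF.IsMaxTorus ((Over.pullback (Red.geomPt s)).map i) :=
      ⟨inferInstance, inferInstance, isTorus_bc (Red.geomPt s) hi.2.2.1,
        fun T' _ j _ _ f hT' hf => hi.2.2.2 s T' j f hT' hf⟩
    have hself := isCentralizerOf_self_of_reductive (G := Red.bc (Red.geomPt s) G)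
      ((Over.pullback (Red.geomPt s)).map i) hmax ⟨ha, hs, hn, hred⟩
    have hC := BC.isCentralizerOf_bc (Red.geomPt s) hc
    haveI := hC.2.1; haveI := hself.2.1
    obtain ⟨e, he⟩ := (hself.2.2 _ ((Over.pullback (Red.geomPt s)).map c)).mpr fun X' x h =>
      (hC.2.2 _ _).mp ⟨𝟙 _, Category.id_comp _⟩ X' x h
    have hcv : (Over.pullback (Red.geomPt s)).map v ≫ (Over.pullback (Red.geomPt s)).map c =
        (Over.pullback (Red.geomPt s)).map i := by rw [← Functor.map_comp, hv]
    haveI : IsIso ((Over.pullback (Red.geomPt s)).map v) := ⟨e,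
      by rw [← cancel_mono ((Over.pullback (Red.geomPt s)).map i), Category.assoc, he, hcv, Category.id_comp],
      by rw [← cancel_mono ((Over.pullback (Red.geomPt s)).map c), Category.assoc, hcv, he, Category.id_comp]⟩
    exact inferInstanceAs (IsIso ((Over.forget _).map ((Over.pullback (Red.geomPt s)).map v)))
  refine ⟨inferInstance, inferInstance, fun X g => ⟨?_, fun h => ?_⟩⟩
  · rintro ⟨z, rfl⟩ X' x h
    rw [← Category.assoc, ← MonObj.mul_comp, ← MonObj.mul_comp, hcomm]
  · obtain ⟨z, hz⟩ := (hc.2.2 X g).mpr h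
    exact ⟨z ≫ inv v, by rw [← hv, Category.assoc, IsIso.inv_hom_id_assoc, hz]⟩

variable (D : Red.SplitRed G)

theorem isMultTypeFT_T : SGA3x.IsMultTypeFT D.T := by
  haveI : AddGroup.FG D.M := Module.Finite.iff_addGroup_fg.mp inferInstance
  exact isMultTypeFT_of_iso_DS ‹_› D.split

theorem flat_T : Flat D.T.hom ∧ LocallyOfFinitePresentation D.T.hom := by
  haveI : IsIso D.split.hom.hom.hom.left :=
    inferInstanceAs (IsIso ((Over.forget _).map ((Grp.forget _).mapIso D.split).hom))
  haveI : AddGroup.FG D.M := Module.Finite.iff_addGroup_fg.mp inferInstance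
  haveI : Module.Free (ULift.{u} ℤ) (MonoidAlgebra (ULift.{u} ℤ) (Multiplicative D.M)) :=
    Module.Free.of_basis (MonoidAlgebra.basis (Multiplicative D.M) (ULift.{u} ℤ))
  haveI h1 : Flat (Red.diag (ULift.{u} ℤ) D.M).hom :=
    (HasRingHomProperty.Spec_iff (P := @Flat)).mpr (RingHom.flat_algebraMap_iff.mpr inferInstance)
  haveI h2 : LocallyOfFinitePresentation (Red.diag (ULift.{u} ℤ) D.M).hom := by
    haveI : Algebra.FiniteType (ULift.{u} ℤ) (MonoidAlgebra (ULift.{u} ℤ) (Multiplicative D.M)) :=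
      MonoidAlgebra.finiteType_of_fg
    haveI : IsNoetherianRing (ULift.{u} ℤ) :=
      isNoetherianRing_of_ringEquiv ℤ (ULift.ringEquiv : ULift.{u} ℤ ≃+* ℤ).symm
    exact (HasRingHomProperty.Spec_iff (P := @LocallyOfFinitePresentation)).mpr
      (RingHom.finitePresentation_algebraMap.mpr (Algebra.FinitePresentation.of_finiteType.mp inferInstance))
  haveI h3 : Flat (Red.DS S D.M).hom := MorphismProperty.pullback_snd _ _ h1
  haveI h4 : LocallyOfFinitePresentation (Red.DS S D.M).hom := MorphismProperty.pullback_snd _ _ h2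
  rw [← Over.w D.split.hom.hom.hom]
  exact ⟨inferInstance, inferInstance⟩

theorem comm_T (X : Over S) (a b : X ⟶ D.T) : a * b = b * a :=
  ch_injective D (MonoidHom.ext fun m => by rw [ch_mul, ch_mul, _root_.mul_comm])

theorem exists_factor_of_central {X : Over S} (g : X ⟶ G)
    (hg : ∀ (X' : Over S) (x : X' ⟶ X) (h : X' ⟶ D.T), (x ≫ g) * (h ≫ D.i) = (h ≫ D.i) * (x ≫ g)) :
    ∃ t : X ⟶ D.T, t ≫ D.i = g := by
  haveI := (flat_T D).1; haveI := (flat_T D).2
  exact ((isCentralizerOf_self D.maximalTorus D.reductive (isMultTypeFT_T D) (comm_T D)).2.2 X g).mpr hg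

set_option maxHeartbeats 1000000 in
/-- The common kernel of the roots is central. -/
theorem central_of_ker_roots {X : Over S} (t : X ⟶ D.T)
    (ht : ∀ r, ch D t (Multiplicative.ofAdd (D.P.root r)) = 1) (X' : Over S) (x : X' ⟶ X) (h : X' ⟶ G) :
    (x ≫ t ≫ D.i) * h = h * (x ≫ t ≫ D.i) := by
  classical
  let Γ := AddSubgroup.closure (Set.range D.P.root)
  let Q := D.M ⧸ Γ
  let π : D.M →+ Q := QuotientAddGroup.mk' Γ
  have hQ : AddGroup.FG Q := by
    haveI : AddGroup.FG D.M := Module.Finite.iff_addGroup_fg.mp inferInstance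
    exact AddGroup.fg_of_surjective (QuotientAddGroup.mk'_surjective Γ)
  haveI := isMonHom_i D
  haveI : IsMonHom (Red.DSmap S π) := Groth.Agent.S5427.isMonHom_DSmap S π
  haveI : IsMonHom D.split.inv.hom.hom := D.split.inv.hom.isMonHom_hom
  let jT : Red.DS S Q ⟶ D.T := Red.DSmap S π ≫ D.split.inv.hom.hom
  let j : Red.DS S Q ⟶ G := jT ≫ D.i
  haveI : IsMonHom jT := inferInstanceAs (IsMonHom (Red.DSmap S π ≫ D.split.inv.hom.hom))
  haveI : IsMonHom j := inferInstanceAs (IsMonHom (jT ≫ D.i))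
  have hch : ∀ {Y : Over S} (q : Y ⟶ Red.DS S Q) (m : D.M),
      ch D (q ≫ jT) (Multiplicative.ofAdd m) = CharPts.chi (M := Q) q (Multiplicative.ofAdd (π m)) := fun q m => by
    rw [ch, Category.assoc, Category.assoc, split_inv_hom]
    exact (congrArg (fun z => CharPts.chi (M := D.M) z _) (congrArg (q ≫ ·) (Category.comp_id _))).trans
      (CharPts.chi_map π q _)
  obtain ⟨hGa, hGs, hGf⟩ := D.reductive
  haveI := hGs; haveI := hGa
  obtain ⟨C, _, c, hc, hcc, hcs⟩ :=
    Groth.Agent.S5247.result (Red.DS S Q) G (isMultTypeFT_of_iso_DS hQ (Iso.refl _)) hGs hGa j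
  haveI := hc.1; haveI := hc.2.1; haveI := hcs
  haveI : IsIso c := isIso_of_geomFibres c fun s => by
    let k := AlgebraicClosure (S.residueField s)
    let a := Red.geomPt s
    obtain ⟨hga, hgs, hgn, -⟩ := hGf s
    haveI : IsAffine (Red.bc a G).left := hga
    haveI : Smooth (Red.bc a G).hom := hgs
    haveI : ConnectedSpace (Red.bc a G).left := hgn
    obtain ⟨A, _, _, ⟨eG⟩⟩ := exists_hopf (Red.bc a G)
    let ε : Red.bc a G ≅ sp k A := ((Grp.forget _).mapIso eG).symm
    haveI : IsMonHom ε.hom := eG.inv.hom.isMonHom_hom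
    obtain ⟨σ, hσ⟩ := CentreWeights.exists_conj (SplitRedFibre.torus D a ε)
    haveI : IsAffineHom (Red.diag (ULift.{u} ℤ) Q).hom := inferInstanceAs (IsAffineHom (Spec.map _))
    haveI : IsAffineHom (Red.DS S Q).hom := MorphismProperty.pullback_snd _ _ ‹IsAffineHom (Red.diag (ULift.{u} ℤ) Q).hom›
    haveI : IsAffineHom (Red.bc a (Red.DS S Q)).hom :=
      MorphismProperty.pullback_snd (Red.DS S Q).hom a ‹IsAffineHom (Red.DS S Q).hom›
    haveI : IsAffine (Red.bc a (Red.DS S Q)).left := isAffine_of_isAffineHom (Red.bc a (Red.DS S Q)).hom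
    let P := Red.bc a (Red.DS S Q) ⊗ Red.bc a G
    haveI : IsAffine P.left := inferInstanceAs (IsAffine (pullback (Red.bc a (Red.DS S Q)).hom (Red.bc a G).hom))
    have huniv : (snd _ _ : P ⟶ _) * (fst _ _ ≫ (Over.pullback a).map j) =
        (fst _ _ ≫ (Over.pullback a).map j) * snd _ _ := by
      obtain ⟨W, _, _, e, he⟩ := GModLib.exists_sp_iso P
      haveI := he
      rw [← cancel_epi e, MonObj.comp_mul, MonObj.comp_mul, ← cancel_mono ε.hom, MonObj.mul_comp, MonObj.mul_comp]
      obtain ⟨χ, hχ⟩ := exists_eq_tpt D a ((e ≫ fst _ _) ≫ (Over.pullback a).map jT)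
      obtain ⟨y, hy⟩ := exists_eq_spMap ((e ≫ snd _ _) ≫ ε.hom)
      have he1 : (e ≫ fst _ _ ≫ (Over.pullback a).map j) ≫ ε.hom =
          CentreWeights.pt k χ ≫ SplitRedFibre.torus D a ε := by
        rw [SplitRedFibre.pt_torus, ← hχ, Functor.map_comp]
        simp only [Category.assoc]
      rw [he1, hy]
      refine (SplitRedFibre.commute_of_roots D a ε hσ (D.dim_fibre s).le χ (fun r => fnOf_injective (k := k) a ?_) y).symm
      rw [← ch_tpt, ← hχ, BC.theta_map, hch,
        show π (D.P.root r) = 0 from (QuotientAddGroup.eq_zero_iff _).mpr (AddSubgroup.subset_closure ⟨r, rfl⟩)]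
      exact (map_one _).trans (map_one (Scheme.ΓSpecIso (CommRingCat.of W)).inv.hom).symm
    obtain ⟨w, hw⟩ := ((BC.isCentralizerOf_bc a hc).2.2 _ (𝟙 (Red.bc a G))).mpr fun X' x h => by
      have h1 := congrArg (lift h x ≫ ·) huniv
      simp only [MonObj.comp_mul, lift_fst_assoc, lift_snd] at h1
      rw [Category.comp_id]
      exact h1
    haveI := (BC.isCentralizerOf_bc a hc).2.1
    haveI : IsIso ((Over.pullback a).map c) := ⟨w,
      (cancel_mono ((Over.pullback a).map c)).mp (by rw [Category.assoc, hw, Category.comp_id, Category.id_comp]), hw⟩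
    exact inferInstanceAs (IsIso ((Over.forget _).map ((Over.pullback a).map c)))
  -- the point factors through the kernel
  obtain ⟨q, hq⟩ := CharPts.exists_chi_eq (S := S) (T := X) (M := Q)
    (AddMonoidHom.toMultiplicativeLeft (QuotientAddGroup.lift Γ (MonoidHom.toAdditiveRight (ch D t))
      ((AddSubgroup.closure_le _).mpr (by rintro _ ⟨r, rfl⟩; exact congrArg Additive.ofMul (ht r)))))
  have hqt : q ≫ jT = t := ch_injective D (MonoidHom.ext fun m => by
    obtain ⟨m, rfl⟩ : ∃ n, Multiplicative.ofAdd n = m := ⟨m.toAdd, rfl⟩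
    rw [hch, hq]
    rfl)
  have hcomm := (hc.2.2 X' h).mp ⟨h ≫ inv c, by rw [Category.assoc, IsIso.inv_hom_id, Category.comp_id]⟩
    X' (𝟙 X') (x ≫ q)
  rw [Category.id_comp, show (x ≫ q) ≫ j = x ≫ t ≫ D.i by rw [← hqt]; simp only [j, Category.assoc]] at hcomm
  exact hcomm.symm

set_option maxHeartbeats 1000000 in
/-- The centre of a split reductive group is the intersection of the kernels of the roots. -/
theorem central_iff {X : Over S} (g : X ⟶ G) :
    (∀ (X' : Over S) (x : X' ⟶ X) (h : X' ⟶ G), (x ≫ g) * h = h * (x ≫ g)) ↔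
      ∃ t : X ⟶ D.T, t ≫ D.i = g ∧ ∀ a : D.idx, t ≫ D.split.hom.hom.hom ≫ Red.chi S (D.P.root a) = 1 := by
  constructor
  · intro hg
    obtain ⟨t, rfl⟩ := exists_factor_of_central D g fun X' x h => hg X' x (h ≫ D.i)
    refine ⟨t, rfl, fun r => (chi_eq_one_iff D t _).mpr ?_⟩
    haveI := mono_u D r
    let x : X ⟶ Red.Ga S := GaPts.ptOfFn 1
    let y : X ⟶ Red.Ga S := GaPts.ptOfFn (ch D t (Multiplicative.ofAdd (D.P.root r)))
    have h1 := rootHom_conj D r t x y (by rw [GaPts.gaFn_ptOfFn, GaPts.gaFn_ptOfFn, _root_.mul_one])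
    have h2 := hg X (𝟙 X) (x ≫ D.u r)
    rw [Category.id_comp] at h2
    rw [h2, mul_inv_cancel_right, cancel_mono] at h1
    have h3 := congrArg Red.gaFn h1
    rw [GaPts.gaFn_ptOfFn, GaPts.gaFn_ptOfFn] at h3
    exact h3.symm
  · rintro ⟨t, rfl, ht⟩ X' x h
    exact central_of_ker_roots D t (fun r => (chi_eq_one_iff D t _).mp (ht r)) X' x h

end Groth.Agent.RankLib.SplitRedCentre
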