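import Groth.Agent.H23.CharPts
import Groth.Agent.GrpSchLib.GaPts
import Groth.Agent.GModLib.CentralizerBC
import Groth.Agent.GModLib.CentreWeights
import Groth.Agent.S5427
import Groth.Prelude.Def_GmPts

/-!
# Points of a split torus and of the root groups, read on algebras over a point of the base
-/

set_option autoImplicit false
set_option backward.isDefEq.respectTransparency false
set_option backward.isDefEq.respectTransparency.types false

universe u

open CategoryTheory Limits AlgebraicGeometry MonoidalCategory CartesianMonoidalCategory MonObj GrpObj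

namespace Groth.Agent.RankLib.SplitRedPts

open GrpSchLib GrpSchLib.AffineHopf H23 GModLib

variable {S : Scheme.{u}} {G : Over S} [GrpObj G] (D : Red.SplitRed G)

/-- The character of a point of the torus. -/
noncomputable def ch {X : Over S} (t : X ⟶ D.T) : Multiplicative D.M →* Γ(X.left, ⊤) :=
  CharPts.chi (M := D.M) (t ≫ D.split.hom.hom.hom)

theorem isMonHom_split : IsMonHom D.split.hom.hom.hom := D.split.hom.hom.isMonHom_hom

theorem isMonHom_i : IsMonHom D.i := D.maximalTorus.1

theorem mono_i : Mono D.i := D.maximalTorus.2.1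

theorem split_hom_inv : D.split.hom.hom.hom ≫ D.split.inv.hom.hom = 𝟙 D.T :=
  ((Grp.forget _).mapIso D.split).hom_inv_id

theorem split_inv_hom : D.split.inv.hom.hom ≫ D.split.hom.hom.hom = 𝟙 (Red.DS S D.M) :=
  ((Grp.forget _).mapIso D.split).inv_hom_id

theorem ch_injective {X : Over S} : Function.Injective (ch D : (X ⟶ D.T) → _) := fun a b h => by
  have h1 := congrArg (· ≫ D.split.inv.hom.hom) (CharPts.chi_injective h)
  simpa only [Category.assoc, split_hom_inv, Category.comp_id] using h1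

theorem exists_ch_eq {X : Over S} (χ : Multiplicative D.M →* Γ(X.left, ⊤)) : ∃ t : X ⟶ D.T, ch D t = χ := by
  obtain ⟨x, hx⟩ := CharPts.exists_chi_eq (S := S) (T := X) χ
  refine ⟨x ≫ D.split.inv.hom.hom, ?_⟩
  rw [ch, Category.assoc, split_inv_hom, ← hx]
  exact congrArg _ (Category.comp_id _)

theorem ch_mul {X : Over S} (t t' : X ⟶ D.T) (m : Multiplicative D.M) : ch D (t * t') m = ch D t m * ch D t' m := by
  haveI := isMonHom_split D
  rw [ch, MonObj.mul_comp]
  exact CharPts.chi_mul _ _ m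

theorem ch_comp {X X' : Over S} (f : X' ⟶ X) (t : X ⟶ D.T) (m : Multiplicative D.M) :
    ch D (f ≫ t) m = f.left.appTop (ch D t m) := by
  rw [ch, Category.assoc]
  exact CharPts.chi_comp f _ m

theorem ch_one {X : Over S} : ch D (1 : X ⟶ D.T) = 1 := by
  refine MonoidHom.ext fun m => ?_
  have h := ch_mul D (1 : X ⟶ D.T) 1 m
  rw [_root_.one_mul] at h
  obtain ⟨v, hv⟩ : IsUnit (ch D (1 : X ⟶ D.T) m) := (Group.isUnit m).map _
  rw [← hv] at h ⊢
  exact v.isUnit.mul_left_cancel (h.symm.trans (_root_.mul_one _).symm)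

theorem gmFn_eq {X : Over S} (x : X ⟶ Red.Gm S) : Red.gmFn x = CharPts.chi (M := ℤ) x (Multiplicative.ofAdd 1) := rfl

/-- The value of a character on a point. -/
theorem gmFn_chi {X : Over S} (t : X ⟶ D.T) (m : D.M) :
    Red.gmFn (t ≫ D.split.hom.hom.hom ≫ Red.chi S m) = ch D t (Multiplicative.ofAdd m) := by
  rw [gmFn_eq, ← Category.assoc]
  refine (CharPts.chi_map (zmultiplesHom D.M m) (t ≫ D.split.hom.hom.hom) (Multiplicative.ofAdd (1 : ℤ))).trans ?_
  show ch D t _ = _
  simp

theorem chi_eq_one_iff {X : Over S} (t : X ⟶ D.T) (m : D.M) :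
    t ≫ D.split.hom.hom.hom ≫ Red.chi S m = 1 ↔ ch D t (Multiplicative.ofAdd m) = 1 := by
  rw [← gmFn_chi]
  constructor
  · intro h
    rw [h, GmPts.gmFn_one]
  · intro h
    refine GmPts.gmFn_injective ?_
    show Red.gmFn _ = Red.gmFn _
    rw [h, GmPts.gmFn_one]

/-- The root homomorphisms conjugated by the torus. -/
theorem rootHom_conj (a : D.idx) {X : Over S} (t : X ⟶ D.T) (x y : X ⟶ Red.Ga S)
    (hy : Red.gaFn y = ch D t (Multiplicative.ofAdd (D.P.root a)) * Red.gaFn x) :
    (t ≫ D.i) * (x ≫ D.u a) * (t ≫ D.i)⁻¹ = y ≫ D.u a := by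
  obtain ⟨y', hy', hgy⟩ := (D.rootHom a).2.2 X t x
  rw [← hy']
  congr 1
  refine GaPts.gaFn_injective ?_
  show Red.gaFn _ = Red.gaFn _
  rw [hgy, hy, gmFn_chi]

theorem ptOfFn_zero {X : Over S} : (GaPts.ptOfFn 0 : X ⟶ Red.Ga S) = 1 :=
  GaPts.gaFn_injective (by
    show Red.gaFn _ = Red.gaFn _
    rw [GaPts.gaFn_ptOfFn, GaPts.gaFn_one])

theorem isMonHom_u (a : D.idx) : IsMonHom (D.u a) := (D.rootHom a).1

theorem mono_u (a : D.idx) : Mono (D.u a) := by
  haveI := (D.rootHom a).2.1
  exact Over.mono_of_mono_left (D.u a)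

theorem root_ne_zero (a : D.idx) : D.P.root a ≠ 0 := D.P.ne_zero a

section Fibre

variable {k : Type u} [CommRing k] (a : Spec (CommRingCat.of k) ⟶ S) {C : Type u} [CommRing C] [Algebra k C]

/-- Constants as functions on the spectrum. -/
noncomputable def fnOf (c : C) : Γ(((Over.map a).obj (sp k C)).left, ⊤) :=
  (Scheme.ΓSpecIso (CommRingCat.of C)).inv c

/-- The point of the torus with a given character. -/
noncomputable def tpt (χ : Multiplicative D.M →* C) : sp k C ⟶ Red.bc a D.T :=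
  ((DSPtsLib.theta_bijective (Y := sp k C) (H := D.T) a).2 (exists_ch_eq D
    (((Scheme.ΓSpecIso (CommRingCat.of C)).inv.hom.toMonoidHom).comp χ)).choose).choose

theorem ch_tpt (χ : Multiplicative D.M →* C) (m : Multiplicative D.M) :
    ch D (DSPtsLib.theta a (tpt D a χ)) m = fnOf a (χ m) := by
  rw [tpt, ((DSPtsLib.theta_bijective (Y := sp k C) (H := D.T) a).2 _).choose_spec, (exists_ch_eq D _).choose_spec]
  rfl

theorem fnOf_injective : Function.Injective (fnOf a : C → _) :=
  ((Scheme.ΓSpecIso (CommRingCat.of C)).symm.commRingCatIsoToRingEquiv).injective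

theorem exists_eq_tpt (t : sp k C ⟶ Red.bc a D.T) : ∃ χ, t = tpt D a χ := by
  let e := (Scheme.ΓSpecIso (CommRingCat.of C))
  refine ⟨(e.hom.hom.toMonoidHom).comp (ch D (DSPtsLib.theta a t)),
    (DSPtsLib.theta_bijective a).1 (ch_injective D (MonoidHom.ext fun m => ?_))⟩
  rw [ch_tpt]
  exact (e.hom_inv_id_apply _).symm

theorem tpt_mul (χ χ' : Multiplicative D.M →* C) : tpt D a (χ * χ') = tpt D a χ * tpt D a χ' := by
  refine (DSPtsLib.theta_bijective a).1 (ch_injective D (MonoidHom.ext fun m => ?_))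
  rw [DSPtsLib.theta_mul, ch_mul, ch_tpt, ch_tpt, ch_tpt, MonoidHom.mul_apply]
  exact map_mul (Scheme.ΓSpecIso (CommRingCat.of C)).inv.hom _ _

theorem tpt_one : tpt D a (1 : Multiplicative D.M →* C) = 1 := by
  have h := tpt_mul D a (1 : Multiplicative D.M →* C) 1
  rw [_root_.one_mul] at h
  exact left_eq_mul.mp h

theorem tpt_injective : Function.Injective (tpt D a : (Multiplicative D.M →* C) → _) := fun χ χ' h =>
  MonoidHom.ext fun m => fnOf_injective a (by rw [← ch_tpt D a χ m, h, ch_tpt])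

variable {C' : Type u} [CommRing C'] [Algebra k C']

theorem appTop_fnOf (φ : C →ₐ[k] C') (c : C) :
    ((Over.map a).map (spMap φ)).left.appTop (fnOf a c) = fnOf a (φ c) :=
  (congrArg (fun f => f.hom c) (Scheme.ΓSpecIso_inv_naturality (CommRingCat.ofHom φ.toRingHom))).symm

theorem spMap_tpt (φ : C →ₐ[k] C') (χ : Multiplicative D.M →* C) :
    spMap φ ≫ tpt D a χ = tpt D a ((φ : C →* C').comp χ) := by
  refine (DSPtsLib.theta_bijective a).1 (ch_injective D (MonoidHom.ext fun m => ?_))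
  rw [DSPtsLib.theta_comp, ch_comp, ch_tpt, ch_tpt, appTop_fnOf]
  rfl

/-- The point of a root group with a given coordinate. -/
noncomputable def rootPt (r : D.idx) (c : C) : sp k C ⟶ Red.bc a G :=
  ((DSPtsLib.theta_bijective (Y := sp k C) (H := G) a).2
    ((GaPts.ptOfFn (fnOf a c) : (Over.map a).obj (sp k C) ⟶ Red.Ga S) ≫ D.u r)).choose

theorem theta_rootPt (r : D.idx) (c : C) :
    DSPtsLib.theta a (rootPt D a r c) =
      (GaPts.ptOfFn (fnOf a c) : (Over.map a).obj (sp k C) ⟶ Red.Ga S) ≫ D.u r :=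
  ((DSPtsLib.theta_bijective (Y := sp k C) (H := G) a).2 _).choose_spec

theorem spMap_rootPt (φ : C →ₐ[k] C') (r : D.idx) (c : C) :
    spMap φ ≫ rootPt D a r c = rootPt D a r (φ c) := by
  refine (DSPtsLib.theta_bijective a).1 ?_
  rw [DSPtsLib.theta_comp, theta_rootPt, theta_rootPt, ← Category.assoc]
  congr 1
  refine GaPts.gaFn_injective ?_
  show Red.gaFn _ = Red.gaFn _
  rw [GaPts.gaFn_comp, GaPts.gaFn_ptOfFn, GaPts.gaFn_ptOfFn, appTop_fnOf]

theorem rootPt_injective (r : D.idx) : Function.Injective (rootPt D a r : C → _) := fun c c' h => by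
  haveI := mono_u D r
  have h1 := congrArg (DSPtsLib.theta a) h
  rw [theta_rootPt, theta_rootPt, cancel_mono] at h1
  have h2 := congrArg Red.gaFn h1
  rw [GaPts.gaFn_ptOfFn, GaPts.gaFn_ptOfFn] at h2
  exact fnOf_injective a h2

theorem rootPt_zero (r : D.idx) : rootPt D a r (0 : C) = 1 := by
  haveI := isMonHom_u D r
  have h : fnOf a (0 : C) = 0 := map_zero (Scheme.ΓSpecIso (CommRingCat.of C)).inv.hom
  refine (DSPtsLib.theta_bijective a).1 ?_
  rw [theta_rootPt, h, ptOfFn_zero, MonObj.one_comp]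
  have h' := DSPtsLib.theta_mul a (1 : sp k C ⟶ Red.bc a G) 1
  rw [_root_.one_mul] at h'
  exact (left_eq_mul.mp h').symm

/-- The torus rescales the root groups. -/
theorem rootPt_conj (r : D.idx) (χ : Multiplicative D.M →* C) (c : C) :
    (tpt D a χ ≫ (Over.pullback a).map D.i) * rootPt D a r c * (tpt D a χ ≫ (Over.pullback a).map D.i)⁻¹ =
      rootPt D a r (χ (Multiplicative.ofAdd (D.P.root r)) * c) := by
  haveI := isMonHom_i D
  refine (DSPtsLib.theta_bijective a).1 ?_
  rw [DSPtsLib.theta_mul, DSPtsLib.theta_mul, BC.theta_inv, BC.theta_map, theta_rootPt, theta_rootPt]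
  refine rootHom_conj D r _ _ _ ?_
  rw [GaPts.gaFn_ptOfFn, GaPts.gaFn_ptOfFn, ch_tpt]
  exact map_mul (Scheme.ΓSpecIso (CommRingCat.of C)).inv.hom _ _

end Fibre

end Groth.Agent.RankLib.SplitRedPts
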