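import Groth.Agent.RankLib.RootCotangent
import Groth.Agent.RankLib.SplitRedPts
import Groth.Agent.RankLib.NilpotentMult

/-!
# The weights of a split torus on a geometric fibre of a split reductive group
-/

set_option autoImplicit false
set_option backward.isDefEq.respectTransparency false
set_option backward.isDefEq.respectTransparency.types false

universe u

open CategoryTheory Limits AlgebraicGeometry MonoidalCategory CartesianMonoidalCategory MonObj GrpObj WithConv
open scoped TensorProduct
open MonoidAlgebra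

namespace Groth.Agent.RankLib.SplitRedFibre

open GrpSchLib GrpSchLib.AffineHopf GModLib GModLib.CentreWeights LieWeights LieTangent RootCotangent SplitRedPts

variable {S : Scheme.{u}} {G : Over S} [GrpObj G] (D : Red.SplitRed G)

section Torus

variable {k : Type u} [CommRing k]
  (a : Spec (CommRingCat.of k) ⟶ S) {A : Type u} [CommRing A] [HopfAlgebra k A]
  (ε : Red.bc a G ≅ sp k A) [IsMonHom ε.hom]

/-- The torus in the model of the fibre. -/
noncomputable def torus : sp k (MonoidAlgebra k (Multiplicative D.M)) ⟶ sp k A :=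
  tpt D a (MonoidAlgebra.of k (Multiplicative D.M)) ≫ (Over.pullback a).map D.i ≫ ε.hom

theorem pt_tpt {C : Type u} [CommRing C] [Algebra k C] (χ : Multiplicative D.M →* C) :
    CentreWeights.pt k χ ≫ tpt D a (MonoidAlgebra.of k (Multiplicative D.M)) = tpt D a χ := by
  rw [CentreWeights.pt, spMap_tpt]
  congr 1
  exact MonoidHom.ext fun m => MonoidAlgebra.lift_of _ _

theorem pt_torus {C : Type u} [CommRing C] [Algebra k C] (χ : Multiplicative D.M →* C) :
    CentreWeights.pt k χ ≫ torus D a ε = tpt D a χ ≫ (Over.pullback a).map D.i ≫ ε.hom := by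
  rw [torus, ← Category.assoc, pt_tpt]

theorem isMonHom_torus : IsMonHom (torus D a ε) := by
  haveI := isMonHom_i D
  haveI : IsMonHom ((Over.pullback a).map D.i) := inferInstance
  haveI : IsMonHom ((Over.pullback a).map D.i ≫ ε.hom) := inferInstance
  let X := sp k (MonoidAlgebra k (Multiplicative D.M))
  haveI : IsAffine X.left := inferInstanceAs (IsAffine (Spec _))
  haveI : IsAffineHom (pullback.fst X.hom X.hom) := MorphismProperty.pullback_fst _ _ inferInstance
  haveI : IsAffine (X ⊗ X).left := isAffine_of_isAffineHom (pullback.fst X.hom X.hom)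
  obtain ⟨W, _, _, e, he⟩ := exists_sp_iso (X ⊗ X)
  haveI := he
  have huniv : (fst X X * snd X X) ≫ torus D a ε = (fst X X ≫ torus D a ε) * (snd X X ≫ torus D a ε) := by
    rw [← cancel_epi e, ← Category.assoc, MonObj.comp_mul, MonObj.comp_mul, ← Category.assoc, ← Category.assoc]
    obtain ⟨f₁, hf₁⟩ := exists_eq_spMap (e ≫ fst X X)
    obtain ⟨f₂, hf₂⟩ := exists_eq_spMap (e ≫ snd X X)
    have h₁ : e ≫ fst X X = CentreWeights.pt k ((MonoidAlgebra.lift k W (Multiplicative D.M)).symm f₁) :=
      hf₁.trans (congrArg spMap ((MonoidAlgebra.lift k W (Multiplicative D.M)).apply_symm_apply f₁).symm)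
    have h₂ : e ≫ snd X X = CentreWeights.pt k ((MonoidAlgebra.lift k W (Multiplicative D.M)).symm f₂) :=
      hf₂.trans (congrArg spMap ((MonoidAlgebra.lift k W (Multiplicative D.M)).apply_symm_apply f₂).symm)
    rw [h₁, h₂, ← pt_mul, pt_torus, pt_torus, pt_torus, tpt_mul, MonObj.mul_comp]
  have key : ∀ (T : Over (Spec (CommRingCat.of k))) (x y : T ⟶ X),
      (x * y) ≫ torus D a ε = (x ≫ torus D a ε) * (y ≫ torus D a ε) := by
    intro T x y
    have h := congrArg (lift x y ≫ ·) huniv
    simpa only [← Category.assoc, MonObj.comp_mul, lift_fst, lift_snd] using h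
  exact @isMonHom_of_mul_points _ _ _ _ _ (torus D a ε) key

end Torus

variable {k : Type u} [Field k] (a : Spec (CommRingCat.of k) ⟶ S) {A : Type u} [CommRing A] [HopfAlgebra k A]
  (ε : Red.bc a G ≅ sp k A) [IsMonHom ε.hom]

/-- The root vector. -/
noncomputable def rootVec (r : D.idx) : A →ₐ[k] DualNumber k :=
  (exists_eq_spMap (rootPt D a r (DualNumber.eps : DualNumber k) ≫ ε.hom)).choose

theorem rootVec_spec (r : D.idx) :
    rootPt D a r (DualNumber.eps : DualNumber k) ≫ ε.hom = spMap (rootVec D a ε r) :=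
  (exists_eq_spMap (rootPt D a r (DualNumber.eps : DualNumber k) ≫ ε.hom)).choose_spec

theorem isTangent_rootVec (r : D.idx) : IsTangent (rootVec D a ε r) := fun b => by
  have h : spMap (TrivSqZeroExt.fstHom k k k) ≫ spMap (rootVec D a ε r) = (1 : sp k k ⟶ sp k A) := by
    rw [← rootVec_spec, ← Category.assoc, spMap_rootPt,
      show TrivSqZeroExt.fstHom k k k (DualNumber.eps : DualNumber k) = 0 by simp,
      rootPt_zero, MonObj.one_comp]
  rw [spMap_comp, ← spMap_counit] at h
  exact AlgHom.congr_fun (spMap_injective h) b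

theorem form_rootVec_ne_zero (r : D.idx) : form (rootVec D a ε r) ≠ 0 := fun h => by
  have h1 : rootVec D a ε r = (Algebra.ofId k _).comp (Bialgebra.counitAlgHom k A) :=
    AlgHom.ext fun b => TrivSqZeroExt.ext
      (by rw [isTangent_rootVec D a ε r b]; simp [Algebra.ofId_apply, TrivSqZeroExt.algebraMap_eq_inl'])
      (by rw [← form_apply, h]; simp [Algebra.ofId_apply, TrivSqZeroExt.algebraMap_eq_inl'])
  have h2 := rootVec_spec D a ε r
  rw [h1, spMap_counit, ← MonObj.one_comp (f := ε.hom), cancel_mono, ← rootPt_zero D a r (C := DualNumber k)] at h2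
  exact one_ne_zero (α := k) (congrArg TrivSqZeroExt.snd (rootPt_injective D a r h2))

variable {σ : A →ₐ[k] MonoidAlgebra A (Multiplicative D.M)}
  (hσ : ∀ (R' : Type u) [CommRing R'] [Algebra k R'] (χ : Multiplicative D.M →* R') (x : A →ₐ[k] R'),
    (CentreWeights.pt k χ ≫ torus D a ε) * spMap x * (CentreWeights.pt k χ ≫ torus D a ε)⁻¹ = spMap ((ev χ x).comp σ))

include hσ in
theorem hasWeight_rootVec (r : D.idx) : HasWeight σ (rootVec D a ε r) (D.P.root r) := by
  haveI := isMonHom_torus D a ε
  refine hasWeight_of_scale hσ _ (isTangent_rootVec D a ε r) _ fun c hc hc' => ?_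
  rw [pt_torus, ← spMap_comp, ← rootVec_spec, ← spMap_comp, ← rootVec_spec, ← Category.assoc, ← Category.assoc,
    ← Category.assoc, ← GrpObj.inv_comp, ← MonObj.mul_comp, ← MonObj.mul_comp, spMap_rootPt, spMap_rootPt, rootPt_conj]
  congr 2
  rw [theta_apply, hc']
  simp [MonoidAlgebra.of_apply, MonoidAlgebra.singleOneAlgHom_apply, MonoidAlgebra.single_mul_single]

theorem eq_one_of_pt_torus {C : Type u} [CommRing C] [Algebra k C] (χ : Multiplicative D.M →* C)
    (h : CentreWeights.pt k χ ≫ torus D a ε = 1) : χ = 1 := by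
  haveI := isMonHom_i D
  haveI := mono_i D
  haveI : Mono ((Over.pullback a).map D.i) := inferInstance
  refine tpt_injective D a ?_
  rw [tpt_one, ← cancel_mono ((Over.pullback a).map D.i), ← cancel_mono ε.hom, Category.assoc, ← pt_torus, h,
    MonObj.one_comp, MonObj.one_comp]

include hσ in
set_option maxHeartbeats 1000000 in
/-- A character trivial on the roots gives a central point. -/
theorem commute_of_roots [IsAlgClosed k] [Smooth (Red.bc a G).hom] [ConnectedSpace (Red.bc a G).left]
    (hdim : topologicalKrullDim ↥(Red.bc a G).left ≤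
      ((Module.finrank ℤ D.M + Fintype.card D.idx : ℕ) : WithBot ℕ∞))
    {W : Type u} [CommRing W] [Algebra k W] (χ : Multiplicative D.M →* W)
    (hχ : ∀ r, χ (Multiplicative.ofAdd (D.P.root r)) = 1) (x : A →ₐ[k] W) :
    (CentreWeights.pt k χ ≫ torus D a ε) * spMap x = spMap x * (CentreWeights.pt k χ ≫ torus D a ε) := by
  haveI := isMonHom_torus D a ε
  haveI : IsIso ε.inv.left := inferInstanceAs (IsIso ((Over.forget _).map ε.inv))
  haveI : IsIso ε.hom.left := inferInstanceAs (IsIso ((Over.forget _).map ε.hom))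
  haveI : Smooth (sp k A).hom := by rw [← Over.w ε.inv]; infer_instance
  haveI : Algebra.Smooth k A := RingHom.smooth_algebraMap.mp
    ((HasRingHomProperty.Spec_iff (P := @Smooth)).mp ‹Smooth (sp k A).hom›)
  haveI : Algebra.FiniteType k A := inferInstance
  haveI : AlgebraicGeometry.IsReduced (Spec (CommRingCat.of A)) := GrpSchLib.isReduced_of_smooth_field (sp k A).hom
  haveI : _root_.IsReduced A := (affine_isReduced_iff (CommRingCat.of A)).mp inferInstance
  haveI : ConnectedSpace (PrimeSpectrum A) :=
    (ε.hom.left.surjective).connectedSpace ε.hom.left.continuous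
  have hidem : ∀ e : A, IsIdempotentElem e → e = 0 ∨ e = 1 := fun e he => by
    have h := isClopen_iff.mp (PrimeSpectrum.isClopen_iff.mpr ⟨e, he, rfl⟩ : IsClopen
      (PrimeSpectrum.basicOpen e : Set (PrimeSpectrum A)))
    rcases h with h | h
    · left
      have : IsNilpotent e := (PrimeSpectrum.basicOpen_eq_bot_iff e).mp (TopologicalSpace.Opens.ext h)
      exact IsNilpotent.eq_zero this
    · right
      have hu : IsUnit e := by
        by_contra hu
        obtain ⟨P, hP, heP⟩ := exists_max_ideal_of_mem_nonunits (mem_nonunits_iff.mpr hu)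
        have hm : (⟨P, hP.isPrime⟩ : PrimeSpectrum A) ∈ (PrimeSpectrum.basicOpen e : Set (PrimeSpectrum A)) := by
          rw [h]; trivial
        exact hm heP
      exact hu.mul_left_cancel (by rw [he.eq, _root_.mul_one])
  haveI : IsDomain A := ComodLib.isDomain_of_connected k hidem
  haveI : IsNoetherianRing A := Algebra.FiniteType.isNoetherianRing k A
  have hdimA : ringKrullDim A ≤ ((Module.finrank ℤ D.M + Fintype.card D.idx : ℕ) : WithBot ℕ∞) := by
    rw [← PrimeSpectrum.topologicalKrullDim_eq_ringKrullDim A]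
    exact (IsHomeomorph.topologicalKrullDim_eq _ ε.inv.left.homeomorph.isHomeomorph).trans_le hdim
  have hsub := cotWeights_subset hσ (fun r => D.P.root r) D.P.root.injective (root_ne_zero D)
    (rootVec D a ε) (isTangent_rootVec D a ε) (hasWeight_rootVec D a ε hσ) (form_rootVec_ne_zero D a ε)
    (eq_one_of_pt_torus D a ε) hdimA
  refine commute_in_fibre hσ ⊥ (RingHom.id k) ((RingHom.injective_iff_ker_eq_bot _).mp Function.injective_id)
    (algebraMap k W) (RingHom.comp_id _) χ (fun n hn => ?_) x
  have hn' : n ∈ AddSubgroup.closure (cotWeights σ) := (AddSubgroup.closure_le _).mpr (weightSet_le hσ) hn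
  clear hn
  induction hn' using AddSubgroup.closure_induction with
  | mem y hy =>
    rcases hsub hy with rfl | ⟨r, rfl⟩
    · exact map_one χ
    · exact hχ r
  | zero => exact map_one χ
  | add y z _ _ hy hz => rw [ofAdd_add, map_mul, hy, hz, _root_.one_mul]
  | neg y _ hy =>
    have h2 : χ (Multiplicative.ofAdd (-y)) * χ (Multiplicative.ofAdd y) = 1 := by
      rw [← map_mul, ← ofAdd_add, neg_add_cancel, ofAdd_zero, map_one]
    rwa [hy, _root_.mul_one] at h2

end Groth.Agent.RankLib.SplitRedFibre
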