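import Mathlib.RingTheory.Flat.Basic
import Mathlib.RingTheory.Bialgebra.Convolution
import Mathlib.RingTheory.Noetherian.Basic
import Mathlib.RingTheory.Coalgebra.Convolution
import Mathlib.LinearAlgebra.TensorProduct.Tower

/-!
# Finite stable submodules of flat bialgebras over Noetherian rings and the action of points on them
-/

set_option autoImplicit false

universe u

open TensorProduct Coalgebra WithConv

noncomputable section

namespace Groth.Agent.RankLib

variable {R H : Type u} [CommRing R] [CommRing H] [Bialgebra R H]

/-- A finite submodule with a coaction compatible with the comultiplication. -/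
structure StableSub (R H : Type u) [CommRing R] [CommRing H] [Bialgebra R H] where
  E : Submodule R H
  fin : Module.Finite R E
  coact : E →ₗ[R] E ⊗[R] H
  coact_val : ∀ e, E.subtype.rTensor H (coact e) = comul (R := R) (e : H)
  coassoc : ∀ e, TensorProduct.assoc R E H H (coact.rTensor H (coact e)) =
    (comul (R := R) (A := H)).lTensor E (coact e)

/-- Finite sets lie in finite stable submodules. -/
theorem exists_stableSub [IsNoetherianRing R] [Module.Flat R H] (s : Finset H) :
    ∃ P : StableSub R H, ↑s ⊆ (P.E : Set H) := by
  classical
  choose S hS using fun a : H => TensorProduct.exists_finset (comul (R := R) a)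
  let V : Submodule R H := Submodule.span R (↑(s.biUnion fun a => (S a).image Prod.fst))
  let q : H →ₗ[R] (H ⧸ V) := V.mkQ
  let Θ : H →ₗ[R] (H ⧸ V) ⊗[R] H := q.rTensor H ∘ₗ comul
  let E : Submodule R H := LinearMap.ker Θ
  have hEV : E ≤ V := fun x hx => by
    have h : (TensorProduct.rid R (H ⧸ V)) ((counit (R := R) (A := H)).lTensor _ (Θ x)) = 0 := by
      rw [LinearMap.mem_ker.mp hx, map_zero, map_zero]
    have h' : ∀ z : H ⊗[R] H, (TensorProduct.rid R (H ⧸ V)) ((counit (R := R) (A := H)).lTensor _ (q.rTensor H z)) =
        q ((TensorProduct.rid R H) ((counit (R := R) (A := H)).lTensor H z)) := by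
      intro z
      induction z using TensorProduct.induction_on with
      | zero => simp
      | add a b ha hb => simp only [map_add, ha, hb]
      | tmul a b => simp
    rw [show Θ x = q.rTensor H (comul x) from rfl, h', Coalgebra.lTensor_counit_comul, TensorProduct.rid_tmul,
      one_smul] at h
    exact (Submodule.Quotient.mk_eq_zero V).mp h
  have hfin : Module.Finite R E :=
    Module.Finite.iff_fg.mpr (Submodule.FG.of_le ⟨_, rfl⟩ hEV)
  have hex : Function.Exact E.subtype Θ := LinearMap.exact_iff.mpr (E.range_subtype).symm
  have hexH := Module.Flat.rTensor_exact H hex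
  have hinj : Function.Injective (E.subtype.rTensor H) :=
    Module.Flat.rTensor_preserves_injective_linearMap _ Subtype.val_injective
  have hrange : ∀ x ∈ E, comul (R := R) x ∈ LinearMap.range (E.subtype.rTensor H) := fun x hx => by
    rw [← LinearMap.exact_iff.mp hexH, LinearMap.mem_ker]
    have h1 : ∀ z : H ⊗[R] H, Θ.rTensor H z =
        (TensorProduct.assoc R _ H H).symm (q.rTensor (H ⊗[R] H) (TensorProduct.assoc R H H H ((comul (R := R)).rTensor H z))) := by
      intro z
      induction z using TensorProduct.induction_on with
      | zero => simp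
      | add a b ha hb => simp only [map_add, ha, hb]
      | tmul a b =>
        simp only [LinearMap.rTensor_tmul, Θ, LinearMap.comp_apply]
        generalize comul (R := R) a = w
        induction w using TensorProduct.induction_on with
        | zero => simp
        | add c d hc hd => simp only [map_add, add_tmul, hc, hd]
        | tmul c d => simp
    rw [h1, Coalgebra.coassoc_apply]
    have h2 : ∀ z : H ⊗[R] H, q.rTensor (H ⊗[R] H) ((comul (R := R)).lTensor H z) =
        (comul (R := R)).lTensor (H ⧸ V) (q.rTensor H z) := by
      intro z
      induction z using TensorProduct.induction_on with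
      | zero => simp
      | add a b ha hb => simp only [map_add, ha, hb]
      | tmul a b => simp
    rw [h2, show q.rTensor H (comul x) = Θ x from rfl, LinearMap.mem_ker.mp hx, map_zero, map_zero]
  let e' := LinearEquiv.ofInjective _ hinj
  let δ : E →ₗ[R] E ⊗[R] H :=
    e'.symm.toLinearMap ∘ₗ (comul ∘ₗ E.subtype).codRestrict _ fun x => hrange x.1 x.2
  have hδ : ∀ x, E.subtype.rTensor H (δ x) = comul (R := R) (x : H) := fun x => by
    show E.subtype.rTensor H (e'.symm _) = _
    exact congrArg Subtype.val (e'.apply_symm_apply ⟨_, hrange x.1 x.2⟩)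
  refine ⟨⟨E, hfin, δ, hδ, fun x => ?_⟩, fun a ha => ?_⟩
  · apply Module.Flat.rTensor_preserves_injective_linearMap (M := H ⊗[R] H) E.subtype Subtype.val_injective
    have h1 : ∀ z : E ⊗[R] H, E.subtype.rTensor (H ⊗[R] H) (TensorProduct.assoc R E H H (δ.rTensor H z)) =
        TensorProduct.assoc R H H H ((comul (R := R)).rTensor H (E.subtype.rTensor H z)) := by
      intro z
      induction z using TensorProduct.induction_on with
      | zero => simp
      | add a b ha hb => simp only [map_add, ha, hb]
      | tmul a b =>
        simp only [LinearMap.rTensor_tmul, Submodule.subtype_apply, ← hδ a]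
        generalize δ a = w
        induction w using TensorProduct.induction_on with
        | zero => simp
        | add c d hc hd => simp only [map_add, add_tmul, hc, hd]
        | tmul c d => simp
    have h2 : ∀ z : E ⊗[R] H, E.subtype.rTensor (H ⊗[R] H) ((comul (R := R)).lTensor E z) =
        (comul (R := R)).lTensor H (E.subtype.rTensor H z) := by
      intro z
      induction z using TensorProduct.induction_on with
      | zero => simp
      | add a b ha hb => simp only [map_add, ha, hb]
      | tmul a b => simp
    rw [h1, h2, hδ, Coalgebra.coassoc_apply]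
  · rw [SetLike.mem_coe, LinearMap.mem_ker, LinearMap.comp_apply, hS a, map_sum]
    refine Finset.sum_eq_zero fun p hp => ?_
    rw [LinearMap.rTensor_tmul, show q p.1 = 0 from (Submodule.Quotient.mk_eq_zero V).mpr
      (Submodule.subset_span (Finset.mem_biUnion.mpr ⟨a, ha, Finset.mem_image_of_mem _ hp⟩)), zero_tmul]

namespace StableSub

variable (P : StableSub R H) (A : Type u) [CommRing A] [Algebra R A]

/-- The operator attached to a point. -/
def op (f : H →ₐ[R] A) : A ⊗[R] P.E →ₗ[A] A ⊗[R] P.E :=
  LinearMap.liftBaseChange A
    ((TensorProduct.comm R P.E A).toLinearMap ∘ₗ f.toLinearMap.lTensor P.E ∘ₗ P.coact)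

/-- The counit on the extended stable submodule. -/
def val : A ⊗[R] P.E →ₗ[A] A :=
  LinearMap.liftBaseChange A ((Algebra.linearMap R A) ∘ₗ counit ∘ₗ P.E.subtype)

theorem val_op (f : H →ₐ[R] A) (e : P.E) : P.val A (P.op A f (1 ⊗ₜ e)) = f (e : H) := by
  have h : ∀ z : P.E ⊗[R] H, P.val A ((TensorProduct.comm R P.E A) (f.toLinearMap.lTensor P.E z)) =
      f (TensorProduct.lid R H ((counit (R := R) (A := H)).rTensor H (P.E.subtype.rTensor H z))) := by
    intro z
    induction z using TensorProduct.induction_on with
    | zero => simp
    | add a b ha hb => simp only [map_add, ha, hb]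
    | tmul a b => simp [val, Algebra.smul_def, mul_comm]
  rw [op, LinearMap.liftBaseChange_tmul, one_smul, LinearMap.comp_apply, LinearMap.comp_apply, LinearEquiv.coe_coe,
    h, P.coact_val, Coalgebra.rTensor_counit_comul, TensorProduct.lid_tmul, one_smul]

theorem op_one : P.op A (1 : WithConv (H →ₐ[R] A)).ofConv = LinearMap.id := by
  refine LinearMap.ext fun z => ?_
  induction z using TensorProduct.induction_on with
  | zero => simp
  | add a b ha hb => simp only [map_add, ha, hb]
  | tmul a e =>
    rw [show a ⊗ₜ[R] e = a • ((1 : A) ⊗ₜ[R] e) by rw [TensorProduct.smul_tmul', smul_eq_mul, mul_one],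
      map_smul, LinearMap.id_apply]
    congr 1
    have hc : TensorProduct.rid R P.E ((counit (R := R) (A := H)).lTensor P.E (P.coact e)) = e := by
      apply Subtype.val_injective
      have h : ∀ z : P.E ⊗[R] H, ((TensorProduct.rid R P.E ((counit (R := R) (A := H)).lTensor P.E z) : P.E) : H) =
          TensorProduct.rid R H ((counit (R := R) (A := H)).lTensor H (P.E.subtype.rTensor H z)) := by
        intro z
        induction z using TensorProduct.induction_on with
        | zero => simp
        | add a b ha hb => simp only [map_add, Submodule.coe_add, ha, hb]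
        | tmul a b => simp
      rw [h, P.coact_val, Coalgebra.lTensor_counit_comul, TensorProduct.rid_tmul, one_smul]
    rw [op, LinearMap.liftBaseChange_tmul, one_smul]
    conv_rhs => rw [← hc]
    simp only [LinearMap.comp_apply, LinearEquiv.coe_coe]
    generalize P.coact e = z
    induction z using TensorProduct.induction_on with
    | zero => simp
    | add a b ha hb => simp only [map_add, tmul_add, ha, hb]
    | tmul a b => simp [AlgHom.convOne_apply, Algebra.algebraMap_eq_smul_one, TensorProduct.smul_tmul]

theorem op_mul (f g : WithConv (H →ₐ[R] A)) :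
    P.op A (f * g).ofConv = P.op A f.ofConv ∘ₗ P.op A g.ofConv := by
  refine LinearMap.ext fun z => ?_
  induction z using TensorProduct.induction_on with
  | zero => simp
  | add a b ha hb => simp only [map_add, ha, hb]
  | tmul a e =>
    rw [show a ⊗ₜ[R] e = a • ((1 : A) ⊗ₜ[R] e) by rw [TensorProduct.smul_tmul', smul_eq_mul, mul_one],
      map_smul, map_smul]
    congr 1
    let Φ : P.E ⊗[R] (H ⊗[R] H) →ₗ[R] A ⊗[R] P.E :=
      (TensorProduct.comm R P.E A).toLinearMap ∘ₗ
        LinearMap.lTensor P.E ((LinearMap.mul' R A) ∘ₗ TensorProduct.map f.ofConv.toLinearMap g.ofConv.toLinearMap)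
    have hl : ∀ z : P.E ⊗[R] H, (TensorProduct.comm R P.E A) ((f * g).ofConv.toLinearMap.lTensor P.E z) =
        Φ ((comul (R := R)).lTensor P.E z) := by
      intro z
      induction z using TensorProduct.induction_on with
      | zero => simp
      | add a b ha hb => simp only [map_add, ha, hb]
      | tmul a b =>
        simp only [Φ, LinearMap.comp_apply, LinearMap.lTensor_tmul, LinearEquiv.coe_coe]
        congr 2
    have hr : ∀ z : P.E ⊗[R] H, P.op A f.ofConv ((TensorProduct.comm R P.E A) (g.ofConv.toLinearMap.lTensor P.E z)) =
        Φ (TensorProduct.assoc R P.E H H (P.coact.rTensor H z)) := by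
      intro z
      induction z using TensorProduct.induction_on with
      | zero => simp
      | add a b ha hb => simp only [map_add, ha, hb]
      | tmul a b =>
        rw [LinearMap.lTensor_tmul, TensorProduct.comm_tmul, LinearMap.rTensor_tmul, op,
          LinearMap.liftBaseChange_tmul]
        simp only [LinearMap.comp_apply, LinearEquiv.coe_coe]
        generalize P.coact a = w
        induction w using TensorProduct.induction_on with
        | zero => simp
        | add c d hc hd => simp only [map_add, smul_add, add_tmul, hc, hd]
        | tmul c d => simp [Φ, TensorProduct.smul_tmul', mul_comm]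
    rw [LinearMap.comp_apply, show P.op A g.ofConv (1 ⊗ₜ[R] e) =
      (TensorProduct.comm R P.E A) (g.ofConv.toLinearMap.lTensor P.E (P.coact e)) by
        rw [op, LinearMap.liftBaseChange_tmul, one_smul]; rfl, hr, P.coassoc, ← hl, op, LinearMap.liftBaseChange_tmul,
      one_smul]
    rfl

end StableSub

end Groth.Agent.RankLib
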