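import Groth.Agent.RankLib.Fourier
import Groth.Agent.RankLib.Stable
import Mathlib.RingTheory.LocalRing.Module
import Mathlib.RingTheory.LocalRing.ResidueField.Ideal
import Mathlib.RingTheory.Flat.FaithfullyFlat.Basic
import Mathlib.RingTheory.Support
import Mathlib.RingTheory.Coalgebra.MonoidAlgebra
import Mathlib.RingTheory.Bialgebra.MonoidAlgebra
import Mathlib.RingTheory.Bialgebra.TensorProduct
import Mathlib.RingTheory.HopfAlgebra.MonoidAlgebra
import Mathlib.RingTheory.HopfAlgebra.TensorProduct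
import Mathlib.RingTheory.Localization.Away.Basic
import Mathlib.RingTheory.Polynomial.Basic

/-!
# Split tori from torsion points

An abelian group of torsion points of an affine group, reducing to the torsion points of a split torus of a fibre,
comes from a split torus near that fibre, as soon as the order of the points is large compared with the weights.
-/

set_option autoImplicit false
set_option backward.isDefEq.respectTransparency false
set_option backward.isDefEq.respectTransparency.types false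

universe u

open TensorProduct Coalgebra WithConv

noncomputable section

namespace Groth.Agent.RankLib

/-- A finite module is killed near a prime where its generators lie in a submodule modulo the prime. -/
theorem exists_smul_mem {A : Type u} [CommRing A] {N : Type u} [AddCommGroup N] [Module A N] {k : Type u} [Field k]
    [Algebra A k] (N' : Submodule A N) {G : Set N} (hG : G.Finite) (hspan : Submodule.span A G = ⊤)
    (h : ∀ z ∈ G, ∃ w ∈ N', (1 : k) ⊗ₜ[A] (z - w) = 0) :
    ∃ f : A, algebraMap A k f ≠ 0 ∧ ∀ z, f • z ∈ N' := by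
  haveI : Module.Finite A N := Module.finite_def.mpr (hspan ▸ Submodule.fg_span hG)
  let Q := N ⧸ N'
  let p : PrimeSpectrum A := ⟨RingHom.ker (algebraMap A k), RingHom.ker_isPrime _⟩
  haveI : p.asIdeal.IsPrime := p.2
  by_contra hcon
  push_neg at hcon
  have hp : p ∈ Module.support A Q := Module.mem_support_iff_of_finite.mpr fun f hf => by
    by_contra hne
    obtain ⟨z, hz⟩ := hcon f hne
    exact hz ((Submodule.Quotient.mk_eq_zero N').mp (by
      rw [Submodule.Quotient.mk_smul]
      exact Module.mem_annihilator.mp hf _))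
  haveI := (Module.mem_support_iff_nontrivial_residueField_tensorProduct p).mp hp
  let κ := p.asIdeal.ResidueField
  letI : Algebra κ k := (Ideal.ResidueField.lift p.asIdeal (algebraMap A k) le_rfl
    fun x hx => isUnit_iff_ne_zero.mpr hx).toAlgebra
  haveI : IsScalarTower A κ k := IsScalarTower.of_algebraMap_eq fun x => by
    show _ = Ideal.ResidueField.lift p.asIdeal (algebraMap A k) le_rfl _ _
    rw [Ideal.ResidueField.lift_algebraMap]
  haveI : Nontrivial (k ⊗[κ] (κ ⊗[A] Q)) := inferInstance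
  haveI : Nontrivial (k ⊗[A] Q) := (AlgebraTensorModule.cancelBaseChange A κ k k Q).toEquiv.symm.nontrivial
  have hz : ∀ z : N, (1 : k) ⊗ₜ[A] (N'.mkQ z) = 0 := fun z => by
    refine Submodule.span_induction (p := fun z _ => (1 : k) ⊗ₜ[A] (N'.mkQ z) = 0) (fun z hzG => ?_) ?_ ?_ ?_
      (hspan ▸ Submodule.mem_top : z ∈ Submodule.span A G)
    · obtain ⟨w, hw, e⟩ := h z hzG
      have := congrArg (LinearMap.lTensor k N'.mkQ) e
      rw [LinearMap.lTensor_tmul, map_sub, map_zero, show N'.mkQ w = 0 from (Submodule.Quotient.mk_eq_zero N').mpr hw,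
        sub_zero] at this
      exact this
    · simp
    · intro x y _ _ hx hy
      rw [map_add, tmul_add, hx, hy, add_zero]
    · intro c x _ hx
      rw [map_smul, tmul_smul, hx, smul_zero]
  obtain ⟨x, hx⟩ := exists_ne (0 : k ⊗[A] Q)
  apply hx
  induction x using TensorProduct.induction_on with
  | zero => rfl
  | tmul c q =>
    obtain ⟨z, rfl⟩ := N'.mkQ_surjective q
    rw [show c ⊗ₜ[A] N'.mkQ z = c • ((1 : k) ⊗ₜ[A] N'.mkQ z) by rw [TensorProduct.smul_tmul', smul_eq_mul, mul_one],
      hz, smul_zero]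
  | add a b ha hb =>
    by_cases h1 : a = 0
    · by_cases h2 : b = 0
      · rw [h1, h2, add_zero]
      · exact absurd (hb h2) h2
    · exact absurd (ha h1) h1

variable {n : ℕ} {A B : Type u} [CommRing A] [CommRing B]

namespace GoodRoot

/-- The image of a good root. -/
def map (ζ : GoodRoot A n) (f : A →+* B) : GoodRoot B n where
  z := Units.map f.toMonoidHom ζ.z
  pow_eq_one := by rw [← map_pow, ζ.pow_eq_one, map_one]
  isUnit_n := by simpa using ζ.isUnit_n.map f
  isUnit_sub d h0 hd := by simpa using (ζ.isUnit_sub d h0 hd).map f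

variable [NeZero n] (ζ : GoodRoot A n) (f : A →+* B) {r : ℕ}

theorem map_zp (x : ZMod n) : (ζ.map f).zp x = f (ζ.zp x) := by
  rw [← ZMod.natCast_zmod_val x, zp_natCast, zp_natCast, _root_.map_pow]
  rfl

theorem map_chi (t : Fin r → ZMod n) (m : Ex r) : (ζ.map f).chi t m = f (ζ.chi t m) := ζ.map_zp f _

omit [NeZero n] in
theorem map_cst (r : ℕ) : (ζ.map f).cst r = f (ζ.cst r) := by
  have h : (ζ.map f).isUnit_n.unit = Units.map f.toMonoidHom ζ.isUnit_n.unit := by
    ext
    simp
  simp only [cst, h, ← map_pow, ← map_inv]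
  rfl

theorem chi_congr (t : Fin r → ZMod n) {m v : Ex r} (h : ∀ i, (m.toAdd i : ZMod n) = v.toAdd i) :
    ζ.chi t m = ζ.chi t v := by
  show ζ.zp _ = ζ.zp _
  congr 1
  exact Finset.sum_congr rfl fun i _ => by rw [h i]

/-- The canonical exponent of a residue vector. -/
def rep (c : Fin r → ZMod n) : Ex r := Multiplicative.ofAdd fun i => ((c i).val : ℤ)

theorem sum_rep (t : Fin r → ZMod n) :
    ζ.cst r * ∑ c : Fin r → ZMod n, ζ.chi t (rep c)⁻¹ = if t = 0 then 1 else 0 := by
  have h : ∀ c : Fin r → ZMod n, ζ.chi t (rep c)⁻¹ = ζ.zp (∑ i, t i * (-c) i) := fun c => by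
    show ζ.zp _ = ζ.zp _
    congr 1
    refine Finset.sum_congr rfl fun i _ => ?_
    simp [rep, mul_comm]
  rw [Finset.sum_congr rfl fun c _ => h c,
    show (∑ c : Fin r → ZMod n, ζ.zp (∑ i, t i * (-c) i)) = ∑ c : Fin r → ZMod n, ζ.zp (∑ i, t i * c i) from
      Equiv.sum_comp (Equiv.neg (Fin r → ZMod n)) (fun c : Fin r → ZMod n => ζ.zp (∑ i, t i * c i))]
  split_ifs with h0
  · subst h0
    simp [zp_zero]
    simpa using ζ.cst_mul_card r
  · rw [ζ.sum_zp t h0, mul_zero]

end GoodRoot

/-- Postcomposition on points. -/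
def compPt {R H : Type u} [CommRing R] [CommRing H] [Bialgebra R H] [Algebra R A] [Algebra R B] (f : A →ₐ[R] B) :
    WithConv (H →ₐ[R] A) →* WithConv (H →ₐ[R] B) where
  toFun p := toConv (f.comp p.ofConv)
  map_one' := by
    refine WithConv.ext (AlgHom.ext fun h => ?_)
    simp [AlgHom.convOne_apply]
  map_mul' p q := by
    refine WithConv.ext (AlgHom.ext fun h => ?_)
    show f ((p * q) h) = (toConv (f.comp p.ofConv) * toConv (f.comp q.ofConv)) h
    rw [AlgHom.convMul_apply, AlgHom.convMul_apply]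
    generalize comul (R := R) h = w
    induction w using TensorProduct.induction_on with
    | zero => simp
    | add a b ha hb => simp only [map_add, ha, hb]
    | tmul a b => simp

variable {R H : Type u} [CommRing R] [CommRing H] [HopfAlgebra R H] [NeZero n] [Algebra R A]
  (P : StableSub R H) (ζ : GoodRoot A n) {r : ℕ}
  (ρ : Multiplicative (Fin r → ZMod n) →* WithConv (H →ₐ[R] A))

/-- The points of the torsion. -/
def pt (t : Fin r → ZMod n) : H →ₐ[R] A := (ρ (Multiplicative.ofAdd t)).ofConv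

theorem pt_add (s t : Fin r → ZMod n) :
    P.op A (pt ρ (s + t)) = P.op A (pt ρ s) ∘ₗ P.op A (pt ρ t) := by
  rw [pt, ofAdd_add, map_mul, P.op_mul]
  rfl

theorem pt_zero : P.op A (pt ρ 0) = LinearMap.id := by
  rw [pt, ofAdd_zero, map_one, P.op_one]

/-- The projection to a weight. -/
def proj (m : Ex r) : A ⊗[R] P.E →ₗ[A] A ⊗[R] P.E :=
  ζ.cst r • ∑ t : Fin r → ZMod n, ζ.chi t m⁻¹ • P.op A (pt ρ t)

theorem proj_congr {m v : Ex r} (h : ∀ i, (m.toAdd i : ZMod n) = v.toAdd i) : proj P ζ ρ m = proj P ζ ρ v := by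
  unfold proj
  congr 1
  exact Finset.sum_congr rfl fun t _ => by
    rw [ζ.chi_congr t (m := m⁻¹) (v := v⁻¹) fun i => by simp [h i]]

theorem op_proj (s : Fin r → ZMod n) (m : Ex r) (z : A ⊗[R] P.E) :
    P.op A (pt ρ s) (proj P ζ ρ m z) = ζ.chi s m • proj P ζ ρ m z := by
  simp only [proj, LinearMap.smul_apply, LinearMap.coe_sum, Finset.sum_apply, map_smul, map_sum, Finset.smul_sum,
    smul_smul]
  refine Eq.trans (Finset.sum_congr rfl fun t _ => ?_)
    (Equiv.sum_comp (Equiv.addLeft s)
      (fun t : Fin r → ZMod n => (ζ.chi s m * (ζ.cst r * ζ.chi t m⁻¹)) • P.op A (pt ρ t) z))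
  simp only [Equiv.coe_addLeft]
  rw [pt_add, LinearMap.comp_apply, ζ.chi_add]
  congr 1
  rw [show ζ.chi s m * (ζ.cst r * (ζ.chi s m⁻¹ * ζ.chi t m⁻¹)) =
    (ζ.chi s m * ζ.chi s m⁻¹) * (ζ.cst r * ζ.chi t m⁻¹) by ring, ← map_mul, mul_inv_cancel, map_one, one_mul]

theorem sum_proj (z : A ⊗[R] P.E) : ∑ c : Fin r → ZMod n, proj P ζ ρ (GoodRoot.rep c) z = z := by
  simp only [proj, LinearMap.smul_apply, LinearMap.coe_sum, Finset.sum_apply, Finset.smul_sum, smul_smul]
  rw [Finset.sum_comm]
  simp only [← Finset.sum_smul, ← Finset.mul_sum, ζ.sum_rep, ite_smul, one_smul, zero_smul]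
  rw [Finset.sum_ite_eq', if_pos (Finset.mem_univ _), pt_zero, LinearMap.id_apply]

theorem val_proj (m : Ex r) (e : P.E) :
    P.val A (proj P ζ ρ m (1 ⊗ₜ e)) = ζ.cst r * ∑ t : Fin r → ZMod n, ζ.chi t m⁻¹ * pt ρ t (e : H) := by
  simp [proj, P.val_op, map_sum]

variable {k : Type u} [Field k] [Algebra R k] (ψ : H →ₐ[R] Lau k r) (τ : A →ₐ[R] k)

/-- The reduced weight projection reads off the weights. -/
theorem map_proj (hk : ∀ t h, τ (pt ρ t h) = (ζ.map τ.toRingHom).ev t (ψ h)) (m : Ex r) (e : P.E) :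
    τ.toLinearMap.rTensor P.E (proj P ζ ρ m (1 ⊗ₜ e)) =
      TensorProduct.comm R P.E k ((((ζ.map τ.toRingHom).cf m).restrictScalars R ∘ₗ ψ.toLinearMap).lTensor P.E
        (P.coact e)) := by
  have h : proj P ζ ρ m (1 ⊗ₜ e) = ζ.cst r • ∑ t : Fin r → ZMod n, ζ.chi t m⁻¹ •
      (TensorProduct.comm R P.E A) ((pt ρ t).toLinearMap.lTensor P.E (P.coact e)) := by
    simp [proj, StableSub.op]
  rw [h]
  generalize P.coact e = z
  induction z using TensorProduct.induction_on with
  | zero => simp
  | add a b ha hb => simp only [map_add, smul_add, Finset.sum_add_distrib, ha, hb]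
  | tmul u h =>
    simp only [LinearMap.lTensor_tmul, TensorProduct.comm_tmul, TensorProduct.smul_tmul', ← TensorProduct.sum_tmul,
      LinearMap.rTensor_tmul]
    congr 1
    simp [GoodRoot.cf, hk, GoodRoot.map_cst, GoodRoot.map_chi, Finset.mul_sum]

/-- Near the fibre the values of the points have bounded weights. -/
theorem exists_bound (hk : ∀ t h, τ (pt ρ t h) = (ζ.map τ.toRingHom).ev t (ψ h)) {L : ℕ} {G : Set P.E}
    (hG : G.Finite) (hspan : Submodule.span R G = ⊤)
    (hcoact : ∀ e ∈ G, P.coact e ∈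
      LinearMap.range ((((Box k r L).restrictScalars R).comap ψ.toLinearMap).subtype.lTensor P.E)) :
    ∃ f : A, τ f ≠ 0 ∧ ∀ e : P.E, ∃ g ∈ Box A r L, ∀ t, ζ.ev t g = f * pt ρ t (e : H) := by
  classical
  let N' : Submodule A (A ⊗[R] P.E) := ⨆ m : boxSet r L, LinearMap.range (proj P ζ ρ m.1)
  letI : Algebra A k := τ.toRingHom.toAlgebra
  haveI : IsScalarTower R A k := IsScalarTower.of_algebraMap_eq fun x => (τ.commutes x).symm
  obtain ⟨f, hf, hmem⟩ := exists_smul_mem (k := k) N' (hG.image fun e => (1 : A) ⊗ₜ[R] e) (by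
    refine top_le_iff.mp fun z _ => ?_
    induction z using TensorProduct.induction_on with
    | zero => exact zero_mem _
    | add a b ha hb => exact add_mem (ha trivial) (hb trivial)
    | tmul a e =>
      rw [show a ⊗ₜ[R] e = a • ((1 : A) ⊗ₜ[R] e) by rw [TensorProduct.smul_tmul', smul_eq_mul, mul_one]]
      refine Submodule.smul_mem _ _ ?_
      refine Submodule.span_induction (p := fun e _ => (1 : A) ⊗ₜ[R] e ∈ _) ?_ ?_ ?_ ?_
        (hspan ▸ Submodule.mem_top : e ∈ Submodule.span R G)
      · exact fun x hx => Submodule.subset_span ⟨x, hx, rfl⟩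
      · rw [tmul_zero]; exact zero_mem _
      · intro x y _ _ hx hy; rw [tmul_add]; exact add_mem hx hy
      · intro c x _ hx; rw [tmul_smul]; exact Submodule.smul_of_tower_mem _ c hx) (by
    rintro _ ⟨e, he, rfl⟩
    let good : (Fin r → ZMod n) → Prop := fun c => ∃ v ∈ boxSet r L, ∀ i, (v.toAdd i : ZMod n) = c i
    have hrep : ∀ (c : Fin r → ZMod n) i, ((GoodRoot.rep c).toAdd i : ZMod n) = c i := fun c i => by
      simp [GoodRoot.rep]
    refine ⟨∑ c ∈ Finset.univ.filter good, proj P ζ ρ (GoodRoot.rep c) (1 ⊗ₜ e), sum_mem fun c hc => ?_, ?_⟩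
    · obtain ⟨v, hv, hvc⟩ := (Finset.mem_filter.mp hc).2
      rw [proj_congr P ζ ρ (v := v) fun i => (hrep c i).trans (hvc i).symm]
      exact Submodule.mem_iSup_of_mem (⟨v, hv⟩ : boxSet r L) (LinearMap.mem_range_self _ _)
    · apply (AlgebraTensorModule.cancelBaseChange R A k k P.E).injective
      rw [map_zero]
      have hsplit : ((1 : A) ⊗ₜ[R] e) - ∑ c ∈ Finset.univ.filter good, proj P ζ ρ (GoodRoot.rep c) (1 ⊗ₜ e) =
          ∑ c ∈ Finset.univ.filter fun c => ¬good c, proj P ζ ρ (GoodRoot.rep c) (1 ⊗ₜ e) := by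
        rw [sub_eq_iff_eq_add', Finset.sum_filter_add_sum_filter_not, sum_proj]
      rw [hsplit, TensorProduct.tmul_sum, map_sum]
      refine Finset.sum_eq_zero fun c hc => ?_
      have hθ : ∀ z : A ⊗[R] P.E, AlgebraTensorModule.cancelBaseChange R A k k P.E ((1 : k) ⊗ₜ[A] z) =
          τ.toLinearMap.rTensor P.E z := fun z => by
        induction z using TensorProduct.induction_on with
        | zero => simp
        | add a b ha hb => simp only [tmul_add, map_add, ha, hb]
        | tmul a x => simp [Algebra.smul_def, RingHom.algebraMap_toAlgebra]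
      rw [hθ, map_proj P ζ ρ ψ τ hk]
      obtain ⟨z, hz⟩ := hcoact e he
      rw [← hz, ← LinearMap.lTensor_comp_apply]
      convert map_zero (TensorProduct.comm R P.E k)
      suffices h0 : (((ζ.map τ.toRingHom).cf (GoodRoot.rep c)).restrictScalars R ∘ₗ ψ.toLinearMap) ∘ₗ
          (((Box k r L).restrictScalars R).comap ψ.toLinearMap).subtype = 0 by
        rw [h0]; simp
      refine LinearMap.ext fun x => ?_
      show (ζ.map τ.toRingHom).cf _ (ψ x.1) = 0
      have hx : ψ x.1 ∈ Box k r L := x.2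
      generalize ψ x.1 = w at hx ⊢
      induction hx using Submodule.span_induction with
      | mem y hy =>
        obtain ⟨v, hv, rfl⟩ := hy
        rw [GoodRoot.cf_single, if_neg fun hvc => (Finset.mem_filter.mp hc).2 ⟨v, hv, fun i =>
          (congrFun hvc i).trans (hrep c i)⟩]
      | zero => simp
      | add a b _ _ ha hb => rw [map_add, ha, hb, add_zero]
      | smul a b _ hb => rw [map_smul, hb, smul_zero])
  refine ⟨f, hf, fun e => ?_⟩
  have key : ∀ y ∈ N', ∃ g ∈ Box A r L, ∀ t, ζ.ev t g = P.val A (P.op A (pt ρ t) y) := fun y hy => by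
    refine Submodule.iSup_induction _ (motive := fun y => ∃ g ∈ Box A r L, ∀ t, ζ.ev t g = P.val A (P.op A (pt ρ t) y))
      hy (fun m z hz => ?_) ⟨0, zero_mem _, fun t => by simp⟩ ?_
    · obtain ⟨w, rfl⟩ := hz
      refine ⟨MonoidAlgebra.single m.1 (P.val A (proj P ζ ρ m.1 w)), single_mem_box m.2 _, fun t => ?_⟩
      rw [GoodRoot.ev_single, op_proj, map_smul, smul_eq_mul, mul_comm]
    · rintro x y ⟨gx, hgx, hx⟩ ⟨gy, hgy, hy⟩
      exact ⟨gx + gy, add_mem hgx hgy, fun t => by simp [hx t, hy t]⟩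
  obtain ⟨g, hg, hev⟩ := key _ (hmem ((1 : A) ⊗ₜ e))
  exact ⟨g, hg, fun t => by rw [hev, map_smul, map_smul, P.val_op, smul_eq_mul]⟩

omit [NeZero n] in
theorem exists_box {C : Type u} [CommRing C] (g : Lau C r) : ∃ L, g ∈ Box C r L := by
  induction g using MonoidAlgebra.induction_linear with
  | zero => exact ⟨0, zero_mem _⟩
  | add a b ha hb =>
    obtain ⟨L, hL⟩ := ha
    obtain ⟨L', hL'⟩ := hb
    exact ⟨max L L', add_mem (box_mono (le_max_left _ _) hL) (box_mono (le_max_right _ _) hL')⟩
  | single m c =>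
    exact ⟨Finset.univ.sup fun i => (m.toAdd i).natAbs, single_mem_box (mem_boxSet.mpr fun i => by
      rw [Int.abs_eq_natAbs]
      exact_mod_cast Finset.le_sup (f := fun i => (m.toAdd i).natAbs) (Finset.mem_univ i)) c⟩

/-- Extension of coefficients. -/
def lauMap {C D : Type u} [CommRing C] [CommRing D] [Algebra C D] : Lau C r →ₐ[C] Lau D r :=
  MonoidAlgebra.lift C (Lau D r) _ (MonoidAlgebra.of D (Ex r))

theorem lauMap_single {C D : Type u} [CommRing C] [CommRing D] [Algebra C D] (m : Ex r) (c : C) :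
    lauMap (D := D) (MonoidAlgebra.single m c) = MonoidAlgebra.single m (algebraMap C D c) := by
  simp [lauMap, MonoidAlgebra.lift_single, Algebra.smul_def]

theorem ev_lauMap {C D : Type u} [CommRing C] [CommRing D] [Algebra C D] (ξ : GoodRoot C n) (t : Fin r → ZMod n)
    (g : Lau C r) : (ξ.map (algebraMap C D)).ev t (lauMap g) = algebraMap C D (ξ.ev t g) := by
  induction g using MonoidAlgebra.induction_linear with
  | zero => simp
  | add a b ha hb => simp only [map_add, ha, hb]
  | single m c => simp [lauMap_single, GoodRoot.ev_single, GoodRoot.map_chi]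

omit [NeZero n] in
theorem lauMap_mem_box {C D : Type u} [CommRing C] [CommRing D] [Algebra C D] {L : ℕ} {g : Lau C r}
    (hg : g ∈ Box C r L) : lauMap (D := D) g ∈ Box D r L := by
  induction hg using Submodule.span_induction with
  | mem x hx =>
    obtain ⟨m, hm, rfl⟩ := hx
    rw [lauMap_single]
    exact single_mem_box hm _
  | zero => rw [map_zero]; exact zero_mem _
  | add a b _ _ ha hb => rw [map_add]; exact add_mem ha hb
  | smul c x _ hx =>
    rw [map_smul, ← algebraMap_smul D c (lauMap (D := D) x)]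
    exact Submodule.smul_mem _ _ hx

omit [NeZero n] in
theorem comul_mem_box2 {C : Type u} [CommRing C] {L : ℕ} {g : Lau C r} (hg : g ∈ Box C r L) :
    comul (R := C) g ∈ GoodRoot.Box2 C r L := by
  induction hg using Submodule.span_induction with
  | mem x hx =>
    obtain ⟨m, hm, rfl⟩ := hx
    rw [MonoidAlgebra.comul_single, CommSemiring.comul_apply, TensorProduct.map_tmul]
    exact Submodule.subset_span ⟨_, single_mem_box hm _, _, single_mem_box hm _, rfl⟩
  | zero => rw [map_zero]; exact zero_mem _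
  | add a b _ _ ha hb => rw [map_add]; exact add_mem ha hb
  | smul c x _ hx => rw [map_smul]; exact Submodule.smul_mem _ _ hx

end Groth.Agent.RankLib
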